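import Cfsg.Agent.Helper57SemiClass
import Cfsg.Agent.Lib.AutPSL.FieldGalois

/-!
Field automorphisms of a quadratic form whose coefficients they fix: descent to the fixed field and
the elements of a coset `Sim(Q)·σ` of bounded order.
-/

set_option autoImplicit false
set_option linter.unusedSectionVars false

namespace CfsgLib.FieldPOmega

open Matrix QuadraticMap CfsgLib.Orth Cfsg.Agent.GammaO57 CfsgLib.FieldGalois

variable {F : Type*} [Field F] {ι : Type} [Fintype ι] [DecidableEq ι]

/-- `σ` fixes the coefficients of `Q`. -/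
def Fixes (σ : F ≃+* F) (Q : QuadraticForm F (ι → F)) : Prop :=
  ∀ v : ι → F, Q (σ ∘ v) = σ (Q v)

theorem ext_of_basis {Q₁ Q₂ : QuadraticForm F (ι → F)}
    (h1 : ∀ i, Q₁ (Pi.single i 1) = Q₂ (Pi.single i 1))
    (h2 : ∀ i j, polar Q₁ (Pi.single i 1) (Pi.single j 1) = polar Q₂ (Pi.single i 1) (Pi.single j 1)) :
    Q₁ = Q₂ := by
  have hB : Q₁.polarBilin = Q₂.polarBilin :=
    (Pi.basisFun F ι).ext fun i => (Pi.basisFun F ι).ext fun j => by simpa using h2 i j
  refine QuadraticMap.ext fun v => ?_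
  rw [pi_eq_sum_univ' v]
  induction (Finset.univ : Finset ι) using Finset.induction with
  | empty => simp
  | insert i s hi ih =>
    rw [Finset.sum_insert hi, QuadraticMap.map_add ⇑Q₁, QuadraticMap.map_add ⇑Q₂, ih,
      QuadraticMap.map_smul, QuadraticMap.map_smul, h1 i]
    congr 1
    exact LinearMap.congr_fun (LinearMap.congr_fun hB _) _

section BaseChange

variable {F₀ : Type*} [Field F₀] (e : F₀ →+* F) {Q₀ : QuadraticForm F₀ (ι → F₀)}
  {Q : QuadraticForm F (ι → F)}

/-- `Q` is the extension of scalars of `Q₀`. -/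
def Extends (e : F₀ →+* F) (Q₀ : QuadraticForm F₀ (ι → F₀)) (Q : QuadraticForm F (ι → F)) : Prop :=
  ∀ w : ι → F₀, Q (e ∘ w) = e (Q₀ w)

variable {e}

theorem comp_single (i : ι) : e ∘ (Pi.single i 1 : ι → F₀) = Pi.single i 1 := by
  funext k; simp [Pi.single_apply, apply_ite e]

theorem comp_add' (v w : ι → F₀) : e ∘ (v + w) = e ∘ v + e ∘ w := funext fun k => by simp

theorem comp_smul' (c : F₀) (v : ι → F₀) : e ∘ (c • v) = e c • (e ∘ v) := funext fun k => by simp

theorem map_mulVec_comp (A : Matrix ι ι F₀) (v : ι → F₀) : A.map e *ᵥ (e ∘ v) = e ∘ (A *ᵥ v) :=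
  funext fun i => (RingHom.map_mulVec e A v i).symm

theorem Extends.polar_comp (h : Extends e Q₀ Q) (v w : ι → F₀) :
    polar Q (e ∘ v) (e ∘ w) = e (polar Q₀ v w) := by
  simp only [QuadraticMap.polar, map_sub]
  rw [← comp_add', h, h, h]

theorem Extends.eq_comp (h : Extends e Q₀ Q) {Q' : QuadraticForm F (ι → F)} (h' : Extends e Q₀ Q') :
    Q = Q' :=
  ext_of_basis (fun i => by rw [← comp_single (e := e), h, h'])
    (fun i j => by rw [← comp_single (e := e), ← comp_single (e := e) j, h.polar_comp, h'.polar_comp])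

theorem Extends.nondeg (h : Extends e Q₀ Q) (hQ : Q.polarBilin.Nondegenerate) :
    Q₀.polarBilin.Nondegenerate := by
  have key : ∀ x, (∀ y, polar Q₀ x y = 0) → x = 0 := by
    intro x hx
    have h0 : Q.polarBilin (e ∘ x) = 0 := (Pi.basisFun F ι).ext fun j => by
      show polar Q (e ∘ x) (Pi.basisFun F ι j) = 0
      rw [Pi.basisFun_apply, ← comp_single (e := e), h.polar_comp, hx, map_zero]
    have h1 := hQ.1 (e ∘ x) fun y => LinearMap.congr_fun h0 y
    funext k
    exact (map_eq_zero e).1 (congrFun h1 k)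
  exact ⟨key, fun x hx => key x fun y => by rw [polar_comm]; exact hx y⟩

/-- An isometry over the subfield gives one over the field. -/
theorem Extends.map_mem (h : Extends e Q₀ Q) {g : GL ι F₀} (hg : g ∈ O Q₀) :
    Matrix.GeneralLinearGroup.map e g ∈ O Q := by
  have hext : Extends e Q₀
      (Q.comp (Matrix.mulVecLin ((g : Matrix ι ι F₀).map e))) := by
    intro w
    rw [QuadraticMap.comp_apply, Matrix.mulVecLin_apply, map_mulVec_comp, h, (mem_O_iff g).1 hg w]
  rw [mem_O_iff]
  intro v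
  exact (congrArg (fun R : QuadraticForm F (ι → F) => R v) (h.eq_comp hext)).symm

/-- Extension of scalars on isometries. -/
def Extends.mapO (h : Extends e Q₀ Q) : O Q₀ →* O Q where
  toFun g := ⟨Matrix.GeneralLinearGroup.map e (g : GL ι F₀), h.map_mem g.2⟩
  map_one' := Subtype.ext (map_one _)
  map_mul' a b := Subtype.ext (map_mul _ _ _)

theorem Extends.coe_mapO (h : Extends e Q₀ Q) (g : O Q₀) :
    ((h.mapO g : O Q) : GL ι F) = Matrix.GeneralLinearGroup.map e (g : GL ι F₀) := rfl

theorem Extends.app_mapO (h : Extends e Q₀ Q) (g : O Q₀) (w : ι → F₀) :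
    app (h.mapO g) (e ∘ w) = e ∘ app g w := by
  rw [app_apply, app_apply]
  exact map_mulVec_comp _ w

theorem Extends.mapO_injective (h : Extends e Q₀ Q) : Function.Injective h.mapO := by
  intro a b hab
  apply Subtype.ext; apply Units.ext; ext i j
  exact e.injective (congrArg (fun g : O Q => ((g : GL ι F) : Matrix ι ι F) i j) hab)

theorem Extends.mapO_refl (h : Extends e Q₀ Q) (v : ι → F₀) :
    h.mapO (refl Q₀ v) = refl Q (e ∘ v) := by
  apply Subtype.ext; apply Units.ext; apply Matrix.ext_of_mulVec_single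
  intro i
  show app (h.mapO (refl Q₀ v)) (Pi.single i 1) = app (refl Q (e ∘ v)) (Pi.single i 1)
  rw [← comp_single (e := e), h.app_mapO, app_refl, app_refl, h v, h.polar_comp]
  funext k
  simp [map_inv₀]

theorem Extends.detHom_mapO (h : Extends e Q₀ Q) (g : O Q₀) :
    detHom Q (h.mapO g) = Units.map e.toMonoidHom (detHom Q₀ g) :=
  GeneralLinearGroup.map_det e (g : GL ι F₀)

/-- A matrix with entries in the subfield that is an isometry of `Q` comes from the subfield. -/
theorem Extends.exists_mapO (h : Extends e Q₀ Q) (g : O Q)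
    (hg : ∀ i j, ∃ a, e a = ((g : GL ι F) : Matrix ι ι F) i j) : ∃ g₀ : O Q₀, h.mapO g₀ = g := by
  choose a ha using hg
  set A : Matrix ι ι F₀ := Matrix.of a
  have hA : A.map e = ((g : GL ι F) : Matrix ι ι F) := by ext i j; exact ha i j
  have hdet : A.det ≠ 0 := fun h0 => (GeneralLinearGroup.det (g : GL ι F)).ne_zero (by
    show ((g : GL ι F) : Matrix ι ι F).det = 0
    rw [← hA, ← RingHom.mapMatrix_apply, ← RingHom.map_det, h0, map_zero])
  set g₀ := GeneralLinearGroup.mkOfDetNeZero A hdet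
  have hmem : g₀ ∈ O Q₀ := by
    rw [mem_O_iff]
    intro w
    apply e.injective
    rw [← h, ← h]
    show Q (e ∘ (A *ᵥ w)) = _
    rw [← map_mulVec_comp, hA]
    exact Q_app g _
  exact ⟨⟨g₀, hmem⟩, Subtype.ext (Units.ext hA)⟩

end BaseChange

section Descent

variable {σ : F ≃+* F} {Q : QuadraticForm F (ι → F)}

/-- A `σ`-fixed form as a form over the fixed field. -/
def descend (h : Fixes σ Q) : QuadraticForm (fixedSub σ) (ι → fixedSub σ) :=
  QuadraticMap.ofPolar
    (fun w => ⟨Q ((fixedSub σ).subtype ∘ w), by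
      rw [mem_fixedSub, ← h]; congr 1; funext i; exact (w i).2⟩)
    (fun a x => Subtype.ext (by
      show Q ((fixedSub σ).subtype ∘ (a • x)) = ((a : F) * a) * Q _
      rw [comp_smul', QuadraticMap.map_smul]; rfl))
    (fun x x' y => Subtype.ext (by
      show Q ((fixedSub σ).subtype ∘ (x + x' + y)) - _ - _ = (Q _ - _ - _) + (Q _ - _ - _)
      simp only [comp_add']
      exact polar_add_left (Q := Q) _ _ _))
    (fun a x y => Subtype.ext (by
      show Q ((fixedSub σ).subtype ∘ (a • x + y)) - Q _ - _ = (a : F) * (Q _ - _ - _)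
      simp only [comp_add', comp_smul']
      exact polar_smul_left (Q := Q) _ _ _))

theorem descend_extends (h : Fixes σ Q) : Extends (fixedSub σ).subtype (descend h) Q :=
  fun _ => rfl

end Descent

section Semi

variable {Q : QuadraticForm F (ι → F)} {σ : F ≃+* F}

/-- The field semisimilarity. -/
def fEl (hσ : Fixes σ Q) : ↥(semiGroup Q) :=
  ⟨SemidirectProduct.inr σ, ⟨1, fun v => by
    show Q ((1 : Matrix ι ι F) *ᵥ (σ ∘ v)) = _
    rw [one_mulVec, hσ, Units.val_one, one_mul]; rfl⟩⟩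

theorem fEl_left (hσ : Fixes σ Q) : (fEl hσ).1.left = 1 := rfl

theorem fEl_right (hσ : Fixes σ Q) : (fEl hσ).1.right = σ := rfl

theorem gAut_induced (x : ↥(semiGroup Q)) :
    Cfsg.IsInducedBySemilinearPOmega (⇑Q) x.1.left x.1.right (gAut Q x) := by
  intro s s' h
  rw [gAut_mk]
  exact congrArg _ (Subtype.ext (Subtype.ext (Units.ext h.symm)))

theorem eq_gAut_of_induced (x : ↥(semiGroup Q)) {β : MulAut (Cfsg.POmega F ⇑Q)}
    (hβ : Cfsg.IsInducedBySemilinearPOmega (⇑Q) x.1.left x.1.right β) : β = gAut Q x := by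
  apply MulEquiv.ext
  intro y
  induction y using QuotientGroup.induction_on with
  | _ s => rw [gAut_mk]; exact hβ s _ rfl

theorem eq_gAut_of_field (hσ : Fixes σ Q) {φ : MulAut (Cfsg.POmega F ⇑Q)}
    (hφ : Cfsg.IsFieldAutPOmegaOf (⇑Q) σ φ) : φ = gAut Q (fEl hσ) := by
  refine eq_gAut_of_induced _ fun s s' h => hφ s s' ?_
  rw [h, fEl_left, fEl_right, inv_one, Units.val_one, one_mul, mul_one]

theorem pow_coset (x : GL ι F) (k : ℕ) :
    ((⟨x, σ⟩ : GLS ι F) ^ k) = ⟨cocy σ x k, σ ^ k⟩ := by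
  induction k with
  | zero => ext1 <;> simp [cocy]
  | succ k ih =>
    rw [pow_succ', ih]
    ext1
    · rfl
    · exact (pow_succ' σ k).symm

theorem inl_mul_fEl (hσ : Fixes σ Q) (x : ↥(semiGroup Q)) (h1 : x.1.right = 1) :
    (x * fEl hσ).1 = ⟨x.1.left, σ⟩ := by
  ext1 <;> simp [fEl, h1]

theorem scalar_comm (c : Fˣ) (g : GL ι F) :
    GeneralLinearGroup.scalar ι c * g = g * GeneralLinearGroup.scalar ι c :=
  Units.ext ((Matrix.scalar_commute (c : F) (fun _ => Commute.all _ _) _).eq)

theorem scalar_inj [Nonempty ι] {c d : Fˣ}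
    (h : GeneralLinearGroup.scalar ι c = GeneralLinearGroup.scalar ι d) : c = d := by
  obtain ⟨i⟩ := ‹Nonempty ι›
  apply Units.ext
  simpa using congrArg (fun g : GL ι F => (g : Matrix ι ι F) i i) h

theorem scalar_mulVec (c : Fˣ) (v : ι → F) :
    (GeneralLinearGroup.scalar ι c : Matrix ι ι F) *ᵥ v = (c : F) • v := by
  show Matrix.scalar ι (c : F) *ᵥ v = _
  rw [Matrix.scalar_apply, ← Matrix.smul_one_eq_diagonal, smul_mulVec, one_mulVec]

theorem map_scalar' (σ : F ≃+* F) (c : Fˣ) :
    GeneralLinearGroup.map σ.toRingHom (GeneralLinearGroup.scalar ι c) =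
      GeneralLinearGroup.scalar ι (Units.map σ.toMonoidHom c) := GeneralLinearGroup.map_scalar _ _

theorem cocy_scalar_fixed [Nonempty ι] {g : GL ι F} {c : Fˣ}
    (h : cocy σ g (orderOf σ) = GeneralLinearGroup.scalar ι c) : σ (c : F) = c := by
  have hp : (⟨g, σ⟩ : GLS ι F) * ⟨g, σ⟩ ^ orderOf σ = ⟨g, σ⟩ ^ orderOf σ * ⟨g, σ⟩ :=
    (Commute.self_pow _ _).eq
  rw [pow_coset, h, pow_orderOf_eq_one] at hp
  have h1 := congrArg SemidirectProduct.left hp
  simp only [SemidirectProduct.mul_left, map_one, MulAut.one_apply] at h1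
  change g * GeneralLinearGroup.map σ.toRingHom (GeneralLinearGroup.scalar ι c) =
    GeneralLinearGroup.scalar ι c * g at h1
  rw [map_scalar', scalar_comm c g, mul_right_inj] at h1
  exact congrArg Units.val (scalar_inj h1)

theorem cocy_scalar_mul (x : Fˣ) (g : GL ι F) (k : ℕ) :
    cocy σ (GeneralLinearGroup.scalar ι x * g) k =
      GeneralLinearGroup.scalar ι (∏ i ∈ Finset.range k, Units.map (σ ^ i).toMonoidHom x) *
        cocy σ g k := by
  induction k with
  | zero => simp [cocy]
  | succ k ih =>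
    have e : (∏ i ∈ Finset.range (k + 1), Units.map (σ ^ i).toMonoidHom x) =
        x * Units.map σ.toMonoidHom (∏ i ∈ Finset.range k, Units.map (σ ^ i).toMonoidHom x) := by
      rw [Finset.prod_range_succ', map_prod, mul_comm]
      congr 1
      exact Finset.prod_congr rfl fun i _ => by ext; rw [pow_succ']; rfl
    rw [e, cocy, cocy, ih, map_mul, map_scalar', map_mul (GeneralLinearGroup.scalar ι)]
    simp only [mul_assoc]
    congr 1
    rw [← mul_assoc, ← scalar_comm, mul_assoc]

variable [Finite F]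

theorem norm_adjust {g : GL ι F} {c : Fˣ} [Nonempty ι]
    (h : cocy σ g (orderOf σ) = GeneralLinearGroup.scalar ι c) :
    ∃ x : Fˣ, cocy σ (GeneralLinearGroup.scalar ι x * g) (orderOf σ) = 1 := by
  obtain ⟨x, hx⟩ := exists_norm_eq σ (c := c⁻¹)
    (by rw [Units.val_inv_eq_inv_val, map_inv₀, cocy_scalar_fixed h])
  refine ⟨x, ?_⟩
  rw [cocy_scalar_mul, h, Finset.prod_range (fun i => Units.map (σ ^ i).toMonoidHom x), ← normU_apply,
    hx, ← map_mul, inv_mul_cancel, map_one]

/-- Lang's theorem for similitudes: a similitude with trivial cocycle is `h σ(h)⁻¹` for an `h` carrying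
`Q` to a `σ`-fixed form. -/
theorem lang_form (hσ : Fixes σ Q) (hQ0 : ∃ v, Q v ≠ 0) {g : GL ι F} {μ : Fˣ}
    (hg : ∀ v, Q ((g : Matrix ι ι F) *ᵥ v) = (μ : F) * Q v) (h : cocy σ g (orderOf σ) = 1) :
    ∃ (k : GL ι F) (y : Fˣ), g * GeneralLinearGroup.map σ.toRingHom k = k ∧
      Fixes σ ((((y⁻¹ : Fˣ) : F)) • Q.comp (Matrix.mulVecLin (k : Matrix ι ι F))) := by
  obtain ⟨k, hk⟩ := exists_of_cocy_eq_one σ g h
  have hit : ∀ (j : ℕ) (v : ι → F), Q ((cocy σ g j : Matrix ι ι F) *ᵥ v) =
      ((∏ i ∈ Finset.range j, Units.map (σ ^ i).toMonoidHom μ : Fˣ) : F) * Q v := by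
    intro j
    induction j with
    | zero => intro v; simp [cocy]
    | succ j ih =>
      intro v
      have hv : (GeneralLinearGroup.map σ.toRingHom (cocy σ g j) : Matrix ι ι F) *ᵥ v =
          σ ∘ ((cocy σ g j : Matrix ι ι F) *ᵥ (σ.symm ∘ v)) := by
        rw [map_mulVec']
        congr 1
        exact funext fun i => (σ.apply_symm_apply _).symm
      rw [cocy, Units.val_mul, ← mulVec_mulVec, hg, hv, hσ, ih, map_mul, ← hσ,
        show σ ∘ (σ.symm ∘ v) = v from funext fun i => σ.apply_symm_apply _, ← mul_assoc]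
      congr 1
      rw [Finset.prod_range_succ', Units.val_mul, Units.coe_prod, Units.coe_prod, map_prod, mul_comm]
      congr 1
      exact Finset.prod_congr rfl fun i _ => by rw [pow_succ']; rfl
  have hN : normU σ μ = 1 := by
    obtain ⟨v, hv⟩ := hQ0
    have h1 := hit (orderOf σ) v
    rw [h, Units.val_one, one_mulVec, Finset.prod_range (fun i => Units.map (σ ^ i).toMonoidHom μ),
      ← normU_apply] at h1
    exact Units.ext (mul_right_cancel₀ hv (h1.symm.trans (one_mul _).symm))
  obtain ⟨y, hy⟩ := hilbert90 σ hN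
  refine ⟨k, y, hk, fun v => ?_⟩
  have h1 : (k : Matrix ι ι F) *ᵥ (σ ∘ v) = (g : Matrix ι ι F) *ᵥ (σ ∘ ((k : Matrix ι ι F) *ᵥ v)) := by
    rw [map_mulVec', mulVec_mulVec]
    exact congrArg (fun A : GL ι F => (A : Matrix ι ι F) *ᵥ (σ ∘ v)) hk.symm
  simp only [_root_.smul_apply, QuadraticMap.comp_apply, Matrix.mulVecLin_apply, h1, hg,
    smul_eq_mul, map_mul, ← mul_assoc]
  congr 1
  swap
  · exact hσ _
  have hy' : (μ : F) * σ (y : F) = y := congrArg Units.val hy
  rw [Units.val_inv_eq_inv_val, map_inv₀]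
  have h0 : σ (y : F) ≠ 0 := by simp
  field_simp
  linear_combination hy'

/-- Twisted `σ`-invariance of a group element up to a scalar of norm one. -/
theorem exists_fixed_scalar [Nonempty ι] {g : GL ι F} {c : Fˣ}
    (h : GeneralLinearGroup.map σ.toRingHom g = GeneralLinearGroup.scalar ι c * g) :
    ∃ x : Fˣ, GeneralLinearGroup.map σ.toRingHom (GeneralLinearGroup.scalar ι x * g) =
      GeneralLinearGroup.scalar ι x * g := by
  have hk : ∀ k : ℕ, glAut ι F (σ ^ k) g = GeneralLinearGroup.scalar ι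
      (∏ i ∈ Finset.range k, Units.map (σ ^ i).toMonoidHom c) * g := by
    intro k
    induction k with
    | zero => rw [pow_zero, map_one]; simp
    | succ k ih =>
      rw [pow_succ, map_mul, MulAut.mul_apply,
        show glAut ι F σ g = GeneralLinearGroup.scalar ι c * g from h, map_mul, ih,
        show glAut ι F (σ ^ k) (GeneralLinearGroup.scalar ι c) = _ from map_scalar' (σ ^ k) c,
        ← mul_assoc, ← map_mul, Finset.prod_range_succ, mul_comm (∏ i ∈ _, _) _]
  have hN : normU σ c = 1 := by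
    have h1 := hk (orderOf σ)
    rw [pow_orderOf_eq_one, map_one, MulAut.one_apply,
      Finset.prod_range (fun i => Units.map (σ ^ i).toMonoidHom c), ← normU_apply] at h1
    refine (scalar_inj (ι := ι) (mul_right_cancel (b := g) ?_)).symm
    rw [← h1, map_one, one_mul]
  obtain ⟨y, hy⟩ := hilbert90 σ hN
  refine ⟨y, ?_⟩
  rw [map_mul, map_scalar', h, ← mul_assoc, ← map_mul, mul_comm _ c, hy]

end Semi

end CfsgLib.FieldPOmega
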