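/-
Siegel transformations `E(u, a)`: dependence on the plane, fixed and moved vectors, injectivity.
-/
import Cfsg.Agent.Lib.Orth.Siegel
import Cfsg.Agent.Lib.Forms.Witt

set_option autoImplicit false
set_option linter.unusedSectionVars false

namespace CfsgLib.AutPOmega

open Matrix QuadraticMap CfsgLib.Orth

variable {ι : Type} [Fintype ι] [DecidableEq ι] {F : Type*} [Field F] {Q : QuadraticForm F (ι → F)}

theorem polar_self_sing {u : ι → F} (hu : Q u = 0) : polar Q u u = 0 := by
  rw [polar_self', hu, mul_zero]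

theorem app_pow_one {u a : ι → F} (hu : Q u = 0) (ha : polar Q u a = 0) (n : ℕ) :
    eich Q u a ^ n = eich Q u ((n : F) • a) := by
  induction n with
  | zero =>
    rw [pow_zero, Nat.cast_zero, zero_smul, ← zero_smul F u, eich_smul_self hu]
  | succ n ih =>
    rw [pow_succ, ih, eich_add hu (by rw [polar_smul_right, ha, smul_zero]) ha, Nat.cast_succ,
      add_smul, one_smul]

theorem eich_inv {u a : ι → F} (hu : Q u = 0) (ha : polar Q u a = 0) :
    (eich Q u a)⁻¹ = eich Q u (-a) := by
  rw [inv_eq_iff_mul_eq_one, eich_add hu ha (by rw [polar_neg_right, ha, neg_zero]), add_neg_cancel,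
    ← zero_smul F u, eich_smul_self hu]

theorem eich_zero_right {u : ι → F} (hu : Q u = 0) : eich Q u 0 = 1 := by
  rw [← zero_smul F u, eich_smul_self hu]

theorem eich_add_smul {u a : ι → F} (hu : Q u = 0) (ha : polar Q u a = 0) (s : F) :
    eich Q u (a + s • u) = eich Q u a := by
  rw [← eich_add hu ha (by rw [polar_smul_right, polar_self_sing hu, smul_zero]), eich_smul_self hu,
    mul_one]

theorem eich_smul_left {u a : ι → F} (hu : Q u = 0) (ha : polar Q u a = 0) (s : F) :
    eich Q (s • u) a = eich Q u (s • a) :=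
  ext_app fun x => by
    have h1 : Q (s • u) = 0 := by rw [QuadraticMap.map_smul, hu, smul_zero]
    have h2 : polar Q (s • u) a = 0 := by rw [polar_smul_left, ha, smul_zero]
    have h3 : polar Q u (s • a) = 0 := by rw [polar_smul_right, ha, smul_zero]
    rw [app_eich h1 h2, app_eich hu h3, QuadraticMap.map_smul, polar_smul_right, polar_smul_right]
    simp only [smul_eq_mul]
    module

/-- For a totally singular pair the transformation is bilinear alternating in the pair. -/
theorem app_eich_sing {u a : ι → F} (hu : Q u = 0) (ha : Q a = 0) (hua : polar Q u a = 0)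
    (x : ι → F) : app (eich Q u a) x = x + polar Q x u • a - polar Q x a • u := by
  rw [app_eich hu hua, ha]; module

theorem eich_comb {u a : ι → F} (hu : Q u = 0) (ha : Q a = 0) (hua : polar Q u a = 0)
    (p r s t : F) :
    eich Q (p • u + r • a) (s • u + t • a) = eich Q u ((p * t - r * s) • a) :=
  ext_app fun x => by
    have hau : polar Q a u = 0 := by rw [polar_comm, hua]
    have h1 : ∀ c d : F, Q (c • u + d • a) = 0 := fun c d => by
      rw [QuadraticMap.map_add ⇑Q, QuadraticMap.map_smul, QuadraticMap.map_smul, hu, ha,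
        polar_smul_left, polar_smul_right, hua]
      simp
    have h2 : polar Q (p • u + r • a) (s • u + t • a) = 0 := by
      simp [polar_add_left, polar_add_right, polar_smul_left, polar_smul_right, hua, hau,
        polar_self_sing hu, polar_self_sing ha]
    rw [app_eich_sing (h1 _ _) (h1 _ _) h2, app_eich_sing hu
      (by rw [QuadraticMap.map_smul, ha, smul_zero]) (by rw [polar_smul_right, hua, smul_zero])]
    simp only [polar_add_right, polar_smul_right, smul_eq_mul]
    module

theorem app_eich_of_ortho {u a x : ι → F} (hu : Q u = 0) (ha : polar Q u a = 0)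
    (h1 : polar Q x u = 0) (h2 : polar Q x a = 0) : app (eich Q u a) x = x := by
  rw [app_eich hu ha, h1, h2]; simp

theorem app_eich_self {u a : ι → F} (hu : Q u = 0) (ha : polar Q u a = 0) :
    app (eich Q u a) u = u := app_eich_of_ortho hu ha (polar_self_sing hu) ha

/-- An element fixing `x` whose product with a central sign agrees with one fixing `x` is equal to it. -/
theorem eq_of_fix {g h : O Q} {c : F} (hc : ∀ v, app g v = c • app h v) {x : ι → F} (hx : x ≠ 0)
    (hg : app g x = x) (hh : app h x = x) : g = h := by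
  have h1 := hc x
  rw [hg, hh] at h1
  have hc1 : c = 1 := by
    by_contra hne
    exact hx ((smul_eq_zero.1 (show (c - 1) • x = 0 by rw [sub_smul, one_smul, ← h1, sub_self])).resolve_left
      (sub_ne_zero.2 hne))
  exact ext_app fun v => by rw [hc, hc1, one_smul]

variable (hQ : Q.polarBilin.Nondegenerate)
include hQ

/-- Polar values on an independent family are arbitrary. -/
theorem exists_polar {k : ℕ} {x : Fin k → ι → F} (hx : LinearIndependent F x) (c : Fin k → F) :
    ∃ y, ∀ i, polar Q y (x i) = c i := by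
  let L : (ι → F) →ₗ[F] (Fin k → F) := LinearMap.pi fun i => Q.polarBilin (x i)
  suffices hL : Function.Surjective L by
    obtain ⟨y, hy⟩ := hL c
    exact ⟨y, fun i => by rw [polar_comm, ← congrFun hy i]; rfl⟩
  rw [← LinearMap.range_eq_top]
  by_contra hne
  obtain ⟨φ, hφ0, hφ⟩ := Submodule.exists_dual_map_eq_bot_of_lt_top
    (lt_top_iff_ne_top.2 hne) inferInstance
  have hcoef : ∀ d : Fin k → F, φ d = ∑ i, d i * φ (Pi.single i 1) := fun d => by
    conv_lhs => rw [pi_eq_sum_univ' d, map_sum]
    simp
  have hker : ∀ y, φ (L y) = 0 := fun y =>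
    LinearMap.mem_ker.1 (LinearMap.le_ker_iff_map.2 hφ ⟨y, rfl⟩)
  have hsum : ∑ i, φ (Pi.single i 1) • x i = 0 := eq_zero_of_polar hQ fun y => by
    have h1 := hker y
    rw [hcoef] at h1
    rw [← h1, polar_comm, ← polarBilin_apply_apply, map_sum]
    exact Finset.sum_congr rfl fun i _ => by
      rw [map_smul, polarBilin_apply_apply, smul_eq_mul, polar_comm, mul_comm]; rfl
  exact hφ0 (LinearMap.ext fun d => by
    rw [hcoef, LinearMap.zero_apply]
    exact Finset.sum_eq_zero fun i _ => by
      rw [Fintype.linearIndependent_iff.1 hx (fun i => φ (Pi.single i 1)) hsum i, mul_zero])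

omit hQ in
theorem independent_pair {u v : ι → F} (hu : u ≠ 0) (hv : v ∉ Submodule.span F {u}) :
    LinearIndependent F ![u, v] :=
  LinearIndependent.pair_iff' hu |>.2 fun a h => hv (Submodule.mem_span_singleton.2 ⟨a, h⟩)

theorem exists_polar_two {u v : ι → F} (h : LinearIndependent F ![u, v]) (c d : F) :
    ∃ y, polar Q y u = c ∧ polar Q y v = d := by
  obtain ⟨y, hy⟩ := exists_polar hQ h ![c, d]
  exact ⟨y, hy 0, hy 1⟩

/-- A vector orthogonal to the orthogonal of `u` is a multiple of `u`. -/
theorem mem_span_of_perp {u v : ι → F} (hu : u ≠ 0)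
    (h : ∀ y, polar Q y u = 0 → polar Q y v = 0) : v ∈ Submodule.span F {u} := by
  by_contra hv
  obtain ⟨y, h0, h1⟩ := exists_polar_two hQ (independent_pair hu hv) 0 1
  rw [h y h0] at h1
  exact zero_ne_one h1

theorem exists_singular_partner {u : ι → F} (hu0 : u ≠ 0) (hu : Q u = 0) :
    ∃ u', Q u' = 0 ∧ polar Q u' u = 1 := by
  obtain ⟨y, hy⟩ := exists_polar_eq_one hQ hu0
  rw [polar_comm] at hy
  refine ⟨y + (-Q y) • u, ?_, ?_⟩
  · rw [QuadraticMap.map_add ⇑Q, QuadraticMap.map_smul, hu, polar_smul_right, hy, smul_eq_mul,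
      smul_eq_mul]
    ring
  · rw [polar_add_left, polar_smul_left, polar_self_sing hu, hy, smul_zero, add_zero]

/-- `E(u, a)` determines `a` modulo `u`. -/
theorem eich_injective {u a b : ι → F} (hu0 : u ≠ 0) (hu : Q u = 0) (ha : polar Q u a = 0)
    (hb : polar Q u b = 0) (h : eich Q u a = eich Q u b) : a - b ∈ Submodule.span F {u} := by
  obtain ⟨u', hu', huu'⟩ := exists_singular_partner hQ hu0 hu
  have h1 := congrArg (fun g : O Q => app g u') h
  simp only [app_eich hu ha, app_eich hu hb, huu', one_smul] at h1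
  refine Submodule.mem_span_singleton.2 ⟨(-polar Q u' b - Q b * 1) - (-polar Q u' a - Q a * 1), ?_⟩
  linear_combination (norm := module) -h1

/-- The moved vectors of a non-trivial `E(u, a)`. -/
theorem mem_moved_left {u a : ι → F} (hu : Q u = 0) (ha : polar Q u a = 0)
    (h : LinearIndependent F ![u, a]) : ∃ y, app (eich Q u a) y - y = u := by
  obtain ⟨y, h0, h1⟩ := exists_polar_two hQ h 0 (-1)
  exact ⟨y, by rw [app_eich hu ha, h0, h1]; module⟩

theorem mem_moved_right {u a : ι → F} (hu : Q u = 0) (ha : polar Q u a = 0)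
    (h : LinearIndependent F ![u, a]) :
    ∃ y, app (eich Q u a) y - y = a + (-Q a) • u := by
  obtain ⟨y, h0, h1⟩ := exists_polar_two hQ h 1 0
  exact ⟨y, by rw [app_eich hu ha, h0, h1]; module⟩

omit hQ in
theorem moved_mem {u a : ι → F} (hu : Q u = 0) (ha : polar Q u a = 0) (y : ι → F) :
    app (eich Q u a) y - y ∈ Submodule.span F {u, a} := by
  refine Submodule.mem_span_pair.2 ⟨-(polar Q y a) - Q a * polar Q y u, polar Q y u, ?_⟩
  rw [app_eich hu ha]; module

theorem eich_ne_one {u a : ι → F} (hu : Q u = 0) (ha : polar Q u a = 0)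
    (h : LinearIndependent F ![u, a]) : eich Q u a ≠ 1 := fun e => by
  obtain ⟨y, hy⟩ := mem_moved_left hQ hu ha h
  rw [e, app_one, sub_self] at hy
  exact h.ne_zero 0 hy.symm

/-- A vector orthogonal to fewer than `dim V` given vectors. -/
theorem exists_ortho_ne_zero {k : ℕ} (x : Fin k → ι → F) (hk : k < Fintype.card ι) :
    ∃ y, y ≠ 0 ∧ ∀ i, polar Q y (x i) = 0 := by
  let L : (ι → F) →ₗ[F] (Fin k → F) := LinearMap.pi fun i => Q.polarBilin (x i)
  have : L.ker ≠ ⊥ := LinearMap.ker_ne_bot_of_finrank_lt (by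
    rw [Module.finrank_fin_fun, Module.finrank_fintype_fun_eq_card]; exact hk)
  obtain ⟨y, hy, hy0⟩ := Submodule.exists_mem_ne_zero_of_ne_bot this
  exact ⟨y, hy0, fun i => by rw [polar_comm, ← polarBilin_apply_apply]; exact congrFun hy i⟩

end CfsgLib.AutPOmega
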