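/-
Hyperbolic frames with anisotropic complement; generation of `Ω` by the root groups at the frame points.
-/
import Cfsg.Agent.Lib.AutPOmega.Eich

set_option autoImplicit false
set_option linter.unusedSectionVars false

namespace CfsgLib.AutPOmega

open Matrix QuadraticMap CfsgLib.Orth

variable {ι : Type} [Fintype ι] [DecidableEq ι] {F : Type*} [Field F] {Q : QuadraticForm F (ι → F)}
  {w : ℕ}

/-- the opposite frame index -/
def opp (k : Fin w × Bool) : Fin w × Bool := (k.1, !k.2)

@[simp] theorem opp_opp (k : Fin w × Bool) : opp (opp k) = k := by simp [opp]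
@[simp] theorem opp_fst (k : Fin w × Bool) : (opp k).1 = k.1 := rfl
theorem opp_ne (k : Fin w × Bool) : opp k ≠ k := fun h => by simpa [opp] using congrArg Prod.snd h

theorem ne_opp_of_ne {k l : Fin w × Bool} (h : k.1 ≠ l.1) : l ≠ opp k := fun e => h (by rw [e, opp_fst])
theorem ne_of_fst {k l : Fin w × Bool} (h : k.1 ≠ l.1) : k ≠ l := fun e => h (by rw [e])

theorem eq_or_opp {k l : Fin w × Bool} (h : l.1 = k.1) : l = k ∨ l = opp k := by
  obtain ⟨i, b⟩ := k; obtain ⟨j, c⟩ := l; subst h
  cases b <;> cases c <;> simp [opp]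

/-- A hyperbolic frame with anisotropic orthogonal complement, large enough for the argument. -/
structure Frame (Q : QuadraticForm F (ι → F)) (w : ℕ) where
  x : Fin w × Bool → ι → F
  sing : ∀ k, Q (x k) = 0
  pair : ∀ k l, polar Q (x k) (x l) = if l = opp k then 1 else 0
  nondeg : Q.polarBilin.Nondegenerate
  aniso : ∀ a, (∀ k, polar Q a (x k) = 0) → Q a = 0 → a = 0
  le : 3 ≤ w
  extra : 4 ≤ w ∨ ∃ a, a ≠ 0 ∧ ∀ k, polar Q a (x k) = 0

namespace Frame

variable (S : Frame Q w)
include S

theorem pair_opp (k : Fin w × Bool) : polar Q (S.x k) (S.x (opp k)) = 1 := by rw [S.pair, if_pos rfl]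
theorem pair_opp' (k : Fin w × Bool) : polar Q (S.x (opp k)) (S.x k) = 1 := by
  rw [polar_comm, S.pair_opp]
theorem pair_ne {k l : Fin w × Bool} (h : l ≠ opp k) : polar Q (S.x k) (S.x l) = 0 := by
  rw [S.pair, if_neg h]
theorem pair_fst {k l : Fin w × Bool} (h : k.1 ≠ l.1) : polar Q (S.x k) (S.x l) = 0 :=
  S.pair_ne (ne_opp_of_ne h)

theorem ne_zero (k : Fin w × Bool) : S.x k ≠ 0 := fun h => by
  have := S.pair_opp k
  rw [h, polar_zero_left] at this
  exact zero_ne_one this

/-- the component orthogonal to the frame -/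
noncomputable def proj (v : ι → F) : ι → F := v - ∑ k, polar Q v (S.x (opp k)) • S.x k

/-- vectors orthogonal to the frame -/
def Perp (a : ι → F) : Prop := ∀ k, polar Q a (S.x k) = 0

/-- the frame is not the one of `D₄` -/
def Roomy : Prop := 5 ≤ w ∨ ∃ a, a ≠ 0 ∧ ∀ k, polar Q a (S.x k) = 0

theorem polar_sum (c : Fin w × Bool → F) (l : Fin w × Bool) :
    polar Q (∑ k, c k • S.x k) (S.x l) = c (opp l) := by
  rw [← polarBilin_apply_apply, map_sum, LinearMap.sum_apply, Finset.sum_eq_single (opp l)]
  · rw [map_smul, LinearMap.smul_apply, polarBilin_apply_apply, S.pair_opp', smul_eq_mul, mul_one]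
  · intro k _ hk
    rw [map_smul, LinearMap.smul_apply, polarBilin_apply_apply,
      S.pair_ne (fun e => hk (by rw [e, opp_opp])), smul_zero]
  · simp

theorem perp_proj (v : ι → F) : S.Perp (S.proj v) := fun l => by
  rw [proj, polar_sub_left, S.polar_sum, opp_opp, sub_self]

theorem perp_add {a b : ι → F} (ha : S.Perp a) (hb : S.Perp b) : S.Perp (a + b) := fun k => by
  rw [polar_add_left, ha, hb, add_zero]

theorem perp_smul {a : ι → F} (t : F) (ha : S.Perp a) : S.Perp (t • a) := fun k => by
  rw [polar_smul_left, ha, smul_zero]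

theorem perp_zero : S.Perp 0 := fun k => polar_zero_left Q _

theorem decomp (v : ι → F) : v = S.proj v + ∑ k, polar Q v (S.x (opp k)) • S.x k := by
  rw [proj, sub_add_cancel]

theorem proj_of_perp {a : ι → F} (ha : S.Perp a) : S.proj a = a := by
  rw [proj]; simp [ha (opp _)]

theorem linearIndependent : LinearIndependent F S.x := by
  rw [Fintype.linearIndependent_iff]
  intro g hg k
  have := S.polar_sum g (opp k)
  rw [hg, polar_zero_left, opp_opp] at this
  exact this.symm

theorem seven_le : 7 ≤ Fintype.card ι := by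
  have h1 := S.linearIndependent.fintype_card_le_finrank
  rw [Module.finrank_fintype_fun_eq_card, Fintype.card_prod, Fintype.card_fin, Fintype.card_bool] at h1
  rcases S.extra with h | ⟨a, ha0, ha⟩
  · omega
  · have hli : LinearIndependent F (fun o : Option (Fin w × Bool) => o.elim a S.x) := by
      rw [linearIndependent_option]
      refine ⟨S.linearIndependent, fun hm => ha0 ?_⟩
      obtain ⟨c, hc⟩ := Submodule.mem_span_range_iff_exists_fun F |>.1 hm
      have hc' : ∑ k, c k • S.x k = a := hc
      rw [← hc']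
      refine Finset.sum_eq_zero fun k _ => ?_
      have := ha (opp k)
      rw [← hc', S.polar_sum, opp_opp] at this
      rw [this, zero_smul]
    have h2 := hli.fintype_card_le_finrank
    rw [Module.finrank_fintype_fun_eq_card, Fintype.card_option, Fintype.card_prod, Fintype.card_fin,
      Fintype.card_bool] at h2
    have := S.le
    omega

omit S in
theorem exists_index {w : ℕ} (s : Finset (Fin w)) (h : s.card < w) : ∃ i : Fin w, i ∉ s :=
  (Finset.exists_mem_notMem_of_card_lt_card (t := Finset.univ) (by simpa using h)).imp fun _ h => h.2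

theorem exists_third (i j : Fin w) : ∃ l : Fin w, l ≠ i ∧ l ≠ j := by
  obtain ⟨l, hl⟩ := exists_index ({i, j} : Finset (Fin w)) (Finset.card_le_two.trans_lt S.le)
  exact ⟨l, by simpa using hl⟩

/-- An isometry moving the frame vector `x k` to a given singular vector. -/
theorem exists_map {u : ι → F} (hu0 : u ≠ 0) (hu : Q u = 0) (k : Fin w × Bool) :
    ∃ g : O Q, app g (S.x k) = u := by
  obtain ⟨g, hg, hgx⟩ := CfsgLib.Forms.quad_witt_family Q S.nondeg (fun _ : Fin 1 => S.x k)
    (fun _ => u) (LinearIndependent.of_subsingleton 0 (S.ne_zero k)) (LinearIndependent.of_subsingleton 0 hu0)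
    (fun _ => by rw [S.sing, hu])
    (fun _ _ => by rw [polar_self_sing (S.sing k), polar_self_sing hu])
  exact ⟨mkO g.toLinearMap g.symm.toLinearMap (LinearMap.ext g.apply_symm_apply)
    (LinearMap.ext g.symm_apply_apply) hg, by rw [app_mkO]; exact hgx 0⟩

/-- Conjugation moves `E(x, z)` by `E(z', c)`. -/
theorem conj_root {k l : Fin w × Bool} (hkl : k.1 ≠ l.1) {c : ι → F}
    (h1 : polar Q c (S.x k) = 0) (h2 : polar Q c (S.x (opp l)) = 0) (h3 : polar Q c (S.x l) = 0)
    (t : F) :
    eich Q (S.x (opp l)) c * eich Q (S.x k) (t • S.x l) * (eich Q (S.x (opp l)) c)⁻¹ =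
      eich Q (S.x k) (t • (S.x l + c + (-Q c) • S.x (opp l))) := by
  have hc : polar Q (S.x (opp l)) c = 0 := by rw [polar_comm, h2]
  have hkl' : polar Q (S.x k) (S.x l) = 0 := S.pair_fst hkl
  rw [eich_conj (S.sing k) (by rw [polar_smul_right, hkl', smul_zero])]
  congr 1
  · exact app_eich_of_ortho (S.sing _) hc (S.pair_fst (by simpa using hkl)) (by rw [polar_comm, h1])
  · rw [map_smul]
    congr 1
    rw [app_eich (S.sing _) hc, S.pair_opp, polar_comm (f := ⇑Q) (S.x l) c, h3]
    module

theorem conj_root_mul {k l : Fin w × Bool} (hkl : k.1 ≠ l.1) {c : ι → F}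
    (h1 : polar Q c (S.x k) = 0) (h2 : polar Q c (S.x (opp l)) = 0) (h3 : polar Q c (S.x l) = 0) :
    eich Q (S.x (opp l)) c * eich Q (S.x k) (S.x l) * (eich Q (S.x (opp l)) c)⁻¹ *
      (eich Q (S.x k) (S.x l))⁻¹ = eich Q (S.x k) (c + (-Q c) • S.x (opp l)) := by
  have h := S.conj_root hkl h1 h2 h3 1
  rw [one_smul, one_smul] at h
  have hkl' : polar Q (S.x k) (S.x l) = 0 := S.pair_fst hkl
  rw [h, eich_inv (S.sing k) hkl', eich_add (S.sing k) ?_ (by rw [polar_neg_right, hkl', neg_zero])]
  · congr 1; abel
  · rw [polar_add_right, polar_add_right, hkl', polar_comm, h1, polar_smul_right,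
      S.pair_fst (by simpa using hkl)]
    simp

theorem eich_frame_mem {k : Fin w × Bool} {a : ι → F} (ha : polar Q (S.x k) a = 0) :
    eich Q (S.x k) a ∈ Cfsg.Omega F ⇑Q := by
  open scoped commutatorElement in
  have hcomm : ∀ (l : Fin w × Bool) (c : ι → F), k.1 ≠ l.1 → polar Q c (S.x k) = 0 →
      polar Q c (S.x (opp l)) = 0 → polar Q c (S.x l) = 0 →
      eich Q (S.x k) (c + (-Q c) • S.x (opp l)) ∈ Cfsg.Omega F ⇑Q := fun l c hkl h1 h2 h3 => by
    rw [← S.conj_root_mul hkl h1 h2 h3]
    exact Subgroup.commutator_mem_commutator (Subgroup.mem_top _) (Subgroup.mem_top _)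
  have hadd : ∀ {b c : ι → F}, polar Q (S.x k) b = 0 → polar Q (S.x k) c = 0 →
      eich Q (S.x k) b ∈ Cfsg.Omega F ⇑Q → eich Q (S.x k) c ∈ Cfsg.Omega F ⇑Q →
      eich Q (S.x k) (b + c) ∈ Cfsg.Omega F ⇑Q := fun hb hc h1 h2 => by
    rw [← eich_add (S.sing k) hb hc]; exact mul_mem h1 h2
  have hframe : ∀ (m : Fin w × Bool) (t : F), m ≠ opp k →
      eich Q (S.x k) (t • S.x m) ∈ Cfsg.Omega F ⇑Q := by
    intro m t hm
    by_cases hmk : m.1 = k.1
    · rcases eq_or_opp hmk with rfl | rfl
      · rw [eich_smul_self (S.sing m)]; exact Subgroup.one_mem _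
      · exact absurd rfl hm
    obtain ⟨i, hik, him⟩ := S.exists_third k.1 m.1
    have hQ : Q (t • S.x m) = 0 := by rw [QuadraticMap.map_smul, S.sing, smul_zero]
    have h := hcomm (i, true) (t • S.x m) (Ne.symm hik)
      (by rw [polar_smul_left, S.pair_fst hmk, smul_zero])
      (by rw [polar_smul_left, S.pair_fst (by simpa using Ne.symm him), smul_zero])
      (by rw [polar_smul_left, S.pair_fst (Ne.symm him), smul_zero])
    rwa [hQ, neg_zero, zero_smul, add_zero] at h
  have hproj : eich Q (S.x k) (S.proj a) ∈ Cfsg.Omega F ⇑Q := by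
    obtain ⟨i, hik, -⟩ := S.exists_third k.1 k.1
    have hp := S.perp_proj a
    have h := hcomm (i, true) (S.proj a) (Ne.symm hik) (hp k) (hp _) (hp _)
    have h2 := hframe (opp (i, true)) (Q (S.proj a)) (fun e => hik (by simpa using congrArg Prod.fst e))
    have h3 := hadd ?_ ?_ h h2
    · convert h3 using 2; module
    · rw [polar_add_right, polar_comm, hp k, polar_smul_right,
        S.pair_fst (by simpa using Ne.symm hik), smul_zero, add_zero]
    · rw [polar_smul_right, S.pair_fst (by simpa using Ne.symm hik), smul_zero]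
  rw [S.decomp a]
  refine hadd (by rw [polar_comm, S.perp_proj]) ?_ hproj ?_
  · rw [polar_comm, S.polar_sum, opp_opp, polar_comm, ha]
  · suffices ∀ s : Finset (Fin w × Bool), polar Q (S.x k) (∑ l ∈ s, polar Q a (S.x (opp l)) • S.x l) = 0 ∧
        eich Q (S.x k) (∑ l ∈ s, polar Q a (S.x (opp l)) • S.x l) ∈ Cfsg.Omega F ⇑Q from (this _).2
    intro s
    induction s using Finset.induction with
    | empty => rw [Finset.sum_empty, polar_zero_right, eich_zero_right (S.sing k)]
               exact ⟨rfl, Subgroup.one_mem _⟩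
    | insert l s hl ih =>
      rw [Finset.sum_insert hl]
      by_cases hlk : l = opp k
      · rw [hlk, opp_opp, polar_comm (f := ⇑Q) a, ha, zero_smul, zero_add]; exact ih
      · have e : polar Q (S.x k) (polar Q a (S.x (opp l)) • S.x l) = 0 := by
          rw [polar_smul_right, S.pair_ne hlk, smul_zero]
        exact ⟨by rw [polar_add_right, e, ih.1, add_zero], hadd e ih.1 (hframe l _ hlk) ih.2⟩

/-- All Siegel transformations lie in `Ω`. -/
theorem eich_mem_omega (u a : ι → F) : eich Q u a ∈ Cfsg.Omega F ⇑Q := by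
  by_cases h : Q u = 0 ∧ polar Q u a = 0
  swap
  · rw [eich, dif_neg h]; exact Subgroup.one_mem _
  obtain ⟨hu, ha⟩ := h
  rcases eq_or_ne u 0 with rfl | hu0
  · rw [eich_zero_left]; exact Subgroup.one_mem _
  set k : Fin w × Bool := (⟨0, by have := S.le; omega⟩, true)
  obtain ⟨g, hg⟩ := S.exists_map hu0 hu k
  have ha' : polar Q (S.x k) (app g⁻¹ a) = 0 := by rw [← polar_app g, app_app_inv, hg, ha]
  have h := Subgroup.Normal.conj_mem inferInstance _ (S.eich_frame_mem ha') g
  rwa [eich_conj (S.sing k) ha', hg, app_app_inv] at h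

/-! ### Generation -/

/-- the root groups at the frame points -/
noncomputable def frameClosure : Subgroup (O Q) :=
  Subgroup.closure {g | ∃ k a, polar Q (S.x k) a = 0 ∧ g = eich Q (S.x k) a}

theorem eich_mem_closure {u a : ι → F} (hu : Q u = 0) (ha : polar Q u a = 0) :
    eich Q u a ∈ S.frameClosure := by
  rcases eq_or_ne u 0 with rfl | hu0
  · rw [eich_zero_left]; exact Subgroup.one_mem _
  have hgen : ∀ k b, polar Q (S.x k) b = 0 → eich Q (S.x k) b ∈ S.frameClosure := fun k b hb =>
    Subgroup.subset_closure ⟨k, b, hb, rfl⟩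
  obtain ⟨k, hk⟩ : ∃ k, polar Q u (S.x k) ≠ 0 := by
    by_contra h
    push Not at h
    exact hu0 (S.aniso u h hu)
  -- the transformation at `x k` makes `u` a combination of `x (opp k)` and `x k`
  set α := polar Q u (S.x k) with hα
  set β := polar Q u (S.x (opp k))
  set c := u - α • S.x (opp k) - β • S.x k with hc
  have hc1 : polar Q (S.x k) (-(α⁻¹) • c) = 0 := by
    rw [polar_smul_right, hc, polar_sub_right, polar_sub_right, polar_comm, ← hα, polar_smul_right,
      polar_smul_right, S.pair_opp, polar_self_sing (S.sing k)]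
    simp
  set g := eich Q (S.x k) (-(α⁻¹) • c)
  obtain ⟨s, hs⟩ : ∃ s, app g u = α • S.x (opp k) + s • S.x k := by
    refine ⟨β + (-polar Q u (-(α⁻¹) • c) - Q (-(α⁻¹) • c) * α), ?_⟩
    rw [app_eich (S.sing k) hc1, ← hα, smul_smul, mul_neg, mul_inv_cancel₀ hk]
    rw [hc]; module
  have hs0 : s = 0 := by
    have h := Q_app g u
    rw [hs, hu, QuadraticMap.map_add ⇑Q, QuadraticMap.map_smul, QuadraticMap.map_smul, S.sing,
      S.sing, polar_smul_left, polar_smul_right, S.pair_opp'] at h
    simpa [hk] using h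
  rw [hs0, zero_smul, add_zero] at hs
  have hx : polar Q (S.x (opp k)) (α • app g a) = 0 := by
    have h := polar_app g u a
    rw [hs, ha, polar_smul_left] at h
    rwa [polar_smul_right]
  have h1 : eich Q u a = g⁻¹ * eich Q (S.x (opp k)) (α • app g a) * g⁻¹⁻¹ := by
    rw [← eich_smul_left (S.sing _) (by
        rw [polar_smul_right] at hx
        exact (smul_eq_zero.1 hx).resolve_left hk),
      eich_conj (by rw [QuadraticMap.map_smul, S.sing, smul_zero])
        (by rw [polar_smul_left]; rwa [polar_smul_right] at hx), ← hs, app_inv_app, app_inv_app]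
  rw [h1]
  have hg := hgen k _ hc1
  exact mul_mem (mul_mem (inv_mem hg) (hgen _ _ hx)) (inv_mem (inv_mem hg))

theorem frameClosure_normal : S.frameClosure.Normal where
  conj_mem n hn g := by
    suffices S.frameClosure ≤ S.frameClosure.comap (MulAut.conj g).toMonoidHom from this hn
    refine (Subgroup.closure_le _).2 ?_
    rintro _ ⟨k, a, ha, rfl⟩
    show g * eich Q (S.x k) a * g⁻¹ ∈ S.frameClosure
    rw [eich_conj (S.sing k) ha]
    exact S.eich_mem_closure (by rw [Q_app, S.sing]) (by rw [polar_app, ha])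

/-- A pair of reflections in vectors with singular difference. -/
theorem pair_singular {b c : ι → F} (hb : Q b ≠ 0) (hc : Q c = Q b) (h : Q (c - b) = 0) :
    refl Q b * refl Q c ∈ S.frameClosure := by
  have hbz : polar Q b (c - b) = 0 := by
    have e := QuadraticMap.map_add ⇑Q b (c - b)
    rw [add_sub_cancel, hc, h] at e
    linear_combination -e
  have hu : Q ((Q b)⁻¹ • (c - b)) = 0 := by rw [QuadraticMap.map_smul, h, smul_zero]
  have hub : polar Q ((Q b)⁻¹ • (c - b)) b = 0 := by
    rw [polar_smul_left, polar_comm, hbz, smul_zero]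
  have e := eich_eq_refl_mul hu hub hb
  rw [smul_smul, mul_inv_cancel₀ hb, one_smul, add_sub_cancel] at e
  rw [← e]
  exact S.eich_mem_closure hu hub

theorem pair_mem {b b' : ι → F} (hb : Q b ≠ 0) (hbb : Q b' = Q b) :
    refl Q b * refl Q b' ∈ S.frameClosure := by
  have := S.frameClosure_normal
  by_cases hz : Q (b' - b) = 0
  · exact S.pair_singular hb hbb hz
  set z := b' - b with hzdef
  by_cases hex : ∃ s, Q s = 0 ∧ polar Q b s = 0 ∧ polar Q z s ≠ 0
  · obtain ⟨s, hs, hbs, hzs⟩ := hex
    set t := Q z / polar Q z s with ht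
    have hQc : Q (b + t • s) = Q b := by
      rw [QuadraticMap.map_add ⇑Q, QuadraticMap.map_smul, hs, polar_smul_right, hbs]; simp
    have h1 := S.pair_singular hb hQc (by rw [add_sub_cancel_left, QuadraticMap.map_smul, hs, smul_zero])
    have h2 := S.pair_singular (b := b + t • s) (c := b') (by rw [hQc]; exact hb) (by rw [hQc, hbb]) (by
      rw [show b' - (b + t • s) = z + (-t) • s by rw [hzdef]; module, QuadraticMap.map_add ⇑Q,
        QuadraticMap.map_smul, hs, polar_smul_right, smul_eq_mul, smul_eq_mul, ht]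
      field_simp
      ring)
    have := mul_mem h1 h2
    rwa [mul_assoc, ← mul_assoc (refl Q (b + t • s)), refl_mul_self, one_mul] at this
  push Not at hex
  -- otherwise `b' = ± b`
  have hb0 : b ≠ 0 := fun h => hb (by rw [h, QuadraticMap.map_zero])
  obtain ⟨e, he0, heb, heQ⟩ : ∃ e, e ≠ 0 ∧ polar Q b e = 0 ∧ Q e = 0 := by
    have hw := S.le
    set i0 : Fin w := ⟨0, by omega⟩
    set i1 : Fin w := ⟨1, by omega⟩
    have h01 : i0 ≠ i1 := by simp [i0, i1]
    set p := polar Q b (S.x (i0, true))
    set r := polar Q b (S.x (i1, true))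
    by_cases hp : p = 0
    · exact ⟨_, S.ne_zero (i0, true), hp, S.sing _⟩
    refine ⟨r • S.x (i0, true) + (-p) • S.x (i1, true), fun h => ?_, ?_, ?_⟩
    · have := congrArg (fun v => polar Q v (S.x (opp (i1, true)))) h
      simp [polar_add_left, polar_smul_left, S.pair_opp, S.pair_fst (k := (i0, true)) (l := opp (i1, true)) h01,
        hp] at this
    · simp [polar_add_right, polar_smul_right, p, r]; ring
    · simp [QuadraticMap.map_add ⇑Q, QuadraticMap.map_smul, S.sing, polar_smul_left, polar_smul_right,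
        S.pair_fst (k := (i0, true)) (l := (i1, true)) h01]
  have hbe : LinearIndependent F ![b, e] := independent_pair hb0 fun h => by
    obtain ⟨c, hc⟩ := Submodule.mem_span_singleton.1 h
    rw [← hc, QuadraticMap.map_smul] at heQ
    rcases smul_eq_zero.1 heQ with h' | h'
    · exact he0 (by rw [← hc, mul_self_eq_zero.1 h', zero_smul])
    · exact hb h'
  obtain ⟨y, hyb, hye⟩ := exists_polar_two S.nondeg hbe 0 1
  set e' := y + (-Q y) • e
  have he' : Q e' = 0 := by
    simp only [e', QuadraticMap.map_add ⇑Q, QuadraticMap.map_smul, heQ, polar_smul_right, hye]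
    simp
  have he'b : polar Q b e' = 0 := by
    simp [e', polar_add_right, polar_smul_right, heb, polar_comm (f := ⇑Q) b y, hyb]
  have he'e : polar Q e' e = 1 := by
    simp [e', polar_add_left, polar_smul_left, hye, polar_self_sing heQ]
  have hz0 : z ∈ Submodule.span F {b} := by
    refine mem_span_of_perp S.nondeg hb0 fun v hv => ?_
    set α := polar Q v e with hα
    set β := polar Q v e' with hβ
    set c := v + (-α) • e' + (-β) • e with hc
    have hce : polar Q c e = 0 := by
      simp [hc, polar_add_left, polar_smul_left, he'e, polar_self_sing heQ, ← hα]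
    have hce' : polar Q c e' = 0 := by
      simp [hc, polar_add_left, polar_smul_left, polar_self_sing he', polar_comm (f := ⇑Q) e e', he'e, ← hβ]
    have hcb : polar Q b c = 0 := by
      simp [hc, polar_add_right, polar_smul_right, heb, he'b, polar_comm (f := ⇑Q) b v, hv]
    have hs : Q (e' + (-Q c) • e + c) = 0 := by
      simp [QuadraticMap.map_add ⇑Q, QuadraticMap.map_smul, he', heQ, polar_add_left, polar_smul_left,
        polar_smul_right, he'e, polar_comm (f := ⇑Q) e' c, hce', polar_comm (f := ⇑Q) e c, hce]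
    have h1 := hex e heQ heb
    have h2 := hex e' he' he'b
    have h3 := hex _ hs (by simp [polar_add_right, polar_smul_right, heb, he'b, hcb])
    simp [polar_add_right, polar_smul_right, h1, h2] at h3
    rw [show v = c + α • e' + β • e by rw [hc]; module]
    simp [polar_add_left, polar_smul_left, polar_comm (f := ⇑Q) c z, h3, polar_comm (f := ⇑Q) e' z, h2,
      polar_comm (f := ⇑Q) e z, h1]
  obtain ⟨t, ht⟩ := Submodule.mem_span_singleton.1 hz0
  have hb' : b' = (1 + t) • b := by rw [add_smul, one_smul, ht, hzdef]; abel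
  have ht' : 1 + t ≠ 0 := fun h => hb (by rw [← hbb, hb', h, zero_smul, QuadraticMap.map_zero])
  rw [hb', refl_smul ht', refl_mul_self]
  exact Subgroup.one_mem _

/-- `Ω` is generated by the root groups at the frame points. -/
theorem omega_le_closure : Cfsg.Omega F ⇑Q ≤ S.frameClosure := by
  have := S.frameClosure_normal
  set ψ := QuotientGroup.mk' S.frameClosure
  have hsq : ∀ a, ψ (refl Q a) * ψ (refl Q a) = 1 := fun a => by rw [← map_mul, refl_mul_self, map_one]
  have hinvol : ∀ a, (ψ (refl Q a))⁻¹ = ψ (refl Q a) := fun a => by rw [← map_inv, refl_inv]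
  have hcomm : ∀ a b, Commute (ψ (refl Q a)) (ψ (refl Q b)) := fun a b => by
    rcases eq_or_ne (Q b) 0 with hb | hb
    · rw [refl_eq_one hb, map_one]; exact Commute.one_right _
    have hm := S.pair_mem hb (b' := app (refl Q a) b) (Q_app _ b)
    rw [← refl_conj, ← QuotientGroup.eq_one_iff] at hm
    change ψ (refl Q b * (refl Q a * refl Q b * (refl Q a)⁻¹)) = 1 at hm
    rw [map_mul, map_mul, map_mul, map_inv, hinvol] at hm
    have h' := congrArg (fun x => ψ (refl Q b) * x * ψ (refl Q a)) hm
    simp only [mul_assoc, hsq, mul_one] at h'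
    rw [← mul_assoc (ψ (refl Q b)) (ψ (refl Q b)), hsq, one_mul] at h'
    exact h'
  have hgen := reflClosure_eq_top S.nondeg (Or.inr (by have := S.seven_le; omega))
  have key : ∀ (g : O Q) (a : ι → F), Commute (ψ g) (ψ (refl Q a)) := fun g a => by
    have hg : g ∈ reflClosure Q := by rw [hgen]; exact Subgroup.mem_top g
    induction hg using Subgroup.closure_induction with
    | mem x hx => obtain ⟨b, rfl⟩ := hx; exact hcomm b a
    | one => rw [map_one]; exact Commute.one_left _
    | mul x y _ _ hx hy => rw [map_mul]; exact hx.mul_left hy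
    | inv x _ hx => rw [map_inv]; exact hx.inv_left
  have key2 : ∀ g h : O Q, Commute (ψ g) (ψ h) := fun g h => by
    have hh : h ∈ reflClosure Q := by rw [hgen]; exact Subgroup.mem_top h
    induction hh using Subgroup.closure_induction with
    | mem x hx => obtain ⟨b, rfl⟩ := hx; exact key g b
    | one => rw [map_one]; exact Commute.one_right _
    | mul x y _ _ hx hy => rw [map_mul]; exact hx.mul_right hy
    | inv x _ hx => rw [map_inv]; exact hx.inv_right
  refine Subgroup.commutator_le.2 fun g _ h _ => ?_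
  rw [← QuotientGroup.eq_one_iff]
  change ψ _ = 1
  rw [map_commutatorElement]
  exact (commutatorElement_eq_one_iff_commute).2 (key2 g h)

end Frame

end CfsgLib.AutPOmega
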