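/-
Root elements of `PΩ(Q)`, central elements of `Ω(Q)`, and the centre of a Sylow `p`-subgroup: automorphisms
send long root groups to long root groups.
-/
import Cfsg.Agent.Lib.AutPOmega.Frame
import Mathlib.GroupTheory.Sylow

set_option autoImplicit false
set_option linter.unusedSectionVars false

namespace CfsgLib.AutPOmega

open Matrix QuadraticMap CfsgLib.Orth

variable {ι : Type} [Fintype ι] [DecidableEq ι] {F : Type*} [Field F] {Q : QuadraticForm F (ι → F)}
  {w : ℕ}

/-- the group `PΩ(Q)` -/
abbrev PG (Q : QuadraticForm F (ι → F)) := Cfsg.POmega F ⇑Q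
/-- the group `Ω(Q)` -/
abbrev Om (Q : QuadraticForm F (ι → F)) := ↥(Cfsg.Omega F ⇑Q)

/-- an independent orthogonal pair of singular vectors -/
structure Good (Q : QuadraticForm F (ι → F)) (u a : ι → F) : Prop where
  left : Q u = 0
  right : Q a = 0
  ortho : polar Q u a = 0
  indep : LinearIndependent F ![u, a]

namespace Frame

variable (S : Frame Q w)
include S

/-- a Siegel transformation in `Ω` -/
noncomputable def om (u a : ι → F) : Om Q := ⟨eich Q u a, S.eich_mem_omega u a⟩

/-- a root element of `PΩ` -/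
noncomputable def rt (u a : ι → F) : PG Q := QuotientGroup.mk (S.om u a)

theorem rt_add {u a b : ι → F} (hu : Q u = 0) (ha : polar Q u a = 0) (hb : polar Q u b = 0) :
    S.rt u a * S.rt u b = S.rt u (a + b) := by
  rw [rt, rt, rt, ← QuotientGroup.mk_mul]
  exact congrArg _ (Subtype.ext (eich_add hu ha hb))

theorem rt_congr {u a u' a' : ι → F} (h : eich Q u a = eich Q u' a') : S.rt u a = S.rt u' a' := by
  rw [rt, rt, show S.om u a = S.om u' a' from Subtype.ext h]

theorem rt_one {u : ι → F} (hu : Q u = 0) : S.rt u 0 = 1 := by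
  rw [rt, show S.om u 0 = 1 from Subtype.ext (eich_zero_right hu)]; rfl

theorem rt_inv {u a : ι → F} (hu : Q u = 0) (ha : polar Q u a = 0) : (S.rt u a)⁻¹ = S.rt u (-a) := by
  rw [inv_eq_iff_mul_eq_one, S.rt_add hu ha (by rw [polar_neg_right, ha, neg_zero]), add_neg_cancel,
    S.rt_one hu]

theorem rt_comm {u a b : ι → F} (hu : Q u = 0) (ha : polar Q u a = 0) (hb : polar Q u b = 0) :
    Commute (S.rt u a) (S.rt u b) := by
  rw [Commute, SemiconjBy, S.rt_add hu ha hb, S.rt_add hu hb ha, add_comm]

theorem rt_conj {u a : ι → F} (hu : Q u = 0) (ha : polar Q u a = 0) (s : Om Q) :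
    (QuotientGroup.mk s : PG Q) * S.rt u a * (QuotientGroup.mk s)⁻¹ = S.rt (app s.1 u) (app s.1 a) := by
  rw [rt, rt, ← QuotientGroup.mk_inv, ← QuotientGroup.mk_mul, ← QuotientGroup.mk_mul]
  exact congrArg _ (Subtype.ext (eich_conj hu ha s.1))

/-- Central elements of `Ω` are scalars. -/
theorem center_scalar {z : Om Q} (hz : z ∈ Subgroup.center (Cfsg.Omega F ⇑Q)) :
    ∃ c : F, c ≠ 0 ∧ c * c = 1 ∧ ∀ v, app z.1 v = c • v := by
  have hQ := S.nondeg
  have hc : ∀ u a, Q u = 0 → polar Q u a = 0 → eich Q (app z.1 u) (app z.1 a) = eich Q u a :=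
    fun u a hu ha => by
      rw [← eich_conj hu ha]
      have := congrArg Subtype.val (Subgroup.mem_center_iff.1 hz (S.om u a))
      change eich Q u a * z.1 = z.1 * eich Q u a at this
      rw [← this, mul_inv_cancel_right]
  have hmem : ∀ k l, k.1 ≠ l.1 → app z.1 (S.x k) ∈ Submodule.span F {S.x k, S.x l} := fun k l hkl => by
    have hp : polar Q (S.x k) (S.x l) = 0 := S.pair_fst hkl
    have hi : LinearIndependent F ![app z.1 (S.x k), app z.1 (S.x l)] := by
      have := (S.linearIndependent.comp ![k, l] (by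
        intro i j h; fin_cases i <;> fin_cases j <;> simp_all [ne_of_fst hkl, (ne_of_fst hkl).symm])).map'
        (app z.1) (LinearMap.ker_eq_bot.2 (app_injective z.1))
      rw [show ![app z.1 (S.x k), app z.1 (S.x l)] = app z.1 ∘ S.x ∘ ![k, l] by
        funext i; fin_cases i <;> rfl]
      exact this
    obtain ⟨y, hy⟩ := mem_moved_left hQ (by rw [Q_app, S.sing]) (by rw [polar_app, hp]) hi
    rw [← hy, hc _ _ (S.sing k) hp]
    exact moved_mem (S.sing k) hp y
  have heig : ∀ k, ∃ c : F, app z.1 (S.x k) = c • S.x k := fun k => by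
    obtain ⟨i, hik, -⟩ := S.exists_third k.1 k.1
    obtain ⟨j, hjk, hji⟩ := S.exists_third k.1 i
    obtain ⟨a, b, h1⟩ := Submodule.mem_span_pair.1 (hmem k (i, true) (Ne.symm hik))
    obtain ⟨a', b', h2⟩ := Submodule.mem_span_pair.1 (hmem k (j, true) (Ne.symm hjk))
    have hb : b = 0 := by
      have := congrArg (fun v => polar Q v (S.x (opp (i, true)))) (h1.trans h2.symm)
      simpa [polar_add_left, polar_smul_left, S.pair_opp,
        S.pair_fst (k := k) (l := opp (i, true)) (Ne.symm hik),
        S.pair_fst (k := (j, true)) (l := opp (i, true)) hji] using this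
    exact ⟨a, by rw [← h1, hb, zero_smul, add_zero]⟩
  choose c hc' using heig
  have hprod : ∀ k l, k.1 ≠ l.1 → c k * c l = 1 := fun k l hkl => by
    have hp : polar Q (S.x k) (S.x l) = 0 := S.pair_fst hkl
    have h := hc _ _ (S.sing k) hp
    rw [hc', hc', eich_smul_left (S.sing k) (by rw [polar_smul_right, hp, smul_zero]), smul_smul] at h
    have h' := eich_injective hQ (S.ne_zero k) (S.sing k) (by rw [polar_smul_right, hp, smul_zero]) hp h
    obtain ⟨t, ht⟩ := Submodule.mem_span_singleton.1 h'
    have := congrArg (fun v => polar Q v (S.x (opp l))) ht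
    simp [polar_sub_left, polar_smul_left, S.pair_opp, S.pair_fst (k := k) (l := opp l) hkl] at this
    exact (sub_eq_zero.1 this.symm)
  set k₀ : Fin w × Bool := (⟨0, by have := S.le; omega⟩, true)
  have hall : ∀ k, c k = c k₀ := fun k => by
    obtain ⟨i, h1, h2⟩ := S.exists_third k.1 k₀.1
    have e1 := hprod k (i, true) (Ne.symm h1)
    have e2 := hprod k₀ (i, true) (Ne.symm h2)
    exact mul_right_cancel₀ (right_ne_zero_of_mul_eq_one e1) (e1.trans e2.symm)
  obtain ⟨i, hi, -⟩ := S.exists_third k₀.1 k₀.1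
  have hcc : c k₀ * c k₀ = 1 := by
    have := hprod k₀ (i, true) (Ne.symm hi)
    rwa [hall (i, true)] at this
  refine ⟨c k₀, left_ne_zero_of_mul_eq_one hcc, hcc, fun v => ?_⟩
  have hperp : ∀ a, S.Perp a → app z.1 a = c k₀ • a := fun a ha => by
    have hza : S.Perp (app z.1 a) := fun k => by
      have := polar_app z.1 a (S.x k)
      rw [ha k, hc', polar_smul_right] at this
      exact (smul_eq_zero.1 this).resolve_left (by rw [hall]; exact left_ne_zero_of_mul_eq_one hcc)
    have ha' : polar Q (S.x k₀) a = 0 := by rw [polar_comm, ha]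
    have hza' : polar Q (S.x k₀) (app z.1 a) = 0 := by rw [polar_comm, hza]
    have h := hc _ _ (S.sing k₀) ha'
    rw [hc', eich_smul_left (S.sing _) hza'] at h
    obtain ⟨t, ht⟩ := Submodule.mem_span_singleton.1 (eich_injective hQ (S.ne_zero _) (S.sing _)
      (by rw [polar_smul_right, hza', smul_zero]) ha' h)
    have h0 := congrArg (fun v => polar Q v (S.x (opp k₀))) ht
    simp [polar_sub_left, polar_smul_left, S.pair_opp, hza _, ha _] at h0
    rw [h0, zero_smul, eq_comm, sub_eq_zero] at ht
    conv_rhs => rw [← ht, smul_smul, hcc, one_smul]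
  rw [S.decomp v, map_add, map_sum, hperp _ (S.perp_proj v), smul_add, Finset.smul_sum]
  congr 1
  exact Finset.sum_congr rfl fun k _ => by rw [map_smul, hc', hall, smul_comm]

/-- Two elements of `Ω` with the same image in `PΩ` and a common fixed vector are equal. -/
theorem eq_of_mk_eq {s t : Om Q} (h : (QuotientGroup.mk s : PG Q) = QuotientGroup.mk t) {x : ι → F}
    (hx : x ≠ 0) (hs : app s.1 x = x) (ht : app t.1 x = x) : s = t := by
  obtain ⟨c, -, -, hc⟩ := S.center_scalar (QuotientGroup.eq.1 h)
  refine (Subtype.ext (eq_of_fix (g := t.1) (h := s.1) (c := c) (fun v => ?_) hx ht hs)).symm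
  have h2 := congrArg (app s.1) (hc v)
  rw [Subgroup.coe_mul, Subgroup.coe_inv, app_mul, app_app_inv, map_smul] at h2
  exact h2

theorem eich_eq_of_rt_eq {u a u' a' : ι → F} (hu : Q u = 0) (ha : polar Q u a = 0) (hu' : Q u' = 0)
    (ha' : polar Q u' a' = 0) (h : S.rt u a = S.rt u' a') : eich Q u a = eich Q u' a' := by
  obtain ⟨y, hy0, hy⟩ := exists_ortho_ne_zero S.nondeg ![u, a, u', a'] (by have := S.seven_le; omega)
  exact congrArg Subtype.val (S.eq_of_mk_eq h hy0 (app_eich_of_ortho hu ha (hy 0) (hy 1))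
    (app_eich_of_ortho hu' ha' (hy 2) (hy 3)))

theorem rt_ne_one {u a : ι → F} (hu : Q u = 0) (ha : polar Q u a = 0)
    (h : LinearIndependent F ![u, a]) : S.rt u a ≠ 1 := fun e => by
  rw [← S.rt_one hu] at e
  have := S.eich_eq_of_rt_eq hu ha hu (polar_zero_right Q u) e
  rw [eich_zero_right hu] at this
  exact eich_ne_one S.nondeg hu ha h this

theorem rt_injective {u a b : ι → F} (hu0 : u ≠ 0) (hu : Q u = 0) (ha : polar Q u a = 0)
    (hb : polar Q u b = 0) (h : S.rt u a = S.rt u b) : a - b ∈ Submodule.span F {u} :=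
  eich_injective S.nondeg hu0 hu ha hb (S.eich_eq_of_rt_eq hu ha hu hb h)

end Frame

/-! ### The centre of a Sylow subgroup -/

namespace Frame

variable [Fintype F] (S : Frame Q w)
include S

theorem isPGroup_root {p : ℕ} [CharP F p] (u : ι → F) (hu : Q u = 0) (B : Set (ι → F))
    (hB : ∀ b ∈ B, polar Q u b = 0) :
    ∀ g ∈ Subgroup.closure ((fun b => S.om u b) '' B), g ^ p = 1 ∧ ∃ b, polar Q u b = 0 ∧ g = S.om u b := by
  intro g hg
  suffices h : ∃ b, polar Q u b = 0 ∧ g = S.om u b by
    obtain ⟨b, hb, rfl⟩ := h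
    refine ⟨Subtype.ext ?_, b, hb, rfl⟩
    show eich Q u b ^ p = 1
    rw [app_pow_one hu hb, CharP.cast_eq_zero, zero_smul, eich_zero_right hu]
  induction hg using Subgroup.closure_induction with
  | mem x hx => obtain ⟨b, hb, rfl⟩ := hx; exact ⟨b, hB b hb, rfl⟩
  | one => exact ⟨0, polar_zero_right Q u, Subtype.ext (eich_zero_right hu).symm⟩
  | mul x y _ _ hx hy =>
    obtain ⟨a, ha, rfl⟩ := hx
    obtain ⟨b, hb, rfl⟩ := hy
    exact ⟨a + b, by rw [polar_add_right, ha, hb, add_zero], Subtype.ext (eich_add hu ha hb)⟩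
  | inv x _ hx =>
    obtain ⟨a, ha, rfl⟩ := hx
    exact ⟨-a, by rw [polar_neg_right, ha, neg_zero], Subtype.ext (eich_inv hu ha)⟩

/-- A long root group is the centre of some Sylow `p`-subgroup. -/
theorem exists_sylow_center {p : ℕ} [hp : Fact p.Prime] [CharP F p] {u v : ι → F} (h : Good Q u v) :
    ∃ P : Sylow p (PG Q), ∀ y : PG Q,
      (y ∈ P ∧ ∀ z ∈ P, Commute y z) ↔ ∃ t : F, y = S.rt u (t • v) := by
  have hQ := S.nondeg
  have hu0 : u ≠ 0 := h.indep.ne_zero 0
  have hv0 : v ≠ 0 := h.indep.ne_zero 1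
  -- hyperbolic partners
  obtain ⟨y, hyu, hyv⟩ := exists_polar_two hQ h.indep 1 0
  set u' := y + (-Q y) • u with hu'def
  have hu' : Q u' = 0 := by
    simp [hu'def, QuadraticMap.map_add ⇑Q, QuadraticMap.map_smul, h.left, polar_smul_right, hyu]
  have hu'u : polar Q u' u = 1 := by
    simp [hu'def, polar_add_left, polar_smul_left, hyu, polar_self_sing h.left]
  have hu'v : polar Q u' v = 0 := by
    simp [hu'def, polar_add_left, polar_smul_left, hyv, h.ortho]
  clear_value u'
  have hind : LinearIndependent F ![u, u', v] := by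
    rw [Fintype.linearIndependent_iff]
    intro g hg
    rw [Fin.sum_univ_three] at hg
    have e1 := congrArg (fun x => polar Q x u) hg
    have e2 := congrArg (fun x => polar Q x u') hg
    simp [polar_add_left, polar_smul_left, polar_self_sing h.left, hu'u, polar_comm (f := ⇑Q) v u,
      h.ortho, polar_comm (f := ⇑Q) u u', polar_self_sing hu', polar_comm (f := ⇑Q) v u', hu'v] at e1 e2
    simp [e1, e2, hv0] at hg
    intro i; fin_cases i <;> assumption
  obtain ⟨v', hv'⟩ := exists_polar hQ hind ![0, 0, 1]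
  -- the subgroup
  set R : Subgroup (Om Q) := Subgroup.closure ((fun b => S.om u b) '' {b | polar Q u b = 0}) with hR
  set B : Set (ι → F) := {b | polar Q v b = 0 ∧ polar Q u b = 0 ∧ polar Q u' b = 0}
  set T : Subgroup (Om Q) := Subgroup.closure ((fun b => S.om v b) '' B) with hT
  have hRp : IsPGroup p R := fun g => ⟨1, Subtype.ext (by
    rw [pow_one]; exact (S.isPGroup_root u h.left _ (fun b hb => hb) g.1 g.2).1)⟩
  have hTp : IsPGroup p T := fun g => ⟨1, Subtype.ext (by
    rw [pow_one]; exact (S.isPGroup_root v h.right _ (fun b hb => hb.1) g.1 g.2).1)⟩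
  have hnorm : T ≤ Subgroup.normalizer (R : Set (Om Q)) := by
    rw [hT, Subgroup.closure_le]
    rintro _ ⟨c, ⟨hvc, huc, -⟩, rfl⟩
    have key : ∀ c : ι → F, polar Q v c = 0 → polar Q u c = 0 → ∀ x ∈ R,
        S.om v c * x * (S.om v c)⁻¹ ∈ R := by
      intro c hvc huc x hx
      obtain ⟨-, b, hb, rfl⟩ := S.isPGroup_root (p := p) u h.left _ (fun b hb => hb) x hx
      have hfix : app (eich Q v c) u = u := app_eich_of_ortho h.right hvc h.ortho huc
      refine Subgroup.subset_closure ⟨app (eich Q v c) b, ?_, Subtype.ext ?_⟩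
      · show polar Q u _ = 0
        rw [← hfix, polar_app, hb]
      · show eich Q u (app (eich Q v c) b) = eich Q v c * eich Q u b * (eich Q v c)⁻¹
        rw [eich_conj h.left hb, hfix]
    rw [SetLike.mem_coe, Subgroup.mem_normalizer_iff]
    intro x
    refine ⟨key c hvc huc x, fun hx => ?_⟩
    have hinv : (S.om v c)⁻¹ = S.om v (-c) := Subtype.ext (eich_inv h.right hvc)
    have := key (-c) (by rw [polar_neg_right, hvc, neg_zero]) (by rw [polar_neg_right, huc, neg_zero]) _ hx
    rwa [← hinv, inv_inv, ← mul_assoc, ← mul_assoc, inv_mul_cancel, one_mul, inv_mul_cancel_right] at this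
  obtain ⟨P, hP⟩ := (IsPGroup.to_sup_of_normal_left' hRp hTp hnorm).exists_le_sylow
  have hRP : ∀ b, polar Q u b = 0 → S.om u b ∈ P := fun b hb =>
    hP (Subgroup.mem_sup_left (Subgroup.subset_closure ⟨b, hb, rfl⟩))
  have hTP : ∀ b ∈ B, S.om v b ∈ P := fun b hb =>
    hP (Subgroup.mem_sup_right (Subgroup.subset_closure ⟨b, hb, rfl⟩))
  -- the fixed vectors
  have hfix : ∀ g ∈ P, app (g : Om Q).1 u = u := by
    let act : MulAction P (ι → F) :=
      { smul := fun g x => app (g : Om Q).1 x
        one_smul := fun x => app_one x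
        mul_smul := fun g g' x => app_mul _ _ x }
    have hcard : p ∣ Nat.card (ι → F) := by
      obtain ⟨f, -, hf⟩ := FiniteField.card F p
      rw [Nat.card_eq_fintype_card, Fintype.card_fun, hf]
      exact dvd_pow (dvd_pow_self p f.ne_zero) (by have := S.seven_le; omega)
    obtain ⟨x, hx, hx0⟩ := P.2.exists_fixed_point_of_prime_dvd_card_of_fixed_point (ι → F) hcard
      (a := 0) (fun g => map_zero _)
    have hxfix : ∀ g ∈ P, app (g : Om Q).1 x = x := fun g hg => hx ⟨g, hg⟩
    have hzero : ∀ b, polar Q b u = 0 → polar Q x u = 0 → polar Q x b = 0 := by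
      intro b hb hxu
      rw [polar_comm] at hb
      have := hxfix _ (hRP b hb)
      rw [show ((S.om u b) : Om Q).1 = eich Q u b from rfl, app_eich h.left hb, hxu] at this
      simpa [hu0] using this
    have hxu : polar Q x u = 0 := by
      by_contra hne
      have := hxfix _ (hRP v h.ortho)
      rw [show ((S.om u v) : Om Q).1 = eich Q u v from rfl, app_eich h.left h.ortho] at this
      have h' := congrArg (fun z => polar Q z v') this
      simp [polar_add_left, polar_smul_left, polar_comm (f := ⇑Q) u v',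
        polar_comm (f := ⇑Q) v v', show polar Q v' u = 0 from hv' 0,
        show polar Q v' v = 1 from hv' 2] at h'
      exact hne h'
    obtain ⟨c, hc⟩ := Submodule.mem_span_singleton.1 (mem_span_of_perp hQ hu0 (v := x) fun b hb => by
      rw [polar_comm]; exact hzero b hb hxu)
    have hc0 : c ≠ 0 := fun e => hx0 (by rw [← hc, e, zero_smul])
    intro g hg
    have := hxfix g hg
    rwa [← hc, map_smul, smul_right_inj hc0] at this
  -- the centre
  have hcenter : ∀ s : Om Q, s ∈ P → (∀ g ∈ P, g * s = s * g) → ∃ t : F, s = S.om u (t • v) := by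
    intro s hs hcomm
    have hsu := hfix s hs
    have hcr : ∀ (u₁ b : ι → F), Q u₁ = 0 → polar Q u₁ b = 0 → S.om u₁ b ∈ P →
        eich Q (app s.1 u₁) (app s.1 b) = eich Q u₁ b := fun u₁ b h1 h2 h3 => by
      rw [← eich_conj h1 h2]
      have := congrArg Subtype.val (hcomm _ h3)
      change eich Q u₁ b * s.1 = s.1 * eich Q u₁ b at this
      rw [← this, mul_inv_cancel_right]
    have hmod : ∀ b, polar Q u b = 0 → app s.1 b - b ∈ Submodule.span F {u} := fun b hb => by
      have hb' : polar Q u (app s.1 b) = 0 := by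
        have := polar_app s.1 u b
        rwa [hsu, hb] at this
      refine eich_injective hQ hu0 h.left hb' hb ?_
      have := hcr u b h.left hb (hRP b hb)
      rwa [hsu] at this
    set y := app s.1 u'
    have hy : polar Q y u = 1 := by
      have := polar_app s.1 u' u
      rwa [hsu, hu'u] at this
    set c := y - u' - polar Q y u' • u with hcdef
    have hcu : polar Q u c = 0 := by
      simp [hcdef, polar_sub_right, polar_smul_right, polar_self_sing h.left,
        polar_comm (f := ⇑Q) u y, hy, polar_comm (f := ⇑Q) u u', hu'u]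
    have hcu' : polar Q u' c = 0 := by
      simp [hcdef, polar_sub_right, polar_smul_right, polar_self_sing hu', hu'u,
        polar_comm (f := ⇑Q) u' y]
    have hyc : polar Q y u' = -Q c := by
      have e : y = u' + polar Q y u' • u + c := by rw [hcdef]; abel
      have h0 : Q y = 0 := by rw [Q_app, hu']
      rw [e, QuadraticMap.map_add ⇑Q, QuadraticMap.map_add ⇑Q, QuadraticMap.map_smul, hu', h.left,
        polar_smul_right, hu'u, polar_add_left, polar_smul_left, hcu', hcu] at h0
      simp at h0
      linear_combination h0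
    have hr : app (eich Q u c) u' = y := by
      rw [app_eich h.left hcu, hu'u, hcu', hcdef]
      rw [← hcdef, show y = u' + polar Q y u' • u + c by rw [hcdef]; abel, hyc]
      module
    have hall : ∀ x, app s.1 x = app (eich Q u c) x := fun x => by
      have hbase : ∀ b, polar Q u b = 0 → polar Q u' b = 0 → app s.1 b = app (eich Q u c) b := by
        intro b h1 h2
        obtain ⟨t, ht⟩ := Submodule.mem_span_singleton.1 (hmod b h1)
        have hsb : app s.1 b = b + t • u := by rw [ht]; abel
        have e := polar_app s.1 u' b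
        rw [hsb, h2, show app s.1 u' = app (eich Q u c) u' from hr.symm, app_eich h.left hcu, hu'u,
          hcu'] at e
        simp [polar_add_left, polar_add_right, polar_smul_left, polar_smul_right, h1, h2, hcu,
          hu'u, polar_comm (f := ⇑Q) c u, polar_self_sing h.left] at e
        rw [hsb, app_eich h.left hcu, polar_comm (f := ⇑Q) b u, h1, polar_comm (f := ⇑Q) b c,
          show t = -polar Q c b by linear_combination e]
        module
      obtain ⟨d, hd1, hd2, hxd⟩ : ∃ d, polar Q u d = 0 ∧ polar Q u' d = 0 ∧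
          x = polar Q x u' • u + polar Q x u • u' + d := by
        refine ⟨x - polar Q x u' • u - polar Q x u • u', ?_, ?_, by abel⟩
        · simp only [polar_sub_right, polar_smul_right, polar_self_sing h.left,
            polar_comm (f := ⇑Q) u u', hu'u, polar_comm (f := ⇑Q) u x, smul_eq_mul]
          ring
        · simp only [polar_sub_right, polar_smul_right, polar_self_sing hu', hu'u,
            polar_comm (f := ⇑Q) u' x, smul_eq_mul]
          ring
      rw [hxd, map_add, map_add, map_smul, map_smul, map_add, map_add, map_smul, map_smul, hsu,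
        app_eich_self h.left hcu, hr, hbase d hd1 hd2]
    have hse : s = S.om u c := Subtype.ext (ext_app hall)
    -- `c` is fixed by the second group
    have hkey : ∀ b ∈ B, app (eich Q v b) c = c := by
      intro b hb
      obtain ⟨hvb, hub, hu'b⟩ := hb
      have h1 := congrArg Subtype.val (hcomm _ (hTP b ⟨hvb, hub, hu'b⟩))
      rw [hse] at h1
      change eich Q v b * eich Q u c = eich Q u c * eich Q v b at h1
      have e : eich Q v b * eich Q u c * (eich Q v b)⁻¹ = eich Q u c := by
        rw [h1, mul_inv_cancel_right]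
      rw [eich_conj h.left hcu, app_eich_of_ortho h.right hvb h.ortho hub] at e
      have hc2 : polar Q u (app (eich Q v b) c) = 0 := by
        have := polar_app (eich Q v b) u c
        rwa [app_eich_of_ortho h.right hvb h.ortho hub, hcu] at this
      obtain ⟨t, ht⟩ := Submodule.mem_span_singleton.1 (eich_injective hQ hu0 h.left hc2 hcu e)
      have h' := congrArg (fun z => polar Q u' z) ht
      simp [polar_sub_right, polar_smul_right, hu'u, hcu', app_eich h.right hvb, polar_add_right,
        hu'v, hu'b] at h'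
      rw [h', zero_smul, eq_comm, sub_eq_zero] at ht
      exact ht
    obtain ⟨b, hb0, hb⟩ := exists_ortho_ne_zero hQ ![u, u', v, v'] (by have := S.seven_le; omega)
    have hcv : polar Q c v = 0 := by
      by_contra hne
      have hbB : b ∈ B := ⟨by rw [polar_comm]; exact hb 2, by rw [polar_comm]; exact hb 0,
        by rw [polar_comm]; exact hb 1⟩
      have e := hkey b hbB
      rw [app_eich h.right hbB.1] at e
      obtain ⟨z, hz⟩ := exists_polar_eq_one hQ hb0
      set z' := z - polar Q z v' • v with hz'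
      have h' := congrArg (fun x => polar Q x z') e
      simp [hz', polar_add_left, polar_smul_left, polar_sub_right, polar_smul_right, hz,
        polar_comm (f := ⇑Q) b v, hbB.1, polar_self_sing h.right] at h'
      have hb3 : polar Q b v' = 0 := hb 3
      have h2 := congrArg (fun x => polar Q x v') e
      simp [polar_add_left, polar_smul_left, hb3, show polar Q v v' = 1 by rw [polar_comm]; exact hv' 2] at h2
      rw [h2] at h'
      simp at h'
      exact hne h'
    have hcmem : c ∈ Submodule.span F {v} := by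
      refine mem_span_of_perp hQ hv0 fun x hx => ?_
      set b' := x - polar Q x u' • u - polar Q x u • u'
      have hbB : b' ∈ B := by
        refine ⟨?_, ?_, ?_⟩
        · simp [b', polar_sub_right, polar_smul_right, polar_comm (f := ⇑Q) v u, h.ortho,
            polar_comm (f := ⇑Q) v u', hu'v, polar_comm (f := ⇑Q) v x, hx]
        · simp [b', polar_sub_right, polar_smul_right, polar_self_sing h.left,
            polar_comm (f := ⇑Q) u u', hu'u, polar_comm (f := ⇑Q) u x]
        · simp [b', polar_sub_right, polar_smul_right, polar_self_sing hu', hu'u,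
            polar_comm (f := ⇑Q) u' x]
      have e := hkey b' hbB
      rw [app_eich h.right hbB.1, hcv] at e
      simp [hv0] at e
      simpa [b', polar_sub_right, polar_smul_right, polar_comm (f := ⇑Q) c u, hcu,
        polar_comm (f := ⇑Q) c u', hcu', polar_comm (f := ⇑Q) c x] using e
    obtain ⟨t, ht⟩ := Submodule.mem_span_singleton.1 hcmem
    exact ⟨t, by rw [hse, ← ht]⟩
  -- a non-trivial central element
  have hZ : ∀ (t : F) (g : Om Q), g ∈ P → g * S.om u (t • v) = S.om u (t • v) * g := by
    have hPnt : Nontrivial P := ⟨⟨⟨S.om u v, hRP v h.ortho⟩, 1, fun e =>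
      eich_ne_one hQ h.left h.ortho h.indep (congrArg (fun x : P => x.1.1) e)⟩⟩
    have := P.2.center_nontrivial
    obtain ⟨⟨⟨z, hzP⟩, hzc⟩, hz1⟩ := exists_ne (1 : Subgroup.center P)
    obtain ⟨s, rfl⟩ := hcenter z hzP fun g hg =>
      congrArg Subtype.val (Subgroup.mem_center_iff.1 hzc ⟨g, hg⟩)
    have hs : s ≠ 0 := fun e => hz1 (Subtype.ext (Subtype.ext (Subtype.ext (by
      show eich Q u (s • v) = 1
      rw [e, zero_smul, eich_zero_right h.left]))))
    intro t g hg
    have hsv : polar Q u (s • v) = 0 := by rw [polar_smul_right, h.ortho, smul_zero]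
    have e : eich Q (app g.1 u) (app g.1 (s • v)) = eich Q u (s • v) := by
      rw [← eich_conj h.left hsv]
      have := congrArg Subtype.val (congrArg Subtype.val (Subgroup.mem_center_iff.1 hzc ⟨g, hg⟩))
      change g.1 * eich Q u (s • v) = eich Q u (s • v) * g.1 at this
      rw [this, mul_inv_cancel_right]
    rw [hfix g hg] at e
    have hgv : polar Q u (app g.1 v) = 0 := by
      have := polar_app g.1 u v
      rwa [hfix g hg, h.ortho] at this
    have hgsv : polar Q u (app g.1 (s • v)) = 0 := by rw [map_smul, polar_smul_right, hgv, smul_zero]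
    obtain ⟨r, hr⟩ := Submodule.mem_span_singleton.1 (eich_injective hQ hu0 h.left hgsv hsv e)
    have hgv' : app g.1 v = v + (s⁻¹ * r) • u := by
      have h' := congrArg (fun x => s⁻¹ • x) hr
      simp [smul_sub, map_smul, smul_smul, hs] at h'
      rw [h']; abel
    refine mul_inv_eq_iff_eq_mul.1 (Subtype.ext ?_)
    show g.1 * eich Q u (t • v) * g.1⁻¹ = eich Q u (t • v)
    rw [eich_conj h.left (by rw [polar_smul_right, h.ortho, smul_zero]), hfix g hg, map_smul, hgv',
      smul_add, smul_smul, eich_add_smul h.left (by rw [polar_smul_right, h.ortho, smul_zero])]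
  -- pass to the quotient
  refine ⟨P.mapSurjective (f := QuotientGroup.mk' _) (QuotientGroup.mk'_surjective _), fun y => ⟨?_, ?_⟩⟩
  · rintro ⟨⟨s, hs, rfl⟩, hy⟩
    obtain ⟨t, rfl⟩ := hcenter s hs fun g hg => by
      have h1 := hy _ ⟨g, hg, rfl⟩
      refine S.eq_of_mk_eq (x := u) ?_ hu0 ?_ ?_
      · rw [QuotientGroup.mk_mul, QuotientGroup.mk_mul]; exact h1.eq.symm
      · rw [Subgroup.coe_mul, app_mul, hfix s hs, hfix g hg]
      · rw [Subgroup.coe_mul, app_mul, hfix g hg, hfix s hs]
    exact ⟨t, rfl⟩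
  · rintro ⟨t, rfl⟩
    refine ⟨⟨S.om u (t • v), hRP _ (by rw [polar_smul_right, h.ortho, smul_zero]), rfl⟩, ?_⟩
    rintro _ ⟨g, hg, rfl⟩
    have := congrArg (QuotientGroup.mk' (Subgroup.center (Cfsg.Omega F ⇑Q))) (hZ t g hg)
    rw [map_mul, map_mul] at this
    exact this.symm

/-- Automorphisms map long root groups to long root groups. -/
theorem exists_image (β : MulAut (PG Q)) {u v : ι → F} (h : Good Q u v) :
    ∃ u' v', Good Q u' v' ∧ (∀ t : F, ∃ s : F, β (S.rt u (t • v)) = S.rt u' (s • v')) ∧
      ∀ s : F, ∃ t : F, β (S.rt u (t • v)) = S.rt u' (s • v') := by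
  obtain ⟨p, hp⟩ := CharP.exists F
  have : Fact p.Prime := ⟨CharP.char_is_prime F p⟩
  obtain ⟨P, hP⟩ := S.exists_sylow_center (p := p) h
  obtain ⟨g, hg⟩ := MulAction.exists_smul_eq (PG Q) P (β • P)
  have hmem : ∀ y, y ∈ P ↔ (MulAut.conj g)⁻¹ (β y) ∈ P := by
    intro y
    have h1 : β y ∈ (β • P : Sylow p (PG Q)) ↔ y ∈ P :=
      Subgroup.smul_mem_pointwise_smul_iff (a := β) (S := (P : Subgroup (PG Q)))
    rw [← h1, ← hg]
    exact Subgroup.mem_pointwise_smul_iff_inv_smul_mem
  set γ : MulAut (PG Q) := (MulAut.conj g)⁻¹ * β with hγ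
  have hmem' : ∀ y, γ y ∈ P ↔ y ∈ P := fun y => (hmem y).symm
  obtain ⟨s, rfl⟩ := QuotientGroup.mk_surjective g
  have hconj : ∀ t : F, MulAut.conj (QuotientGroup.mk s : PG Q) (S.rt u (t • v)) =
      S.rt (app s.1 u) (t • app s.1 v) := fun t => by
    rw [MulAut.conj_apply, S.rt_conj h.left (by rw [polar_smul_right, h.ortho, smul_zero]), map_smul]
  refine ⟨app s.1 u, app s.1 v, ⟨by rw [Q_app, h.left], by rw [Q_app, h.right],
    by rw [polar_app, h.ortho], ?_⟩, fun t => ?_, fun r => ?_⟩
  · have := h.indep.map' (app s.1) (LinearMap.ker_eq_bot.2 (app_injective _))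
    rw [show ![app s.1 u, app s.1 v] = app s.1 ∘ ![u, v] by funext i; fin_cases i <;> rfl]
    exact this
  · obtain ⟨h1, h2⟩ := (hP _).2 ⟨t, rfl⟩
    obtain ⟨r, hr⟩ := (hP (γ (S.rt u (t • v)))).1 ⟨(hmem' _).2 h1, fun z hz => by
      obtain ⟨z, rfl⟩ := γ.surjective z
      exact (h2 z ((hmem' z).1 hz)).map γ.toMonoidHom⟩
    refine ⟨r, ?_⟩
    rw [← hconj, ← hr, hγ, MulAut.mul_apply, MulAut.apply_inv_self]
  · obtain ⟨h1, h2⟩ := (hP _).2 ⟨r, rfl⟩
    obtain ⟨y, hy⟩ := γ.surjective (S.rt u (r • v))
    obtain ⟨t, rfl⟩ := (hP y).1 ⟨(hmem' y).1 (hy ▸ h1), fun z hz => by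
      have := h2 (γ z) ((hmem' z).2 hz)
      rw [← hy] at this
      exact this.of_map γ.injective⟩
    refine ⟨t, ?_⟩
    rw [← hconj, ← hy, hγ, MulAut.mul_apply, MulAut.apply_inv_self]

end Frame

end CfsgLib.AutPOmega
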