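/-
Long root groups as totally singular lines; the relations between lines seen inside the abstract group.
-/
import Cfsg.Agent.Lib.AutPOmega.Root

set_option autoImplicit false
set_option linter.unusedSectionVars false

namespace CfsgLib.AutPOmega

open Matrix QuadraticMap CfsgLib.Orth

variable {ι : Type} [Fintype ι] [DecidableEq ι] {F : Type*} [Field F] {Q : QuadraticForm F (ι → F)}
  {w : ℕ}

/-- the plane spanned by two vectors -/
def ln (u a : ι → F) : Submodule F (ι → F) := Submodule.span F {u, a}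

/-- totally singular lines (two-dimensional) -/
def IsLine (Q : QuadraticForm F (ι → F)) (L : Submodule F (ι → F)) : Prop :=
  ∃ u a, Good Q u a ∧ L = ln u a

theorem left_mem_ln (u a : ι → F) : u ∈ ln u a := Submodule.subset_span (by simp)
theorem right_mem_ln (u a : ι → F) : a ∈ ln u a := Submodule.subset_span (by simp)
theorem mem_ln {u a x : ι → F} : x ∈ ln u a ↔ ∃ p r : F, p • u + r • a = x := Submodule.mem_span_pair

theorem finrank_ln {u a : ι → F} (h : LinearIndependent F ![u, a]) : Module.finrank F (ln u a) = 2 := by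
  rw [ln, ← Matrix.range_cons_cons_empty u a ![], finrank_span_eq_card h, Fintype.card_fin]

namespace IsLine

variable {L M : Submodule F (ι → F)}

theorem finrank (hL : IsLine Q L) : Module.finrank F L = 2 := by
  obtain ⟨u, a, h, rfl⟩ := hL; exact finrank_ln h.indep

theorem sing (hL : IsLine Q L) {x : ι → F} (hx : x ∈ L) : Q x = 0 := by
  obtain ⟨u, a, h, rfl⟩ := hL
  obtain ⟨p, r, rfl⟩ := mem_ln.1 hx
  simp [QuadraticMap.map_add ⇑Q, QuadraticMap.map_smul, h.left, h.right, polar_smul_left,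
    polar_smul_right, h.ortho]

theorem ortho (hL : IsLine Q L) {x y : ι → F} (hx : x ∈ L) (hy : y ∈ L) : polar Q x y = 0 := by
  rw [QuadraticMap.polar, hL.sing hx, hL.sing hy, hL.sing (L.add_mem hx hy), sub_zero, sub_zero]

theorem eq_ln (hL : IsLine Q L) {x y : ι → F} (hx : x ∈ L) (hy : y ∈ L)
    (h : LinearIndependent F ![x, y]) : L = ln x y :=
  (Submodule.eq_of_le_of_finrank_eq (Submodule.span_le.2 (by
    intro z hz; rcases hz with rfl | rfl <;> assumption)) (by
    rw [hL.finrank]; exact finrank_ln h)).symm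

theorem good (hL : IsLine Q L) {x y : ι → F} (hx : x ∈ L) (hy : y ∈ L)
    (h : LinearIndependent F ![x, y]) : Good Q x y := ⟨hL.sing hx, hL.sing hy, hL.ortho hx hy, h⟩

theorem exists_second (hL : IsLine Q L) {x : ι → F} (hx : x ∈ L) (hx0 : x ≠ 0) :
    ∃ y, Good Q x y ∧ L = ln x y := by
  obtain ⟨y, hy, hyx⟩ := SetLike.exists_of_lt (show Submodule.span F {x} < L from
    lt_of_le_of_ne ((Submodule.span_singleton_le_iff_mem _ _).2 hx) fun e => by
      have := hL.finrank; rw [← e, finrank_span_singleton hx0] at this; omega)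
  have h := independent_pair hx0 hyx
  exact ⟨y, hL.good hx hy h, hL.eq_ln hx hy h⟩

theorem meet_unique (hL : IsLine Q L) (hM : IsLine Q M) (hne : L ≠ M) {p r : ι → F} (hp0 : p ≠ 0)
    (hpL : p ∈ L) (hpM : p ∈ M) (hrL : r ∈ L) (hrM : r ∈ M) : r ∈ Submodule.span F {p} := by
  by_contra hr
  have h := independent_pair hp0 hr
  exact hne ((hL.eq_ln hpL hrL h).trans (hM.eq_ln hpM hrM h).symm)

end IsLine

theorem indep_of_pair {u a v b : ι → F} (h : LinearIndependent F ![u, a]) (h' : LinearIndependent F ![v, b])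
    (hd : ∀ x, x ∈ ln u a → x ∈ ln v b → x = 0) : LinearIndependent F ![u, a, v, b] := by
  rw [Fintype.linearIndependent_iff]
  intro g hg
  rw [Fin.sum_univ_four] at hg
  have hz : g 0 • u + g 1 • a = 0 := hd _ (mem_ln.2 ⟨_, _, rfl⟩) (mem_ln.2 ⟨-g 2, -g 3, by
    simp at hg
    linear_combination (norm := module) -hg⟩)
  have h1 := LinearIndependent.pair_iff.1 h _ _ hz
  have h2 := LinearIndependent.pair_iff.1 h' (g 2) (g 3) (by
    simp [h1.1, h1.2] at hg; exact hg)
  intro i; fin_cases i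
  · exact h1.1
  · exact h1.2
  · exact h2.1
  · exact h2.2

namespace Frame

variable (S : Frame Q w)
include S

/-- the long root group of a line -/
noncomputable def X (L : Submodule F (ι → F)) : Subgroup (PG Q) :=
  Subgroup.closure {g | ∃ u ∈ L, ∃ a ∈ L, g = S.rt u a}

theorem mem_X_iff {u a : ι → F} (h : Good Q u a) {g : PG Q} :
    g ∈ S.X (ln u a) ↔ ∃ t : F, g = S.rt u (t • a) := by
  have hs : ∀ t : F, polar Q u (t • a) = 0 := fun t => by rw [polar_smul_right, h.ortho, smul_zero]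
  refine ⟨fun hg => ?_, fun ⟨t, ht⟩ => Subgroup.subset_closure ⟨u, left_mem_ln u a, t • a,
    Submodule.smul_mem _ t (right_mem_ln u a), ht⟩⟩
  induction hg using Subgroup.closure_induction with
  | mem x hx =>
    obtain ⟨y, hy, z, hz, rfl⟩ := hx
    obtain ⟨p, r, rfl⟩ := mem_ln.1 hy
    obtain ⟨s, t, rfl⟩ := mem_ln.1 hz
    exact ⟨_, S.rt_congr (eich_comb h.left h.right h.ortho p r s t)⟩
  | one => exact ⟨0, by rw [zero_smul, S.rt_one h.left]⟩
  | mul x y _ _ hx hy =>
    obtain ⟨s, rfl⟩ := hx; obtain ⟨t, rfl⟩ := hy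
    exact ⟨s + t, by rw [S.rt_add h.left (hs s) (hs t), add_smul]⟩
  | inv x _ hx =>
    obtain ⟨s, rfl⟩ := hx
    exact ⟨-s, by rw [S.rt_inv h.left (hs s), neg_smul]⟩

theorem rt_mem_X {L : Submodule F (ι → F)} {u a : ι → F} (hu : u ∈ L) (ha : a ∈ L) : S.rt u a ∈ S.X L :=
  Subgroup.subset_closure ⟨u, hu, a, ha, rfl⟩

theorem mem_of_rt {u a : ι → F} (h : Good Q u a) {v b : ι → F} (hv : Q v = 0) (hb : polar Q v b = 0)
    (e : S.rt v b = S.rt u a) : u ∈ ln v b ∧ a ∈ ln v b := by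
  have e' := S.eich_eq_of_rt_eq hv hb h.left h.ortho e
  obtain ⟨y, hy⟩ := mem_moved_left S.nondeg h.left h.ortho h.indep
  obtain ⟨z, hz⟩ := mem_moved_right S.nondeg h.left h.ortho h.indep
  rw [← e'] at hy hz
  rw [h.right, neg_zero, zero_smul, add_zero] at hz
  exact ⟨hy ▸ moved_mem hv hb y, hz ▸ moved_mem hv hb z⟩

theorem X_injective {L M : Submodule F (ι → F)} (hL : IsLine Q L) (hM : IsLine Q M)
    (h : S.X L ≤ S.X M) : L = M := by
  obtain ⟨u, a, hu, rfl⟩ := hL
  obtain ⟨v, b, hv, rfl⟩ := hM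
  obtain ⟨t, ht⟩ := (S.mem_X_iff hv).1 (h (S.rt_mem_X (left_mem_ln u a) (right_mem_ln u a)))
  obtain ⟨h1, h2⟩ := S.mem_of_rt hu hv.left (by rw [polar_smul_right, hv.ortho, smul_zero]) ht.symm
  have hsub : ln v (t • b) ≤ ln v b := Submodule.span_le.2 (by
    intro z hz
    rcases hz with rfl | rfl
    · exact left_mem_ln _ _
    · exact Submodule.smul_mem _ _ (right_mem_ln v b))
  exact (IsLine.eq_ln ⟨v, b, hv, rfl⟩ (hsub h1) (hsub h2) hu.indep).symm

/-- the abstract counterpart of "meeting and orthogonal" -/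
def Close (L M : Submodule F (ι → F)) : Prop :=
  L ≠ M ∧ ∀ x ∈ S.X L, ∀ y ∈ S.X M, ∃ N, IsLine Q N ∧ x * y ∈ S.X N

/-- commuting root groups -/
def Comm (L M : Submodule F (ι → F)) : Prop := ∀ x ∈ S.X L, ∀ y ∈ S.X M, Commute x y

theorem close_of_meet {u a b : ι → F} (ha : Good Q u a) (hb : Good Q u b) (hab : polar Q a b = 0)
    (hne : ln u a ≠ ln u b) : S.Close (ln u a) (ln u b) := by
  refine ⟨hne, fun x hx y hy => ?_⟩
  obtain ⟨s, rfl⟩ := (S.mem_X_iff ha).1 hx
  obtain ⟨t, rfl⟩ := (S.mem_X_iff hb).1 hy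
  have h1 : polar Q u (s • a) = 0 := by rw [polar_smul_right, ha.ortho, smul_zero]
  have h2 : polar Q u (t • b) = 0 := by rw [polar_smul_right, hb.ortho, smul_zero]
  rw [S.rt_add ha.left h1 h2]
  by_cases hm : s • a + t • b ∈ Submodule.span F {u}
  · obtain ⟨c, hc⟩ := Submodule.mem_span_singleton.1 hm
    refine ⟨ln u a, ⟨u, a, ha, rfl⟩, ?_⟩
    rw [← hc]
    exact S.rt_mem_X (left_mem_ln u a) (Submodule.smul_mem _ c (left_mem_ln u a))
  · refine ⟨ln u (s • a + t • b), ⟨u, _, ⟨ha.left, ?_, ?_, independent_pair (ha.indep.ne_zero 0) hm⟩, rfl⟩,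
      S.rt_mem_X (left_mem_ln _ _) (right_mem_ln _ _)⟩
    · simp [QuadraticMap.map_add ⇑Q, QuadraticMap.map_smul, ha.right, hb.right, polar_smul_left,
        polar_smul_right, hab]
    · rw [polar_add_right, h1, h2, add_zero]

theorem close_spec {L M : Submodule F (ι → F)} (hL : IsLine Q L) (hM : IsLine Q M) (h : S.Close L M) :
    (∃ u, u ≠ 0 ∧ u ∈ L ∧ u ∈ M) ∧ ∀ x ∈ L, ∀ y ∈ M, polar Q x y = 0 := by
  have hQ := S.nondeg
  have hmeet : ∃ u, u ≠ 0 ∧ u ∈ L ∧ u ∈ M := by
    by_contra hd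
    push Not at hd
    obtain ⟨u, a, hu, rfl⟩ := hL
    obtain ⟨v, b, hv, rfl⟩ := hM
    have hind := indep_of_pair hu.indep hv.indep fun x h1 h2 => by
      by_contra hx; exact hd x hx h1 h2
    obtain ⟨N, ⟨n₁, n₂, hn, rfl⟩, hN⟩ := h.2 _ (S.rt_mem_X (left_mem_ln u a) (right_mem_ln u a)) _
      (S.rt_mem_X (left_mem_ln v b) (right_mem_ln v b))
    obtain ⟨t, ht⟩ := (S.mem_X_iff hn).1 hN
    have hnt : polar Q n₁ (t • n₂) = 0 := by rw [polar_smul_right, hn.ortho, smul_zero]
    obtain ⟨y0, hy0, hy⟩ := exists_ortho_ne_zero hQ ![u, a, v, b, n₁, t • n₂] (by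
      have := S.seven_le; omega)
    have e : eich Q u a * eich Q v b = eich Q n₁ (t • n₂) :=
      congrArg Subtype.val (S.eq_of_mk_eq (s := S.om u a * S.om v b) (t := S.om n₁ (t • n₂)) ht hy0
        (by
          show app (eich Q u a * eich Q v b) y0 = y0
          rw [app_mul, app_eich_of_ortho hv.left hv.ortho (hy 2) (hy 3),
            app_eich_of_ortho hu.left hu.ortho (hy 0) (hy 1)])
        (app_eich_of_ortho hn.left hnt (hy 4) (hy 5)))
    set N := Submodule.span F {n₁, t • n₂} with hNdef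
    have hmv : ∀ y, app (eich Q u a) (app (eich Q v b) y) - y ∈ N := fun y => by
      rw [← app_mul, e]; exact moved_mem hn.left hnt y
    have hval : ∀ c : Fin 4 → F, ∃ y, polar Q y v = c 2 ∧ polar Q y b = c 3 ∧
        polar Q (app (eich Q v b) y) u = c 0 ∧ polar Q (app (eich Q v b) y) a = c 1 := by
      intro c
      obtain ⟨z, hz⟩ := exists_polar hQ hind c
      obtain ⟨y, rfl⟩ : ∃ y, app (eich Q v b) y = z := ⟨_, app_app_inv _ z⟩
      refine ⟨y, ?_, ?_, hz 0, hz 1⟩
      · have h2 : polar Q (app (eich Q v b) y) v = c 2 := hz 2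
        rw [← h2]
        conv_rhs => arg 3; rw [← app_eich_self hv.left hv.ortho]
        rw [polar_app]
      · have h2 : polar Q (app (eich Q v b) y) b = c 3 := hz 3
        rw [← h2]
        conv_rhs => arg 3; rw [← app_eich_of_ortho hv.left hv.ortho
          (by rw [polar_comm, hv.ortho]) (polar_self_sing hv.right)]
        rw [polar_app]
    have hform : ∀ c : Fin 4 → F, c 2 • b - c 3 • v + (c 0 • a - c 1 • u) ∈ N := fun c => by
      obtain ⟨y, h1, h2, h3, h4⟩ := hval c
      have hm := hmv y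
      rw [app_eich_sing hu.left hu.right hu.ortho, h3, h4] at hm
      rw [app_eich_sing hv.left hv.right hv.ortho, h1, h2] at hm
      convert hm using 1
      abel
    have hu' : u ∈ N := by simpa using hform ![0, -1, 0, 0]
    have ha' : a ∈ N := by simpa using hform ![1, 0, 0, 0]
    have hv' : v ∈ N := by simpa using hform ![0, 0, 0, -1]
    have hb' : b ∈ N := by simpa using hform ![0, 0, 1, 0]
    have hsub : Submodule.span F (Set.range ![u, a, v, b]) ≤ N := Submodule.span_le.2 (by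
      rintro _ ⟨i, rfl⟩; fin_cases i <;> assumption)
    have h4 := Submodule.finrank_mono hsub
    rw [finrank_span_eq_card hind, Fintype.card_fin] at h4
    have h2 : Module.finrank F N ≤ 2 := by
      classical
      have e2 := finrank_span_finset_le_card (R := F) ({n₁, t • n₂} : Finset (ι → F))
      simp only [Finset.coe_insert, Finset.coe_singleton] at e2
      exact e2.trans Finset.card_le_two
    omega
  refine ⟨hmeet, ?_⟩
  obtain ⟨u, hu0, huL, huM⟩ := hmeet
  obtain ⟨a, ha, rfl⟩ := hL.exists_second huL hu0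
  obtain ⟨b, hb, rfl⟩ := hM.exists_second huM hu0
  have hab : polar Q a b = 0 := by
    by_contra hne
    obtain ⟨N, hNl, hN⟩ := h.2 _ (S.rt_mem_X huL (right_mem_ln u a)) _ (S.rt_mem_X huM (right_mem_ln u b))
    obtain ⟨n₁, n₂, hn, rfl⟩ := hNl
    obtain ⟨t, ht⟩ := (S.mem_X_iff hn).1 hN
    have hnt : polar Q n₁ (t • n₂) = 0 := by rw [polar_smul_right, hn.ortho, smul_zero]
    have hab' : polar Q u (a + b) = 0 := by rw [polar_add_right, ha.ortho, hb.ortho, add_zero]
    rw [S.rt_add ha.left ha.ortho hb.ortho] at ht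
    have e := S.eich_eq_of_rt_eq ha.left hab' hn.left hnt ht
    have hQab : Q (a + b) = polar Q a b := by rw [QuadraticMap.map_add ⇑Q, ha.right, hb.right]; ring
    have hind : LinearIndependent F ![u, a + b] := independent_pair hu0 fun hm => by
      obtain ⟨c, hc⟩ := Submodule.mem_span_singleton.1 hm
      rw [← hc, QuadraticMap.map_smul, ha.left, smul_zero] at hQab
      exact hne hQab.symm
    obtain ⟨y, hy⟩ := mem_moved_right hQ ha.left hab' hind
    obtain ⟨y', hy'⟩ := mem_moved_left hQ ha.left hab' hind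
    have hmem : ∀ y, app (eich Q u (a + b)) y - y ∈ ln n₁ n₂ := fun y => by
      rw [e]
      exact Submodule.span_le.2 (by
        intro z hz
        rcases hz with rfl | rfl
        · exact left_mem_ln _ _
        · exact Submodule.smul_mem _ _ (right_mem_ln n₁ n₂)) (moved_mem hn.left hnt y)
    have hl : IsLine Q (ln n₁ n₂) := ⟨n₁, n₂, hn, rfl⟩
    have h3 := add_mem (hy ▸ hmem y) (Submodule.smul_mem _ (Q (a + b)) (hy' ▸ hmem y'))
    rw [add_assoc, ← add_smul, neg_add_cancel, zero_smul, add_zero] at h3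
    exact hne (hQab.symm.trans (hl.sing h3))
  intro x hx y hy
  obtain ⟨p, r, rfl⟩ := mem_ln.1 hx
  obtain ⟨s, t, rfl⟩ := mem_ln.1 hy
  simp [polar_add_left, polar_add_right, polar_smul_left, polar_smul_right, polar_self_sing ha.left,
    hb.ortho, polar_comm (f := ⇑Q) a u, ha.ortho, hab]

theorem comm_of_meet {L M : Submodule F (ι → F)} (hL : IsLine Q L) (hM : IsLine Q M) {u : ι → F}
    (hu0 : u ≠ 0) (huL : u ∈ L) (huM : u ∈ M) : S.Comm L M := by
  obtain ⟨a, ha, rfl⟩ := hL.exists_second huL hu0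
  obtain ⟨b, hb, rfl⟩ := hM.exists_second huM hu0
  intro x hx y hy
  obtain ⟨s, rfl⟩ := (S.mem_X_iff ha).1 hx
  obtain ⟨t, rfl⟩ := (S.mem_X_iff hb).1 hy
  exact S.rt_comm ha.left (by rw [polar_smul_right, ha.ortho, smul_zero])
    (by rw [polar_smul_right, hb.ortho, smul_zero])

theorem app_eq_of_commute {u a v b : ι → F} (hu : Good Q u a) (hv : Q v = 0) (hb : polar Q v b = 0)
    (h : Commute (S.rt v b) (S.rt u a)) :
    app (eich Q v b) u ∈ ln u a ∧ app (eich Q v b) a ∈ ln u a := by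
  have e := S.rt_conj hu.left hu.ortho (S.om v b)
  change S.rt v b * S.rt u a * (S.rt v b)⁻¹ = _ at e
  rw [h.eq, mul_inv_cancel_right] at e
  have hg : Good Q (app (eich Q v b) u) (app (eich Q v b) a) := by
    refine ⟨by rw [Q_app, hu.left], by rw [Q_app, hu.right], by rw [polar_app, hu.ortho], ?_⟩
    rw [show ![app (eich Q v b) u, app (eich Q v b) a] = app (eich Q v b) ∘ ![u, a] by
      funext i; fin_cases i <;> rfl]
    exact hu.indep.map' _ (LinearMap.ker_eq_bot.2 (app_injective _))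
  exact S.mem_of_rt hg hu.left hu.ortho e

theorem perp_of_comm {L M : Submodule F (ι → F)} (hL : IsLine Q L) (hM : IsLine Q M) (h : S.Comm L M)
    (hd : ∀ x, x ∈ L → x ∈ M → x = 0) : ∀ x ∈ L, ∀ y ∈ M, polar Q x y = 0 := by
  obtain ⟨u, a, hu, rfl⟩ := hL
  obtain ⟨v, b, hv, rfl⟩ := hM
  obtain ⟨h1, h2⟩ := S.app_eq_of_commute hu hv.left hv.ortho
    (h _ (S.rt_mem_X (left_mem_ln u a) (right_mem_ln u a)) _
      (S.rt_mem_X (left_mem_ln v b) (right_mem_ln v b))).symm
  have key : ∀ x, x ∈ ln u a → app (eich Q v b) x ∈ ln u a → polar Q x v = 0 ∧ polar Q x b = 0 := by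
    intro x hx hx'
    have h0 := hd _ (sub_mem hx' hx) (moved_mem hv.left hv.ortho x)
    rw [app_eich_sing hv.left hv.right hv.ortho] at h0
    have := LinearIndependent.pair_iff.1 hv.indep (-polar Q x b) (polar Q x v)
      (by linear_combination (norm := module) h0)
    exact ⟨this.2, neg_eq_zero.1 this.1⟩
  obtain ⟨k1, k2⟩ := key u (left_mem_ln u a) h1
  obtain ⟨k3, k4⟩ := key a (right_mem_ln u a) h2
  intro x hx y hy
  obtain ⟨p, r, rfl⟩ := mem_ln.1 hx
  obtain ⟨s, t, rfl⟩ := mem_ln.1 hy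
  simp [polar_add_left, polar_add_right, polar_smul_left, polar_smul_right, k1, k2, k3, k4]

variable [Fintype F]

theorem exists_img (β : MulAut (PG Q)) {L : Submodule F (ι → F)} (hL : IsLine Q L) :
    ∃ M, IsLine Q M ∧ (S.X L).map β.toMonoidHom = S.X M := by
  obtain ⟨u, a, h, rfl⟩ := hL
  obtain ⟨u', a', h', h1, h2⟩ := S.exists_image β h
  refine ⟨ln u' a', ⟨u', a', h', rfl⟩, le_antisymm ?_ fun g hg => ?_⟩
  · rintro _ ⟨x, hx, rfl⟩
    obtain ⟨t, rfl⟩ := (S.mem_X_iff h).1 hx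
    obtain ⟨s, hs⟩ := h1 t
    exact (S.mem_X_iff h').2 ⟨s, hs⟩
  · obtain ⟨s, rfl⟩ := (S.mem_X_iff h').1 hg
    obtain ⟨t, ht⟩ := h2 s
    exact ⟨_, (S.mem_X_iff h).2 ⟨t, rfl⟩, ht⟩

open scoped Classical in
/-- the action of an automorphism on lines -/
noncomputable def img (β : MulAut (PG Q)) (L : Submodule F (ι → F)) : Submodule F (ι → F) :=
  if h : IsLine Q L then (S.exists_img β h).choose else L

theorem img_line (β : MulAut (PG Q)) {L : Submodule F (ι → F)} (hL : IsLine Q L) :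
    IsLine Q (S.img β L) := by
  rw [img, dif_pos hL]; exact (S.exists_img β hL).choose_spec.1

theorem img_map (β : MulAut (PG Q)) {L : Submodule F (ι → F)} (hL : IsLine Q L) :
    (S.X L).map β.toMonoidHom = S.X (S.img β L) := by
  rw [img, dif_pos hL]; exact (S.exists_img β hL).choose_spec.2

theorem mem_img (β : MulAut (PG Q)) {L : Submodule F (ι → F)} (hL : IsLine Q L) (x : PG Q) :
    β x ∈ S.X (S.img β L) ↔ x ∈ S.X L := by
  rw [← S.img_map β hL]
  exact Subgroup.mem_map_iff_mem β.injective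

theorem img_inj (β : MulAut (PG Q)) {L M : Submodule F (ι → F)} (hL : IsLine Q L) (hM : IsLine Q M)
    (h : S.img β L = S.img β M) : L = M :=
  S.X_injective hL hM fun x hx => (S.mem_img β hM x).1 (h ▸ (S.mem_img β hL x).2 hx)

theorem img_surj (β : MulAut (PG Q)) {N : Submodule F (ι → F)} (hN : IsLine Q N) :
    ∃ L, IsLine Q L ∧ S.img β L = N := by
  refine ⟨S.img β⁻¹ N, S.img_line _ hN, S.X_injective (S.img_line _ (S.img_line _ hN)) hN ?_⟩
  rw [← S.img_map β (S.img_line _ hN), ← S.img_map β⁻¹ hN, Subgroup.map_map]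
  rintro _ ⟨x, hx, rfl⟩
  show β (β⁻¹ x) ∈ S.X N
  rwa [MulAut.apply_inv_self]

theorem comm_img (β : MulAut (PG Q)) {L M : Submodule F (ι → F)} (hL : IsLine Q L) (hM : IsLine Q M) :
    S.Comm (S.img β L) (S.img β M) ↔ S.Comm L M := by
  simp only [Comm, ← S.img_map β hL, ← S.img_map β hM]
  constructor
  · exact fun h x hx y hy => (h _ ⟨x, hx, rfl⟩ _ ⟨y, hy, rfl⟩).of_map β.injective
  · rintro h _ ⟨x, hx, rfl⟩ _ ⟨y, hy, rfl⟩
    exact (h x hx y hy).map β.toMonoidHom

theorem close_img (β : MulAut (PG Q)) {L M : Submodule F (ι → F)} (hL : IsLine Q L) (hM : IsLine Q M) :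
    S.Close (S.img β L) (S.img β M) ↔ S.Close L M := by
  constructor
  · rintro ⟨hne, h⟩
    refine ⟨fun e => hne (by rw [e]), fun x hx y hy => ?_⟩
    obtain ⟨N', hN', hxy⟩ := h _ ((S.mem_img β hL x).2 hx) _ ((S.mem_img β hM y).2 hy)
    obtain ⟨N, hN, rfl⟩ := S.img_surj β hN'
    rw [← map_mul] at hxy
    exact ⟨N, hN, (S.mem_img β hN _).1 hxy⟩
  · rintro ⟨hne, h⟩
    refine ⟨fun e => hne (S.img_inj β hL hM e), ?_⟩
    rw [← S.img_map β hL, ← S.img_map β hM]
    rintro _ ⟨x, hx, rfl⟩ _ ⟨y, hy, rfl⟩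
    obtain ⟨N, hN, hxy⟩ := h x hx y hy
    refine ⟨S.img β N, S.img_line β hN, ?_⟩
    show β x * β y ∈ _
    rw [← map_mul]
    exact (S.mem_img β hN _).2 hxy

end Frame

end CfsgLib.AutPOmega
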