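/-
Automorphisms of `PΩ(Q)` induced by semisimilarities of `Q`.
-/
import Cfsg.Agent.Lib.AutPOmega.Root
import Cfsg.Prelude.Def_LieTypeDatum

set_option autoImplicit false
set_option linter.unusedSectionVars false

namespace CfsgLib.AutPOmega

open Matrix QuadraticMap CfsgLib.Orth

variable {ι : Type} [Fintype ι] [DecidableEq ι] {F : Type*} [Field F] {Q : QuadraticForm F (ι → F)}

/-- A semisimilarity `v ↦ g σ(v)` with multiplier `c`. -/
structure Semi (Q : QuadraticForm F (ι → F)) where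
  g : GL ι F
  σ : F ≃+* F
  c : Fˣ
  spec : ∀ v : ι → F, Q ((g : Matrix ι ι F) *ᵥ fun i => σ (v i)) = (c : F) * σ (Q v)

namespace Semi

variable (p : Semi Q)

/-- the semilinear map -/
def ap (v : ι → F) : ι → F := (p.g : Matrix ι ι F) *ᵥ (⇑p.σ ∘ v)

theorem Q_ap (v : ι → F) : Q (p.ap v) = (p.c : F) * p.σ (Q v) := p.spec v

theorem ap_add (u v : ι → F) : p.ap (u + v) = p.ap u + p.ap v := by
  rw [ap, ap, ap, ← Matrix.mulVec_add]; congr 1; funext i; simp

theorem ap_smul (t : F) (v : ι → F) : p.ap (t • v) = p.σ t • p.ap v := by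
  rw [ap, ap, ← Matrix.mulVec_smul]; congr 1; funext i; simp

theorem ap_zero : p.ap 0 = 0 := by
  have := p.ap_smul 0 0; simpa using this

theorem polar_ap (u v : ι → F) : polar Q (p.ap u) (p.ap v) = (p.c : F) * p.σ (polar Q u v) := by
  simp only [QuadraticMap.polar, ← p.ap_add, p.Q_ap, map_sub]; ring

/-- the inverse semilinear map -/
def apInv (v : ι → F) : ι → F := ⇑p.σ.symm ∘ (((p.g⁻¹ : GL ι F) : Matrix ι ι F) *ᵥ v)

theorem ap_apInv (v : ι → F) : p.ap (p.apInv v) = v := by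
  have : ⇑p.σ ∘ p.apInv v = ((p.g⁻¹ : GL ι F) : Matrix ι ι F) *ᵥ v := funext fun i => p.σ.apply_symm_apply _
  rw [ap, this, Matrix.mulVec_mulVec, ← Units.val_mul, mul_inv_cancel, Units.val_one, Matrix.one_mulVec]

theorem apInv_ap (v : ι → F) : p.apInv (p.ap v) = v := by
  rw [ap, apInv, Matrix.mulVec_mulVec, ← Units.val_mul, inv_mul_cancel, Units.val_one,
    Matrix.one_mulVec]
  funext i; exact p.σ.symm_apply_apply _

theorem ap_injective : Function.Injective p.ap := Function.LeftInverse.injective p.apInv_ap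

theorem ap_ne_zero {v : ι → F} (hv : v ≠ 0) : p.ap v ≠ 0 := fun h =>
  hv (p.ap_injective (h.trans p.ap_zero.symm))

theorem indep_two {u a : ι → F} (h : LinearIndependent F ![u, a]) :
    LinearIndependent F ![p.ap u, p.ap a] := by
  refine independent_pair (p.ap_ne_zero (h.ne_zero 0)) fun hm => ?_
  obtain ⟨t, ht⟩ := Submodule.mem_span_singleton.1 hm
  rw [← p.σ.apply_symm_apply t, ← p.ap_smul] at ht
  exact (LinearIndependent.pair_iff' (h.ne_zero 0)).1 h _ (p.ap_injective ht)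

/-- the automorphism `s ↦ g σ(s) g⁻¹` of `GL` -/
def glAut : GL ι F ≃* GL ι F :=
  (Units.mapEquiv p.σ.mapMatrix.toMulEquiv).trans (MulAut.conj p.g)

theorem glAut_coe (s : GL ι F) : (p.glAut s : Matrix ι ι F) =
    (p.g : Matrix ι ι F) * (s : Matrix ι ι F).map p.σ * ((p.g⁻¹ : GL ι F) : Matrix ι ι F) := rfl

theorem glAut_mulVec (s : GL ι F) (v : ι → F) :
    (p.glAut s : Matrix ι ι F) *ᵥ p.ap v = p.ap ((s : Matrix ι ι F) *ᵥ v) := by
  rw [glAut_coe, ap, Matrix.mulVec_mulVec, Matrix.mul_assoc, ← Units.val_mul, inv_mul_cancel,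
    Units.val_one, Matrix.mul_one, ← Matrix.mulVec_mulVec, ap]
  congr 1
  funext i
  exact (RingHom.map_mulVec p.σ.toRingHom (s : Matrix ι ι F) v i).symm

theorem map_glAut : (O Q).map p.glAut.toMonoidHom = O Q := by
  ext g
  obtain ⟨s, rfl⟩ := p.glAut.surjective g
  refine ⟨?_, fun hg => ⟨s, fun u _ => ?_, rfl⟩⟩
  · rintro ⟨s', hs', he⟩
    obtain rfl := p.glAut.injective he
    intro u _
    show Q (_ *ᵥ u) = Q u
    rw [← p.ap_apInv u, Units.coeHom_apply, p.glAut_mulVec, p.Q_ap, p.Q_ap]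
    exact congrArg (fun x => (p.c : F) * p.σ x) (hs' (p.apInv u) (p.apInv u))
  · have h : Q ((p.glAut s : Matrix ι ι F) *ᵥ p.ap u) = Q (p.ap u) := hg (p.ap u) (p.ap u)
    rw [p.glAut_mulVec, p.Q_ap, p.Q_ap] at h
    show Q ((s : Matrix ι ι F) *ᵥ u) = Q u
    exact p.σ.injective (mul_left_cancel₀ (Units.ne_zero _) h)

/-- the automorphism of `O(Q)` -/
def oAut : MulAut (O Q) := (p.glAut.subgroupMap _).trans (MulEquiv.subgroupCongr p.map_glAut)

theorem oAut_coe (s : O Q) : ((p.oAut s : O Q) : GL ι F) = p.glAut s := rfl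

theorem app_oAut (s : O Q) (v : ι → F) : app (p.oAut s) (p.ap v) = p.ap (app s v) :=
  p.glAut_mulVec s.1 v

/-- the automorphism of `Ω(Q)` -/
def omAut : MulAut (Om Q) :=
  (p.oAut.subgroupMap _).trans (MulEquiv.subgroupCongr
    (Subgroup.characteristic_iff_map_eq.1 inferInstance p.oAut))

theorem omAut_coe (s : Om Q) : ((p.omAut s : Om Q) : O Q) = p.oAut s := rfl

/-- the automorphism of `PΩ(Q)` -/
def aut : MulAut (PG Q) :=
  QuotientGroup.congr _ _ p.omAut (Subgroup.characteristic_iff_map_eq.1 inferInstance p.omAut)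

theorem aut_mk (s : Om Q) : p.aut (QuotientGroup.mk s) = QuotientGroup.mk (p.omAut s) := rfl

theorem oAut_eich {u a : ι → F} (hu : Q u = 0) (ha : polar Q u a = 0) :
    p.oAut (eich Q u a) = eich Q (p.ap u) ((p.c⁻¹ : Fˣ) • p.ap a) := by
  have h1 : Q (p.ap u) = 0 := by rw [p.Q_ap, hu, map_zero, mul_zero]
  have h2 : polar Q (p.ap u) ((p.c⁻¹ : Fˣ) • p.ap a) = 0 := by
    rw [Units.smul_def, polar_smul_right, p.polar_ap, ha, map_zero, mul_zero, smul_zero]
  refine ext_app fun y => ?_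
  obtain ⟨x, rfl⟩ : ∃ x, p.ap x = y := ⟨_, p.ap_apInv y⟩
  rw [p.app_oAut, app_eich hu ha, app_eich h1 h2, p.ap_add, p.ap_add, p.ap_smul, p.ap_smul]
  simp only [Units.smul_def, QuadraticMap.map_smul, polar_smul_right, p.polar_ap, p.Q_ap, map_sub,
    map_neg, map_mul, smul_smul, smul_eq_mul, Units.val_inv_eq_inv_val]
  have hc := Units.ne_zero p.c
  match_scalars <;> field_simp

theorem aut_rt {w : ℕ} (S : Frame Q w) {u a : ι → F} (hu : Q u = 0) (ha : polar Q u a = 0) :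
    p.aut (S.rt u a) = S.rt (p.ap u) ((p.c⁻¹ : Fˣ) • p.ap a) := by
  rw [Frame.rt, Frame.rt, aut_mk]
  exact congrArg _ (Subtype.ext (p.oAut_eich hu ha))

theorem aut_induced : Cfsg.IsInducedBySemilinearPOmega ⇑Q p.g p.σ p.aut := fun s s' h => by
  rw [aut_mk]
  exact congrArg _ (Subtype.ext (Subtype.ext (Units.ext h.symm)))

theorem aut_mem_gamma : p.aut ∈ Cfsg.gammaPOmega F ⇑Q :=
  Subgroup.subset_closure ⟨p.g, p.σ, ⟨p.c, p.spec⟩, p.aut_induced⟩

/-- An isometry as a semisimilarity. -/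
def ofO (g : O Q) : Semi Q :=
  { g := g.1, σ := RingEquiv.refl F, c := 1,
    spec := fun v => by
      rw [Units.val_one, one_mul]
      exact Q_app g v }

theorem ap_ofO (g : O Q) (v : ι → F) : (ofO g).ap v = app g v := rfl

theorem aut_ofO_rt {w : ℕ} (S : Frame Q w) (g : O Q) {u a : ι → F} (hu : Q u = 0) (ha : polar Q u a = 0) :
    (ofO g).aut (S.rt u a) = S.rt (app g u) (app g a) := by
  rw [aut_rt _ S hu ha, ap_ofO, ap_ofO, show (ofO g).c = 1 from rfl, inv_one, one_smul]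

end Semi

end CfsgLib.AutPOmega
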