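/-
An automorphism can be corrected by an isometry to fix all root groups of the frame lines.
-/
import Cfsg.Agent.Lib.AutPOmega.Lines
import Cfsg.Agent.Lib.AutPOmega.Semi

set_option autoImplicit false
set_option linter.unusedSectionVars false

namespace CfsgLib.AutPOmega

open Matrix QuadraticMap CfsgLib.Orth

variable {ι : Type} [Fintype ι] [DecidableEq ι] {F : Type*} [Field F] {Q : QuadraticForm F (ι → F)}
  {w : ℕ}

namespace Frame

variable (S : Frame Q w)
include S

/-- a line of the frame -/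
def fl (k l : Fin w × Bool) : Submodule F (ι → F) := ln (S.x k) (S.x l)

theorem indep_pair {k l : Fin w × Bool} (h : k ≠ l) : LinearIndependent F ![S.x k, S.x l] := by
  rw [show ![S.x k, S.x l] = S.x ∘ ![k, l] by funext i; fin_cases i <;> rfl]
  exact S.linearIndependent.comp _ (by
    intro i j e; fin_cases i <;> fin_cases j <;> simp_all [Ne.symm h])

theorem good_frame {k l : Fin w × Bool} (h : k.1 ≠ l.1) : Good Q (S.x k) (S.x l) :=
  ⟨S.sing k, S.sing l, S.pair_fst h, S.indep_pair (ne_of_fst h)⟩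

theorem fl_line {k l : Fin w × Bool} (h : k.1 ≠ l.1) : IsLine Q (S.fl k l) :=
  ⟨_, _, S.good_frame h, rfl⟩

theorem fl_comm (k l : Fin w × Bool) : S.fl k l = S.fl l k := by
  rw [fl, fl, ln, ln, Set.pair_comm]

theorem coeff_eq_zero {k l n : Fin w × Bool} {p r : F} (hk : n ≠ k) (hl : n ≠ l) :
    polar Q (p • S.x k + r • S.x l) (S.x (opp n)) = 0 := by
  rw [polar_add_left, polar_smul_left, polar_smul_left,
    S.pair_ne (fun e => hk (by simpa using congrArg opp e)),
    S.pair_ne (fun e => hl (by simpa using congrArg opp e))]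
  simp

theorem fl_ne {k l l' : Fin w × Bool} (hkl : k ≠ l') (h : l ≠ l') : S.fl k l ≠ S.fl k l' := fun e => by
  have hm : S.x l' ∈ S.fl k l := e ▸ right_mem_ln _ _
  obtain ⟨p, r, hpr⟩ := mem_ln.1 hm
  have := S.coeff_eq_zero (k := k) (l := l) (n := l') (p := p) (r := r) hkl.symm h.symm
  rw [hpr, S.pair_opp] at this
  exact one_ne_zero this

theorem fl_close {k l l' : Fin w × Bool} (h1 : k.1 ≠ l.1) (h2 : k.1 ≠ l'.1) (h : l.1 ≠ l'.1) :
    S.Close (S.fl k l) (S.fl k l') :=
  S.close_of_meet (S.good_frame h1) (S.good_frame h2) (S.pair_fst h) (S.fl_ne (ne_of_fst h2) (ne_of_fst h))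

theorem not_close_of_polar {u a b : ι → F} (ha : Good Q u a) (hb : Good Q u b) (h : polar Q a b ≠ 0) :
    ¬ S.Close (ln u a) (ln u b) := fun hc =>
  h ((S.close_spec ⟨u, a, ha, rfl⟩ ⟨u, b, hb, rfl⟩ hc).2 a (right_mem_ln u a) b (right_mem_ln u b))

/-- the common close neighbours of two lines that are not close to a third -/
noncomputable def triSet (L M N : Submodule F (ι → F)) : Subgroup (PG Q) :=
  S.X L ⊔ S.X M ⊔ Subgroup.closure
    {g | ∃ K, IsLine Q K ∧ S.Close K L ∧ S.Close K M ∧ ¬ S.Close K N ∧ K ≠ N ∧ g ∈ S.X K}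

theorem exists_witness (hx : S.Roomy) {k l1 l2 l3 : Fin w × Bool} (h1 : k.1 ≠ l1.1) (h2 : k.1 ≠ l2.1) (h12 : l1.1 ≠ l2.1)
    (h3 : k.1 ≠ l3.1) (h13 : l1.1 ≠ l3.1) (h23 : l2.1 ≠ l3.1) :
    ∃ a b, polar Q a b ≠ 0 ∧ ∀ n : Fin w × Bool, (n = k ∨ n = l1 ∨ n = l2 ∨ n = l3 ∨ n = opp l3) →
      polar Q a (S.x n) = 0 ∧ polar Q b (S.x n) = 0 := by
  rcases hx with h5 | ⟨a, ha0, ha⟩
  · obtain ⟨i, hi⟩ := exists_index ({k.1, l1.1, l2.1, l3.1} : Finset (Fin w))
      (Finset.card_le_four.trans_lt (by omega))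
    simp only [Finset.mem_insert, Finset.mem_singleton, not_or] at hi
    refine ⟨S.x (i, true), S.x (opp (i, true)), by rw [S.pair_opp]; exact one_ne_zero, fun n hn => ?_⟩
    have hne : i ≠ n.1 := by
      rcases hn with rfl | rfl | rfl | rfl | rfl
      · exact hi.1
      · exact hi.2.1
      · exact hi.2.2.1
      · exact hi.2.2.2
      · exact hi.2.2.2
    exact ⟨S.pair_fst (k := (i, true)) hne, S.pair_fst (k := opp (i, true)) hne⟩
  · obtain ⟨y, hy⟩ := exists_polar_eq_one S.nondeg ha0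
    refine ⟨a, S.proj y, ?_, fun n _ => ⟨ha n, S.perp_proj y n⟩⟩
    have : polar Q a (S.proj y) = 1 := by
      rw [proj, polar_sub_right, hy, ← polarBilin_apply_apply, map_sum,
        Finset.sum_eq_zero fun l _ => by rw [map_smul, polarBilin_apply_apply, ha l, smul_zero], sub_zero]
    rw [this]; exact one_ne_zero

theorem frame_mem_triSet (hx : S.Roomy) {k l1 l2 l3 : Fin w × Bool} (h1 : k.1 ≠ l1.1) (h2 : k.1 ≠ l2.1)
    (h12 : l1.1 ≠ l2.1) (h3 : k.1 ≠ l3.1) (h13 : l1.1 ≠ l3.1) (h23 : l2.1 ≠ l3.1) :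
    S.X (S.fl k l3) ≤ S.triSet (S.fl k l1) (S.fl k l2) (S.fl k l3) := by
  obtain ⟨a, b, hab, hperp⟩ := S.exists_witness hx h1 h2 h12 h3 h13 h23
  set x := S.x k
  set z := S.x l3
  set z' := S.x (opp l3)
  set v : (ι → F) → (ι → F) := fun c => z' + (-Q c) • z + c with hv
  let C : (ι → F) → Prop := fun c => ∀ n, (n = k ∨ n = l1 ∨ n = l2 ∨ n = l3 ∨ n = opp l3) →
    polar Q c (S.x n) = 0
  have hk : ∀ c, C c → Good Q x (v c) ∧ polar Q (v c) (S.x l1) = 0 ∧ polar Q (v c) (S.x l2) = 0 ∧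
      polar Q (v c) z = 1 := by
    intro c hc
    have e : ∀ n : Fin w × Bool, (n = k ∨ n = l1 ∨ n = l2 ∨ n = l3 ∨ n = opp l3) →
        polar Q (v c) (S.x n) = polar Q z' (S.x n) + (-Q c) * polar Q z (S.x n) := fun n hn => by
      simp only [hv, polar_add_left, polar_smul_left, hc n hn, add_zero, smul_eq_mul]
    have hz'c : polar Q z' c = 0 := by rw [polar_comm]; exact hc (opp l3) (by simp)
    have hzc : polar Q z c = 0 := by rw [polar_comm]; exact hc l3 (by simp)
    have hxv : polar Q x (v c) = 0 := by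
      rw [polar_comm, e k (by simp), S.pair_fst (by simpa using Ne.symm h3), S.pair_fst (Ne.symm h3)]
      ring
    have hvz : polar Q (v c) z = 1 := by
      rw [e l3 (by simp), S.pair_opp', polar_self_sing (S.sing l3)]; ring
    refine ⟨⟨S.sing k, ?_, hxv, independent_pair (S.ne_zero k) fun hm => ?_⟩, ?_, ?_, hvz⟩
    · simp [hv, z, z', QuadraticMap.map_add ⇑Q, QuadraticMap.map_smul, S.sing, polar_smul_left,
        polar_smul_right, polar_add_left, S.pair_opp', show polar Q (S.x (opp l3)) c = 0 from hz'c,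
        show polar Q (S.x l3) c = 0 from hzc]
    · obtain ⟨t, ht⟩ := Submodule.mem_span_singleton.1 hm
      rw [← ht, polar_smul_left, S.pair_fst h3, smul_zero] at hvz
      exact zero_ne_one hvz
    · rw [e l1 (by simp), S.pair_fst (by simpa using Ne.symm h13), S.pair_fst (Ne.symm h13)]; ring
    · rw [e l2 (by simp), S.pair_fst (by simpa using Ne.symm h23), S.pair_fst (Ne.symm h23)]; ring
  have hmem : ∀ c, C c → ∀ s : F, S.rt x (s • v c) ∈ S.triSet (S.fl k l1) (S.fl k l2) (S.fl k l3) := by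
    intro c hc s
    obtain ⟨hg, hl1, hl2, hz⟩ := hk c hc
    have hne : ∀ l : Fin w × Bool, polar Q (S.x l) z = 0 → k.1 ≠ l.1 → ln x (v c) ≠ S.fl k l := fun l hl hkl e => by
      have hm : v c ∈ S.fl k l := e ▸ right_mem_ln _ _
      obtain ⟨p, r, hpr⟩ := mem_ln.1 hm
      rw [← hpr, polar_add_left, polar_smul_left, polar_smul_left, hl, S.pair_fst h3] at hz
      simp at hz
    refine Subgroup.mem_sup_right (Subgroup.subset_closure ⟨ln x (v c), ⟨x, v c, hg, rfl⟩, ?_, ?_, ?_, ?_,
      (S.mem_X_iff hg).2 ⟨s, rfl⟩⟩)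
    · exact S.close_of_meet hg (S.good_frame h1) hl1 (hne l1 (S.pair_fst h13) h1)
    · exact S.close_of_meet hg (S.good_frame h2) hl2 (hne l2 (S.pair_fst h23) h2)
    · exact S.not_close_of_polar hg (S.good_frame h3) (by rw [hz]; exact one_ne_zero)
    · exact hne l3 (polar_self_sing (S.sing l3)) h3
  have hCab : C (a + b) := fun n hn => by
    rw [polar_add_left, (hperp n hn).1, (hperp n hn).2, add_zero]
  have hCa : C a := fun n hn => (hperp n hn).1
  have hCb : C b := fun n hn => (hperp n hn).2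
  have hC0 : C 0 := fun n _ => polar_zero_left Q _
  intro g hg
  obtain ⟨t, rfl⟩ := (S.mem_X_iff (S.good_frame h3)).1 hg
  set s := -t / polar Q a b with hs
  have hsum : t • z = s • v (a + b) + (-s) • v a + ((-s) • v b + s • v 0) := by
    have e : t = -(s * polar Q a b) := by rw [hs]; field_simp
    rw [e]
    simp only [hv, QuadraticMap.map_add ⇑Q a b, QuadraticMap.map_zero]
    module
  have hp : ∀ c, C c → ∀ r : F, polar Q x (r • v c) = 0 := fun c hc r => by
    rw [polar_smul_right, (hk c hc).1.ortho, smul_zero]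
  rw [hsum, ← S.rt_add (S.sing k) (by rw [polar_add_right, hp _ hCab, hp _ hCa, add_zero])
      (by rw [polar_add_right, hp _ hCb, hp _ hC0, add_zero]),
    ← S.rt_add (S.sing k) (hp _ hCab _) (hp _ hCa _), ← S.rt_add (S.sing k) (hp _ hCb _) (hp _ hC0 _)]
  exact mul_mem (mul_mem (hmem _ hCab _) (hmem _ hCa _)) (mul_mem (hmem _ hCb _) (hmem _ hC0 _))

variable [Fintype F] (β : MulAut (PG Q))

theorem triSet_img {L M N : Submodule F (ι → F)} (hL : IsLine Q L) (hM : IsLine Q M) (hN : IsLine Q N)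
    (h : S.X N ≤ S.triSet L M N) :
    S.X (S.img β N) ≤ S.triSet (S.img β L) (S.img β M) (S.img β N) := by
  rw [← S.img_map β hN]
  refine (Subgroup.map_mono h).trans ?_
  rw [triSet, Subgroup.map_sup, Subgroup.map_sup, S.img_map β hL, S.img_map β hM, MonoidHom.map_closure]
  refine sup_le_sup le_rfl (Subgroup.closure_mono ?_)
  rintro _ ⟨g, ⟨K, hK, h1, h2, h3, h4, hg⟩, rfl⟩
  exact ⟨S.img β K, S.img_line β hK, (S.close_img β hK hL).2 h1, (S.close_img β hK hM).2 h2,
    fun e => h3 ((S.close_img β hK hN).1 e), fun e => h4 (S.img_inj β hK hN e), (S.mem_img β hK g).2 hg⟩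

theorem neighbour_through {L M N : Submodule F (ι → F)} (hL : IsLine Q L) (hM : IsLine Q M)
    (hN : IsLine Q N) (hLMne : L ≠ M) {P A B : ι → F} (hP : P ≠ 0) (hPL : P ∈ L) (hPM : P ∈ M)
    (hA : A ≠ 0) (hAB : B ∉ Submodule.span F {A}) (hAL : A ∈ L) (hAN : A ∈ N) (hBM : B ∈ M) (hBN : B ∈ N)
    (hLe : L = ln P A) (hMe : M = ln P B) (hNe : N = ln A B) :
    ∀ K, IsLine Q K → S.Close K L → S.Close K M → ¬ S.Close K N → K ≠ N → P ∈ K := by
  intro K hKl hKL hKM hKN hne
  obtain ⟨⟨p, hp, hpK, hpL⟩, oKL⟩ := S.close_spec hKl hL hKL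
  obtain ⟨⟨r, hr, hrK, hrM⟩, oKM⟩ := S.close_spec hKl hM hKM
  by_contra hPK
  have hp' : p ∉ Submodule.span F {P} := fun hm => by
    obtain ⟨c, rfl⟩ := Submodule.mem_span_singleton.1 hm
    exact hPK ((K.smul_mem_iff (left_ne_zero_of_smul hp)).1 hpK)
  have hpr : r ∉ Submodule.span F {p} := fun hm => by
    obtain ⟨c, rfl⟩ := Submodule.mem_span_singleton.1 hm
    exact hp' (hL.meet_unique hM hLMne hP hPL hPM hpL ((M.smul_mem_iff (left_ne_zero_of_smul hr)).1 hrM))
  have hKe := hKl.eq_ln hpK hrK (independent_pair hp hpr)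
  rw [hLe] at hpL
  rw [hMe] at hrM
  obtain ⟨c, d, hcd⟩ := mem_ln.1 hpL
  obtain ⟨c', d', hcd'⟩ := mem_ln.1 hrM
  have hz : c' • p - c • r = (c' * d) • A - (c * d') • B := by rw [← hcd, ← hcd']; module
  obtain ⟨z, hzdef⟩ : ∃ z, z = (c' * d) • A - (c * d') • B := ⟨_, rfl⟩
  rw [← hzdef] at hz
  by_cases hz0 : z = 0
  · have hi : LinearIndependent F ![p, r] := independent_pair hp hpr
    have e : c' = 0 ∧ -c = 0 := hi.eq_zero_of_pair (by rw [neg_smul, ← sub_eq_add_neg, hz, hz0])
    have hc : c = 0 := neg_eq_zero.1 e.2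
    rw [hc, zero_smul, zero_add] at hcd
    rw [e.1, zero_smul, zero_add] at hcd'
    exact hne (by
      rw [hKe]
      exact (hN.eq_ln (hcd ▸ N.smul_mem d hAN) (hcd' ▸ N.smul_mem d' hBN) (independent_pair hp hpr)).symm)
  · have hzN : z ∈ N := hzdef ▸ N.sub_mem (N.smul_mem _ hAN) (N.smul_mem _ hBN)
    have hzK : z ∈ K := hz ▸ K.sub_mem (K.smul_mem _ hpK) (K.smul_mem _ hrK)
    obtain ⟨k', hk', rfl⟩ := hKl.exists_second hzK hz0
    obtain ⟨n', hn', hN'⟩ := hN.exists_second hzN hz0
    rw [hN'] at hKN hne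
    refine hKN (S.close_of_meet hk' hn' ?_ hne)
    have hk'K : k' ∈ ln z k' := right_mem_ln _ _
    have hn'N : n' ∈ ln A B := by rw [← hNe, hN']; exact right_mem_ln _ _
    obtain ⟨s, t, hst⟩ := mem_ln.1 hn'N
    rw [← hst, polar_add_right, polar_smul_right, polar_smul_right,
      oKL k' hk'K A hAL, oKM k' hk'K B hBM, smul_zero, smul_zero, add_zero]

/-- Three mutually close lines with the last inside the subgroup of their neighbours are concurrent. -/
theorem concurrent_of_triSet {L M N : Submodule F (ι → F)} (hL : IsLine Q L) (hM : IsLine Q M)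
    (hN : IsLine Q N) (hLM : S.Close L M) (hLN : S.Close L N) (hMN : S.Close M N)
    (h : S.X N ≤ S.triSet L M N) {P : ι → F} (hP : P ≠ 0) (hPL : P ∈ L) (hPM : P ∈ M) : P ∈ N := by
  by_contra hPN
  obtain ⟨⟨A, hA, hAL, hAN⟩, oLN⟩ := S.close_spec hL hN hLN
  obtain ⟨⟨B, hB, hBM, hBN⟩, oMN⟩ := S.close_spec hM hN hMN
  have oLM := (S.close_spec hL hM hLM).2
  have hA' : A ∉ Submodule.span F {P} := fun hm => by
    obtain ⟨c, rfl⟩ := Submodule.mem_span_singleton.1 hm
    exact hPN ((N.smul_mem_iff (left_ne_zero_of_smul hA)).1 hAN)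
  have hB' : B ∉ Submodule.span F {P} := fun hm => by
    obtain ⟨c, rfl⟩ := Submodule.mem_span_singleton.1 hm
    exact hPN ((N.smul_mem_iff (left_ne_zero_of_smul hB)).1 hBN)
  have hAB : B ∉ Submodule.span F {A} := fun hm => by
    obtain ⟨c, rfl⟩ := Submodule.mem_span_singleton.1 hm
    have hAM : A ∈ M := (M.smul_mem_iff (left_ne_zero_of_smul hB)).1 hBM
    exact hA' (hL.meet_unique hM hLM.1 hP hPL hPM hAL hAM)
  have hNe := hN.eq_ln hAN hBN (independent_pair hA hAB)
  have hLe := hL.eq_ln hPL hAL (independent_pair hP hA')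
  have hMe := hM.eq_ln hPM hBM (independent_pair hP hB')
  have hK := S.neighbour_through hL hM hN hLM.1 hP hPL hPM hA hAB hAL hAN hBM hBN hLe hMe hNe
  -- so all generators fix `P` like a transformation at `P`
  let R : Subgroup (PG Q) := Subgroup.closure {g | ∃ y, polar Q P y = 0 ∧ g = S.rt P y}
  have hPs : Q P = 0 := hL.sing hPL
  have hXR : ∀ K, IsLine Q K → P ∈ K → S.X K ≤ R := fun K hKl hPK => by
    obtain ⟨y, hy, rfl⟩ := hKl.exists_second hPK hP
    intro g hg
    obtain ⟨t, rfl⟩ := (S.mem_X_iff hy).1 hg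
    exact Subgroup.subset_closure ⟨t • y, by rw [polar_smul_right, hy.ortho, smul_zero], rfl⟩
  have htri : S.triSet L M N ≤ R := by
    rw [triSet]
    refine sup_le (sup_le (hXR L hL hPL) (hXR M hM hPM)) ((Subgroup.closure_le _).2 ?_)
    rintro g ⟨K, hKl, h1, h2, h3, h4, hg⟩
    exact hXR K hKl (hK K hKl h1 h2 h3 h4) hg
  have hR : ∀ g ∈ R, ∃ y, polar Q P y = 0 ∧ g = S.rt P y := by
    intro g hg
    induction hg using Subgroup.closure_induction with
    | mem x hx => exact hx
    | one => exact ⟨0, polar_zero_right Q P, (S.rt_one hPs).symm⟩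
    | mul x y _ _ hx hy =>
      obtain ⟨a, ha, rfl⟩ := hx; obtain ⟨b, hb, rfl⟩ := hy
      exact ⟨a + b, by rw [polar_add_right, ha, hb, add_zero], S.rt_add hPs ha hb⟩
    | inv x _ hx =>
      obtain ⟨a, ha, rfl⟩ := hx
      exact ⟨-a, by rw [polar_neg_right, ha, neg_zero], S.rt_inv hPs ha⟩
  have hgAB : Good Q A B := hN.good hAN hBN (independent_pair hA hAB)
  obtain ⟨y, hy, e⟩ := hR _ (htri (h (S.rt_mem_X hAN hBN)))
  have hy' : y ∉ Submodule.span F {P} := fun hm => by
    obtain ⟨c, rfl⟩ := Submodule.mem_span_singleton.1 hm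
    refine S.rt_ne_one hgAB.left hgAB.ortho hgAB.indep ?_
    rw [e, ← S.rt_one hPs]
    exact S.rt_congr (by rw [eich_smul_self hPs, eich_zero_right hPs])
  obtain ⟨m, hm⟩ := mem_moved_left S.nondeg hPs hy (independent_pair hP hy')
  rw [← S.eich_eq_of_rt_eq hgAB.left hgAB.ortho hPs hy e] at hm
  have hmem := moved_mem hgAB.left hgAB.ortho m
  rw [hm] at hmem
  exact hPN (hNe ▸ hmem)

theorem frame_concurrent (hx : S.Roomy) {k l1 l2 l3 : Fin w × Bool} (h1 : k.1 ≠ l1.1) (h2 : k.1 ≠ l2.1)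
    (h12 : l1.1 ≠ l2.1) (h3 : k.1 ≠ l3.1) (h13 : l1.1 ≠ l3.1) (h23 : l2.1 ≠ l3.1) {P : ι → F} (hP : P ≠ 0)
    (hP1 : P ∈ S.img β (S.fl k l1)) (hP2 : P ∈ S.img β (S.fl k l2)) : P ∈ S.img β (S.fl k l3) :=
  S.concurrent_of_triSet (S.img_line β (S.fl_line h1)) (S.img_line β (S.fl_line h2))
    (S.img_line β (S.fl_line h3)) ((S.close_img β (S.fl_line h1) (S.fl_line h2)).2 (S.fl_close h1 h2 h12))
    ((S.close_img β (S.fl_line h1) (S.fl_line h3)).2 (S.fl_close h1 h3 h13))
    ((S.close_img β (S.fl_line h2) (S.fl_line h3)).2 (S.fl_close h2 h3 h23))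
    (S.triSet_img β (S.fl_line h1) (S.fl_line h2) (S.fl_line h3) (S.frame_mem_triSet hx h1 h2 h12 h3 h13 h23))
    hP hP1 hP2

/-- With Witt index three, commuting lines meet. -/
theorem meet_of_comm (h3 : w = 3) {L M : Submodule F (ι → F)} (hL : IsLine Q L) (hM : IsLine Q M)
    (h : S.Comm L M) : ∃ x, x ≠ 0 ∧ x ∈ L ∧ x ∈ M := by
  by_contra hc
  push Not at hc
  have hd : ∀ x, x ∈ L → x ∈ M → x = 0 := fun x h1 h2 => by
    by_contra hx; exact hc x hx h1 h2
  have ho := S.perp_of_comm hL hM h hd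
  obtain ⟨u, a, hu, rfl⟩ := hL
  obtain ⟨v, b, hv, rfl⟩ := hM
  have hind := indep_of_pair hu.indep hv.indep hd
  set T := Submodule.span F (Set.range ![u, a, v, b]) with hT
  have hsing : ∀ t ∈ T, ∃ x ∈ ln u a, ∃ y ∈ ln v b, x + y = t := fun t ht => by
    obtain ⟨c, rfl⟩ := (Submodule.mem_span_range_iff_exists_fun F).1 ht
    refine ⟨_, mem_ln.2 ⟨c 0, c 1, rfl⟩, _, mem_ln.2 ⟨c 2, c 3, rfl⟩, ?_⟩
    rw [Fin.sum_univ_four]; simp [add_assoc]
  have hLu : IsLine Q (ln u a) := ⟨u, a, hu, rfl⟩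
  have hLv : IsLine Q (ln v b) := ⟨v, b, hv, rfl⟩
  have hQT : ∀ t ∈ T, Q t = 0 := fun t ht => by
    obtain ⟨x, hx, y, hy, rfl⟩ := hsing t ht
    rw [QuadraticMap.map_add ⇑Q, hLu.sing hx, hLv.sing hy, ho x hx y hy]; ring
  have hoT : ∀ s ∈ T, ∀ t ∈ T, polar Q s t = 0 := fun s hs t ht => by
    rw [QuadraticMap.polar, hQT s hs, hQT t ht, hQT _ (T.add_mem hs ht), sub_zero, sub_zero]
  let E : T →ₗ[F] (Fin w → F) := LinearMap.pi fun i => (Q.polarBilin (S.x (i, true))).comp T.subtype
  let C : (Fin w → F) →ₗ[F] (ι → F) := Fintype.linearCombination F fun i => S.x (i, true)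
  have hC : ∀ c, C c = ∑ i, c i • S.x (i, true) := fun c => rfl
  have hCinj : Function.Injective C :=
    LinearIndependent.fintypeLinearCombination_injective
      (S.linearIndependent.comp (fun i : Fin w => (i, true)) fun i j e => congrArg Prod.fst e)
  have hker : (LinearMap.ker E).map T.subtype ≤ LinearMap.range C := by
    rintro _ ⟨t, ht, rfl⟩
    refine ⟨fun i => polar Q t.1 (S.x (i, false)), ?_⟩
    have hc : ∀ i, polar Q t.1 (S.x (i, true)) = 0 := fun i => by
      rw [polar_comm]; exact congrFun (LinearMap.mem_ker.1 ht) i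
    have hdec : t.1 = S.proj t.1 + ∑ i, polar Q t.1 (S.x (i, false)) • S.x (i, true) := by
      conv_lhs => rw [S.decomp t.1]
      congr 1
      rw [Fintype.sum_prod_type]
      exact Finset.sum_congr rfl fun i _ => by simp [opp, hc i]
    have hQp : Q (S.proj t.1) = 0 := by
      have h0 := hQT t.1 t.2
      rw [hdec, QuadraticMap.map_add ⇑Q] at h0
      have e1 : ∀ (s : Finset (Fin w)) (c : Fin w → F), Q (∑ i ∈ s, c i • S.x (i, true)) = 0 ∧
          (∀ j, polar Q (∑ i ∈ s, c i • S.x (i, true)) (S.x (j, true)) = 0) ∧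
          polar Q (S.proj t.1) (∑ i ∈ s, c i • S.x (i, true)) = 0 := by
        intro s c
        induction s using Finset.induction with
        | empty => simp
        | insert i s hi ih =>
          rw [Finset.sum_insert hi]
          refine ⟨?_, fun j => ?_, ?_⟩
          · rw [QuadraticMap.map_add ⇑Q, QuadraticMap.map_smul, S.sing, ih.1, polar_smul_left,
              polar_comm, ih.2.1 i]
            simp
          · rw [polar_add_left, polar_smul_left, ih.2.1 j,
              S.pair_ne (fun e => by simpa [opp] using congrArg Prod.snd e)]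
            simp
          · rw [polar_add_right, polar_smul_right, S.perp_proj, ih.2.2]; simp
      obtain ⟨q1, -, q3⟩ := e1 Finset.univ fun i => polar Q t.1 (S.x (i, false))
      rw [q1, q3, add_zero, add_zero] at h0
      exact h0
    have h0 := S.aniso _ (S.perp_proj _) hQp
    rw [h0, zero_add] at hdec
    rw [hC]; exact hdec.symm
  have hrk := LinearMap.finrank_range_add_finrank_ker E
  have hTd : Module.finrank F T = 4 := by rw [hT, finrank_span_eq_card hind, Fintype.card_fin]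
  -- `range E` and the coefficients of `ker E` are orthogonal
  set K := ((LinearMap.ker E).map T.subtype).comap C with hKdef
  have hKd : Module.finrank F K = Module.finrank F (LinearMap.ker E) := by
    have e1 : K.map C = (LinearMap.ker E).map T.subtype :=
      Submodule.map_comap_eq_self hker
    rw [← Submodule.finrank_map_subtype_eq T (LinearMap.ker E), ← e1]
    exact ((Submodule.equivMapOfInjective C hCinj K).finrank_eq)
  let ev : (Fin w → F) →ₗ[F] Module.Dual F K :=
    LinearMap.mk₂ F (fun c k => ∑ i, c i * k.1 i) (fun c c' k => by simp [add_mul, Finset.sum_add_distrib])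
      (fun r c k => by simp [Finset.mul_sum, mul_assoc])
      (fun c k k' => by simp [mul_add, Finset.sum_add_distrib])
      (fun r c k => by simp [Finset.mul_sum, mul_left_comm])
  have hrange : LinearMap.range E ≤ LinearMap.ker ev := by
    rintro _ ⟨t, rfl⟩
    refine LinearMap.mem_ker.2 (LinearMap.ext fun k => ?_)
    obtain ⟨s, -, hs⟩ := k.2
    have e := hoT t.1 t.2 s.1 s.2
    rw [show s.1 = C k.1 from hs, hC, ← polarBilin_apply_apply, map_sum] at e
    show ∑ i, E t i * k.1 i = 0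
    rw [← e]
    exact Finset.sum_congr rfl fun i _ => by
      rw [map_smul, polarBilin_apply_apply, smul_eq_mul, mul_comm, polar_comm]; rfl
  have hsurj : Function.Surjective ev := by
    intro φ
    obtain ⟨ψ, hψ⟩ := LinearMap.exists_extend φ
    refine ⟨fun i => ψ (Pi.single i 1), LinearMap.ext fun k => ?_⟩
    rw [← hψ]
    show ∑ i, ψ (Pi.single i 1) * k.1 i = ψ k.1
    conv_rhs => rw [pi_eq_sum_univ' k.1, map_sum]
    exact Finset.sum_congr rfl fun i _ => by rw [map_smul, smul_eq_mul, mul_comm]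
  have h5 := LinearMap.finrank_range_add_finrank_ker ev
  rw [LinearMap.range_eq_top.2 hsurj, finrank_top, Subspace.dual_finrank_eq, Module.finrank_fin_fun] at h5
  have h6 := Submodule.finrank_mono hrange
  omega

theorem frame_concurrent_three (h3 : w = 3) {k : Fin w × Bool} {i j : Fin w} (hi : k.1 ≠ i) (hj : k.1 ≠ j)
    (hij : i ≠ j) :
    ∃ P, P ≠ 0 ∧ ∀ b, P ∈ S.img β (S.fl k (i, b)) ∧ P ∈ S.img β (S.fl k (j, b)) := by
  have hl : ∀ b, IsLine Q (S.fl k (i, b)) := fun b => S.fl_line hi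
  have hcomm : S.Comm (S.fl k (i, true)) (S.fl k (i, false)) :=
    S.comm_of_meet (hl _) (hl _) (S.ne_zero k) (left_mem_ln _ _) (left_mem_ln _ _)
  obtain ⟨P, hP, hP1, hP2⟩ := S.meet_of_comm h3 (S.img_line β (hl true)) (S.img_line β (hl false))
    ((S.comm_img β (hl _) (hl _)).2 hcomm)
  have hne : S.img β (S.fl k (i, true)) ≠ S.img β (S.fl k (i, false)) := fun e =>
    S.fl_ne (ne_of_fst (l := (i, false)) hi) (by simp) (S.img_inj β (hl _) (hl _) e)
  refine ⟨P, hP, fun b => ⟨by cases b <;> assumption, ?_⟩⟩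
  set N := S.img β (S.fl k (j, b))
  have hN : IsLine Q N := S.img_line β (S.fl_line hj)
  have hc : ∀ c, S.Close (S.img β (S.fl k (i, c))) N := fun c =>
    (S.close_img β (hl c) (S.fl_line hj)).2 (S.fl_close hi hj hij)
  by_contra hPN
  obtain ⟨⟨p, hp, hpL, hpN⟩, o1⟩ := S.close_spec (S.img_line β (hl true)) hN (hc true)
  obtain ⟨⟨r, hr, hrL, hrN⟩, o2⟩ := S.close_spec (S.img_line β (hl false)) hN (hc false)
  have hp' : p ∉ Submodule.span F {P} := fun hm => by
    obtain ⟨c, rfl⟩ := Submodule.mem_span_singleton.1 hm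
    exact hPN ((N.smul_mem_iff (left_ne_zero_of_smul hp)).1 hpN)
  have hr' : r ∉ Submodule.span F {P} := fun hm => by
    obtain ⟨c, rfl⟩ := Submodule.mem_span_singleton.1 hm
    exact hPN ((N.smul_mem_iff (left_ne_zero_of_smul hr)).1 hrN)
  have e1 := (S.img_line β (hl true)).eq_ln hP1 hpL (independent_pair hP hp')
  have e2 := (S.img_line β (hl false)).eq_ln hP2 hrL (independent_pair hP hr')
  have hg1 : Good Q P p := (S.img_line β (hl true)).good hP1 hpL (independent_pair hP hp')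
  have hg2 : Good Q P r := (S.img_line β (hl false)).good hP2 hrL (independent_pair hP hr')
  have hclose := S.close_of_meet hg1 hg2 (o1 p hpL r hrN) (by rw [← e1, ← e2]; exact hne)
  rw [← e1, ← e2, S.close_img β (hl true) (hl false)] at hclose
  refine S.not_close_of_polar (S.good_frame hi) (S.good_frame hi) ?_ hclose
  rw [show ((i, false) : Fin w × Bool) = opp (i, true) from rfl, S.pair_opp]
  exact one_ne_zero

theorem exists_point (hx : S.Roomy) (k : Fin w × Bool) :
    ∃ P, P ≠ 0 ∧ ∀ l : Fin w × Bool, k.1 ≠ l.1 → P ∈ S.img β (S.fl k l) := by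
  obtain ⟨i, hik, -⟩ := S.exists_third k.1 k.1
  obtain ⟨j, hjk, hji⟩ := S.exists_third k.1 i
  by_cases h4 : 4 ≤ w
  · have hi : k.1 ≠ ((i, true) : Fin w × Bool).1 := Ne.symm hik
    have hj : k.1 ≠ ((j, true) : Fin w × Bool).1 := Ne.symm hjk
    obtain ⟨⟨P, hP, hP1, hP2⟩, -⟩ := S.close_spec (S.img_line β (S.fl_line hi))
      (S.img_line β (S.fl_line hj))
      ((S.close_img β (S.fl_line hi) (S.fl_line hj)).2 (S.fl_close hi hj (Ne.symm hji)))
    refine ⟨P, hP, fun l hl => ?_⟩
    have hgen : ∀ m : Fin w × Bool, k.1 ≠ m.1 → m.1 ≠ i → m.1 ≠ j → P ∈ S.img β (S.fl k m) :=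
      fun m hm h1 h2 => S.frame_concurrent β hx hi hj (Ne.symm hji) hm (Ne.symm h1) (Ne.symm h2) hP hP1 hP2
    obtain ⟨t, ht⟩ := exists_index ({k.1, i, j} : Finset (Fin w)) (Finset.card_le_three.trans_lt (by omega))
    simp only [Finset.mem_insert, Finset.mem_singleton, not_or] at ht
    have hPt := hgen (t, true) (Ne.symm ht.1) ht.2.1 ht.2.2
    by_cases hli : l.1 = i
    · exact S.frame_concurrent β hx (l1 := (j, true)) (l2 := (t, true)) hj (Ne.symm ht.1) (Ne.symm ht.2.2) hl
        (by rw [hli]; exact hji) (by rw [hli]; exact ht.2.1) hP hP2 hPt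
    by_cases hlj : l.1 = j
    · exact S.frame_concurrent β hx (l1 := (i, true)) (l2 := (t, true)) hi (Ne.symm ht.1) (Ne.symm ht.2.1) hl
        (by rw [hlj]; exact Ne.symm hji) (by rw [hlj]; exact ht.2.2) hP hP1 hPt
    exact hgen l hl hli hlj
  · have h3 : w = 3 := by have := S.le; omega
    obtain ⟨P, hP, hPb⟩ := S.frame_concurrent_three β h3 (Ne.symm hik) (Ne.symm hjk) (Ne.symm hji)
    refine ⟨P, hP, fun l hl => ?_⟩
    obtain ⟨li, lb⟩ := l
    have : li = i ∨ li = j := by
      have hl' : k.1 ≠ li := hl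
      have h1 := Fin.val_ne_of_ne hik; have h2 := Fin.val_ne_of_ne hjk; have h4' := Fin.val_ne_of_ne hji
      have h5 := Fin.val_ne_of_ne hl'
      have := k.1.isLt; have := i.isLt; have := j.isLt; have := li.isLt
      simp only [Fin.ext_iff]; omega
    rcases this with rfl | rfl
    · exact (hPb lb).1
    · exact (hPb lb).2

/-- Some isometry has the same effect on the frame lines as the automorphism. -/
theorem exists_isometry (hpt : ∀ k : Fin w × Bool, ∃ P, P ≠ 0 ∧ ∀ l : Fin w × Bool, k.1 ≠ l.1 → P ∈ S.img β (S.fl k l)) : ∃ g : O Q, ∀ k l : Fin w × Bool, k.1 ≠ l.1 →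
    S.img β (S.fl k l) = ln (app g (S.x k)) (app g (S.x l)) := by
  choose y hy0 hy using hpt
  have hsymm : ∀ k l, k.1 ≠ l.1 → y l ∈ S.img β (S.fl k l) := fun k l h => by
    rw [S.fl_comm]; exact hy l k (Ne.symm h)
  -- commuting images force commuting frame lines
  have hnc : ∀ (k l m : Fin w × Bool), k ≠ l → k.1 ≠ m.1 → l.1 ≠ m.1 → m.1 ≠ k.1 →
      y l ∈ Submodule.span F {y k} → False := by
    intro k l m hkl hkm hlm _ hmem
    obtain ⟨c, hc⟩ := Submodule.mem_span_singleton.1 hmem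
    have hkm' : k.1 ≠ (opp m).1 := by simpa using hkm
    have hlm' : l.1 ≠ (opp m).1 := by simpa using hlm
    have hyl : y k ∈ S.img β (S.fl l (opp m)) := by
      have := hy l (opp m) hlm'
      rw [← hc] at this
      exact (Submodule.smul_mem_iff _ (left_ne_zero_of_smul (show c • y k ≠ 0 by rw [hc]; exact hy0 l))).1 this
    have hcomm := (S.comm_img β (S.fl_line hkm) (S.fl_line hlm')).1
      (S.comm_of_meet (S.img_line β (S.fl_line hkm)) (S.img_line β (S.fl_line hlm')) (hy0 k) (hy k m hkm) hyl)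
    obtain ⟨-, h2⟩ := S.app_eq_of_commute (S.good_frame hkm) (S.sing l) (S.pair_fst hlm')
      (hcomm _ (S.rt_mem_X (left_mem_ln _ _) (right_mem_ln _ _)) _
        (S.rt_mem_X (left_mem_ln _ _) (right_mem_ln _ _))).symm
    rw [app_eich_sing (S.sing l) (S.sing _) (S.pair_fst hlm'), S.pair_fst (Ne.symm hlm), S.pair_opp,
      zero_smul, add_zero, one_smul] at h2
    obtain ⟨p, r, hpr⟩ := mem_ln.1 h2
    have := S.coeff_eq_zero (k := k) (l := m) (n := l) (p := p) (r := r) (Ne.symm hkl) (ne_of_fst hlm)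
    rw [hpr, polar_sub_left, S.pair_opp, S.pair_ne (fun e => ne_of_fst hlm (by simpa using congrArg opp e))] at this
    simp at this
  have hind : ∀ k l, k ≠ l → LinearIndependent F ![y k, y l] := fun k l h => by
    obtain ⟨i, h1, h2⟩ := S.exists_third k.1 l.1
    exact independent_pair (hy0 k) fun hm => hnc k l (i, true) h (Ne.symm h1) (Ne.symm h2) h1 hm
  have hline : ∀ k l, k.1 ≠ l.1 → S.img β (S.fl k l) = ln (y k) (y l) := fun k l h =>
    (S.img_line β (S.fl_line h)).eq_ln (hy k l h) (hsymm k l h) (hind k l (ne_of_fst h))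
  have hsing : ∀ k, Q (y k) = 0 := fun k => by
    obtain ⟨i, hik, -⟩ := S.exists_third k.1 k.1
    exact (S.img_line β (S.fl_line (l := (i, true)) (Ne.symm hik))).sing (hy k _ (Ne.symm hik))
  have horth : ∀ k l, k.1 ≠ l.1 → polar Q (y k) (y l) = 0 := fun k l h =>
    (S.img_line β (S.fl_line h)).ortho (hy k l h) (hsymm k l h)
  have hopp : ∀ k, polar Q (y k) (y (opp k)) ≠ 0 := fun k he => by
    obtain ⟨i, hik, -⟩ := S.exists_third k.1 k.1
    set a : Fin w × Bool := (i, true)
    have hak : a.1 ≠ k.1 := hik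
    have hak' : a.1 ≠ (opp k).1 := by simpa using hik
    have hg1 : Good Q (y a) (y k) := ⟨hsing a, hsing k, horth a k hak, hind a k (ne_of_fst hak)⟩
    have hg2 : Good Q (y a) (y (opp k)) :=
      ⟨hsing a, hsing _, horth a _ hak', hind a _ (ne_of_fst hak')⟩
    have hne : ln (y a) (y k) ≠ ln (y a) (y (opp k)) := by
      rw [← hline a k hak, ← hline a _ hak']
      exact fun e => S.fl_ne (ne_of_fst hak') (opp_ne k).symm (S.img_inj β (S.fl_line hak) (S.fl_line hak') e)
    have hc := S.close_of_meet hg1 hg2 he hne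
    rw [← hline a k hak, ← hline a _ hak', S.close_img β (S.fl_line hak) (S.fl_line hak')] at hc
    exact S.not_close_of_polar (S.good_frame hak) (S.good_frame hak')
      (by rw [S.pair_opp]; exact one_ne_zero) hc
  let s : Fin w × Bool → F := fun k => if k.2 then (polar Q (y k) (y (opp k)))⁻¹ else 1
  have hs : ∀ k, s k ≠ 0 := fun k => by
    simp only [s]; split_ifs
    · exact inv_ne_zero (hopp k)
    · exact one_ne_zero
  obtain ⟨z, hz⟩ : ∃ z : Fin w × Bool → ι → F, ∀ k, z k = s k • y k := ⟨fun k => s k • y k, fun k => rfl⟩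
  have hpair : ∀ k l, polar Q (z k) (z l) = polar Q (S.x k) (S.x l) := by
    intro k l
    rw [S.pair, hz k, hz l, polar_smul_left,
      polar_smul_right]
    by_cases h : k.1 = l.1
    · rcases eq_or_opp h.symm with rfl | rfl
      · rw [if_neg (Ne.symm (opp_ne l)), polar_self_sing (hsing l)]; simp
      · rw [if_pos rfl]
        obtain ⟨i, b⟩ := k
        have := hopp (i, true)
        cases b
        · have e : opp (i, false) = (i, true) := rfl
          rw [show opp (i, true) = (i, false) from rfl] at this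
          simp only [e, s, smul_eq_mul, if_true, Bool.false_eq_true, if_false, one_mul]
          rw [show opp (i, true) = (i, false) from rfl, polar_comm (f := ⇑Q) (y (i, false))]
          exact inv_mul_cancel₀ this
        · simp only [s, smul_eq_mul, opp, Bool.not_true, Bool.false_eq_true, if_false, if_true, one_mul]
          exact inv_mul_cancel₀ (by simpa [opp] using this)
    · rw [if_neg (ne_opp_of_ne h), horth k l h]; simp
  have hzind : LinearIndependent F z := by
    rw [Fintype.linearIndependent_iff]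
    intro c hc k
    have h := congrArg (fun v => polar Q v (z (opp k))) hc
    simp only [polar_zero_left] at h
    rw [← polarBilin_apply_apply, map_sum, LinearMap.sum_apply] at h
    rw [Finset.sum_eq_single k] at h
    · rwa [map_smul, LinearMap.smul_apply, polarBilin_apply_apply, hpair, S.pair_opp, smul_eq_mul,
        mul_one] at h
    · intro l _ hl
      rw [map_smul, LinearMap.smul_apply, polarBilin_apply_apply, hpair,
        S.pair_ne (fun e => hl (by simpa using (congrArg opp e).symm)), smul_zero]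
    · simp
  obtain ⟨e⟩ : Nonempty ((Fin w × Bool) ≃ Fin (Fintype.card (Fin w × Bool))) := ⟨Fintype.equivFin _⟩
  obtain ⟨g, hg, hgx⟩ := CfsgLib.Forms.quad_witt_family Q S.nondeg (S.x ∘ e.symm) (z ∘ e.symm)
    (S.linearIndependent.comp _ e.symm.injective) (hzind.comp _ e.symm.injective)
    (fun i => by simp [hz, QuadraticMap.map_smul, S.sing, hsing])
    (fun i j => (hpair _ _).symm)
  let G : O Q := mkO g.toLinearMap g.symm.toLinearMap (LinearMap.ext g.apply_symm_apply)
    (LinearMap.ext g.symm_apply_apply) hg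
  have hG : ∀ k, app G (S.x k) = z k := fun k => by
    rw [app_mkO]
    simpa using hgx (e k)
  refine ⟨G, fun k l h => ?_⟩
  rw [hG, hG]
  exact (S.img_line β (S.fl_line h)).eq_ln (by rw [hz]; exact Submodule.smul_mem _ _ (hy k l h))
    (by rw [hz]; exact Submodule.smul_mem _ _ (hsymm k l h)) (by
      rw [show ![z k, z l] = z ∘ ![k, l] by funext i; fin_cases i <;> rfl]
      exact hzind.comp _ (by
        intro i j e; fin_cases i <;> fin_cases j <;> simp_all [ne_of_fst h, (ne_of_fst h).symm]))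

/-- Some automorphism in the coset fixes the root groups of all frame lines. -/
theorem exists_fix (hpt : ∀ k : Fin w × Bool, ∃ P, P ≠ 0 ∧ ∀ l : Fin w × Bool, k.1 ≠ l.1 → P ∈ S.img β (S.fl k l)) : ∃ g : O Q, ∀ k l : Fin w × Bool, k.1 ≠ l.1 → ∀ t : F,
    ∃ r : F, ((Semi.ofO g).aut⁻¹ * β) (S.rt (S.x k) (t • S.x l)) = S.rt (S.x k) (r • S.x l) := by
  obtain ⟨g, hg⟩ := S.exists_isometry β hpt
  refine ⟨g, fun k l h t => ?_⟩
  have hL := S.fl_line h
  have hmem := (S.mem_img β hL _).2 (S.rt_mem_X (left_mem_ln (S.x k) (S.x l))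
    (Submodule.smul_mem _ t (right_mem_ln (S.x k) (S.x l))))
  have hgood : Good Q (app g (S.x k)) (app g (S.x l)) :=
    ⟨by rw [Q_app, S.sing], by rw [Q_app, S.sing], by rw [polar_app, S.pair_fst h], by
      rw [show ![app g (S.x k), app g (S.x l)] = app g ∘ ![S.x k, S.x l] by funext i; fin_cases i <;> rfl]
      exact (S.indep_pair (ne_of_fst h)).map' _ (LinearMap.ker_eq_bot.2 (app_injective _))⟩
  rw [hg k l h] at hmem
  obtain ⟨r, hr⟩ := (S.mem_X_iff hgood).1 hmem
  refine ⟨r, ?_⟩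
  rw [MulAut.mul_apply]
  apply (Semi.ofO g).aut.injective
  rw [MulAut.apply_inv_self, hr,
    Semi.aut_ofO_rt S g (S.sing k) (by rw [polar_smul_right, S.pair_fst h, smul_zero]), map_smul]

end Frame

end CfsgLib.AutPOmega
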