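/-
An automorphism fixing the frame root groups is induced by a semisimilarity: the maps on the unipotent
radicals of the point stabilisers at the frame.
-/
import Cfsg.Agent.Lib.AutPOmega.FrameImg

set_option autoImplicit false
set_option linter.unusedSectionVars false

namespace CfsgLib.AutPOmega

open Matrix QuadraticMap CfsgLib.Orth

variable {ι : Type} [Fintype ι] [DecidableEq ι] {F : Type*} [Field F] {Q : QuadraticForm F (ι → F)}
  {w : ℕ}

/-- An automorphism fixing all frame root groups, with its coefficient maps. -/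
structure Fixing (S : Frame Q w) where
  β : MulAut (PG Q)
  φ : Fin w × Bool → Fin w × Bool → F → F
  spec : ∀ k l : Fin w × Bool, k.1 ≠ l.1 → ∀ t : F,
    β (S.rt (S.x k) (t • S.x l)) = S.rt (S.x k) (φ k l t • S.x l)

namespace Fixing

variable {S : Frame Q w} (A : Fixing S)

theorem rt_unique {k : Fin w × Bool} {b c : ι → F} (h1 : polar Q b (S.x k) = 0)
    (h2 : polar Q b (S.x (opp k)) = 0) (h3 : polar Q c (S.x k) = 0) (h4 : polar Q c (S.x (opp k)) = 0)
    (h : S.rt (S.x k) b = S.rt (S.x k) c) : b = c := by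
  obtain ⟨r, hr⟩ := Submodule.mem_span_singleton.1 (S.rt_injective (S.ne_zero k) (S.sing k)
    (by rw [polar_comm, h1]) (by rw [polar_comm, h3]) h)
  have e := congrArg (fun v => polar Q v (S.x (opp k))) hr
  simp [polar_sub_left, polar_smul_left, S.pair_opp, h2, h4] at e
  rw [e, zero_smul] at hr
  exact sub_eq_zero.1 hr.symm

theorem smul_perp {k l : Fin w × Bool} (h : k.1 ≠ l.1) (r : F) :
    polar Q (r • S.x l) (S.x k) = 0 ∧ polar Q (r • S.x l) (S.x (opp k)) = 0 := by
  rw [polar_smul_left, polar_smul_left, S.pair_fst (Ne.symm h), S.pair_fst (by simpa using Ne.symm h)]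
  simp

theorem coeff_unique {k l : Fin w × Bool} (h : k.1 ≠ l.1) {r r' : F}
    (e : S.rt (S.x k) (r • S.x l) = S.rt (S.x k) (r' • S.x l)) : r = r' :=
  smul_left_injective F (S.ne_zero l)
    (rt_unique (smul_perp h r).1 (smul_perp h r).2 (smul_perp h r').1 (smul_perp h r').2 e)

theorem phi_add {k l : Fin w × Bool} (h : k.1 ≠ l.1) (s t : F) : A.φ k l (s + t) = A.φ k l s + A.φ k l t := by
  have hp : ∀ r : F, polar Q (S.x k) (r • S.x l) = 0 := fun r => by rw [polar_comm, (smul_perp h r).1]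
  apply coeff_unique (S := S) h
  rw [← A.spec k l h, add_smul, add_smul, ← S.rt_add (S.sing k) (hp _) (hp _),
    ← S.rt_add (S.sing k) (hp _) (hp _), map_mul, A.spec k l h, A.spec k l h]

theorem phi_zero {k l : Fin w × Bool} (h : k.1 ≠ l.1) : A.φ k l 0 = 0 := by
  simpa using A.phi_add h 0 0

theorem phi_neg {k l : Fin w × Bool} (h : k.1 ≠ l.1) (t : F) : A.φ k l (-t) = -A.φ k l t := by
  have := A.phi_add h (-t) t
  rw [neg_add_cancel, A.phi_zero h] at this
  linear_combination -this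

theorem phi_injective {k l : Fin w × Bool} (h : k.1 ≠ l.1) : Function.Injective (A.φ k l) := fun s t e =>
  coeff_unique h (A.β.injective (by rw [A.spec k l h, A.spec k l h, e]))

theorem phi_one_ne {k l : Fin w × Bool} (h : k.1 ≠ l.1) : A.φ k l 1 ≠ 0 := fun e =>
  one_ne_zero (A.phi_injective h (e.trans (A.phi_zero h).symm))

theorem phi_symm {k l : Fin w × Bool} (h : k.1 ≠ l.1) (t : F) : A.φ l k t = A.φ k l t := by
  have key : ∀ r : F, S.rt (S.x l) (r • S.x k) = S.rt (S.x k) ((-r) • S.x l) := fun r => by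
    refine S.rt_congr ?_
    have := eich_comb (S.sing k) (S.sing l) (S.pair_fst h) 0 1 r 0
    simpa using this
  apply coeff_unique (S := S) (Ne.symm h)
  rw [← A.spec l k (Ne.symm h), key, key, A.spec k l h, A.phi_neg h]

variable [Fintype F]

theorem img_fl {k l : Fin w × Bool} (h : k.1 ≠ l.1) : S.img A.β (S.fl k l) = S.fl k l := by
  refine S.X_injective (S.img_line _ (S.fl_line h)) (S.fl_line h) ?_
  rw [← S.img_map A.β (S.fl_line h)]
  rintro _ ⟨g, hg, rfl⟩
  obtain ⟨t, rfl⟩ := (S.mem_X_iff (S.good_frame h)).1 hg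
  exact (S.mem_X_iff (S.good_frame h)).2 ⟨_, A.spec k l h t⟩

/-- Lines through a frame point go to lines through it. -/
theorem point_mem_img {k : Fin w × Bool} {L : Submodule F (ι → F)} (hL : IsLine Q L) (hk : S.x k ∈ L) :
    S.x k ∈ S.img A.β L := by
  set N := S.img A.β L
  have hN : IsLine Q N := S.img_line _ hL
  by_contra hkN
  have hmeet : ∀ l : Fin w × Bool, k.1 ≠ l.1 → (∀ n ∈ N, polar Q (S.x k) n = 0 ∧ polar Q (S.x l) n = 0) ∨
      ∃ s : F, S.x l + s • S.x k ∈ N := by
    intro l hl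
    have hc : S.Comm (S.fl k l) N := by
      have := (S.comm_img A.β (S.fl_line hl) hL).2
        (S.comm_of_meet (S.fl_line hl) hL (S.ne_zero k) (left_mem_ln _ _) hk)
      rwa [A.img_fl hl] at this
    by_cases hd : ∀ x, x ∈ S.fl k l → x ∈ N → x = 0
    · exact Or.inl fun n hn => ⟨S.perp_of_comm (S.fl_line hl) hN hc hd _ (left_mem_ln _ _) n hn,
        S.perp_of_comm (S.fl_line hl) hN hc hd _ (right_mem_ln _ _) n hn⟩
    push Not at hd
    obtain ⟨p, hp, hpN, hp0⟩ := hd
    obtain ⟨a, b, rfl⟩ := mem_ln.1 hp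
    have hb : b ≠ 0 := fun e => hkN (by
      rw [e, zero_smul, add_zero] at hp0 hpN
      exact (N.smul_mem_iff (left_ne_zero_of_smul hp0)).1 hpN)
    refine Or.inr ⟨b⁻¹ * a, ?_⟩
    have := N.smul_mem b⁻¹ hpN
    rwa [smul_add, smul_smul, smul_smul, inv_mul_cancel₀ hb, one_smul, add_comm] at this
  have hperpk : ∀ n ∈ N, polar Q (S.x k) n = 0 := by
    intro n hn
    by_contra hne
    obtain ⟨i, hik, -⟩ := S.exists_third k.1 k.1
    rcases hmeet (i, true) (Ne.symm hik) with h | ⟨s, hs⟩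
    · exact hne (h n hn).1
    rcases hmeet (opp (i, true)) (Ne.symm hik) with h | ⟨s', hs'⟩
    · exact hne (h n hn).1
    have := hN.ortho hs hs'
    simp [polar_add_left, polar_add_right, polar_smul_left, polar_smul_right, polar_self_sing (S.sing k),
      S.pair_opp, S.pair_fst (k := (i, true)) (l := k) hik,
      S.pair_fst (k := k) (l := opp (i, true)) (Ne.symm hik)] at this
  have hperp : ∀ n ∈ N, ∀ l, l ≠ opp k → polar Q (S.x l) n = 0 := by
    intro n hn l hl
    by_cases hkl : k.1 = l.1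
    · rcases eq_or_opp hkl.symm with rfl | rfl
      · exact hperpk n hn
      · exact absurd rfl hl
    rcases hmeet l hkl with h | ⟨s, hs⟩
    · exact (h n hn).2
    · have := hN.ortho hs hn
      rwa [polar_add_left, polar_smul_left, hperpk n hn, smul_zero, add_zero] at this
  have hspan : ∀ n ∈ N, n ∈ Submodule.span F {S.x k} := by
    intro n hn
    have hd : n = S.proj n + polar Q n (S.x (opp k)) • S.x k := by
      conv_lhs => rw [S.decomp n]
      congr 1
      refine Finset.sum_eq_single k (fun l _ hl => ?_) (by simp)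
      rw [polar_comm, hperp n hn (opp l) (fun e => hl (by simpa using congrArg opp e)), zero_smul]
    have h0 := hN.sing hn
    rw [hd, QuadraticMap.map_add ⇑Q, QuadraticMap.map_smul, S.sing, polar_smul_right, S.perp_proj] at h0
    simp at h0
    rw [hd, S.aniso _ (S.perp_proj n) h0, zero_add]
    exact Submodule.smul_mem _ _ (Submodule.mem_span_singleton_self _)
  have := Submodule.finrank_mono (show N ≤ Submodule.span F {S.x k} from hspan)
  rw [hN.finrank, finrank_span_singleton (S.ne_zero k)] at this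
  omega

/-- `b` represents the image of `E(x k, a)` -/
def Rep (k : Fin w × Bool) (a b : ι → F) : Prop :=
  polar Q b (S.x k) = 0 ∧ polar Q b (S.x (opp k)) = 0 ∧ A.β (S.rt (S.x k) a) = S.rt (S.x k) b

theorem rep_unique {k : Fin w × Bool} {a b c : ι → F} (h : A.Rep k a b) (h' : A.Rep k a c) : b = c :=
  rt_unique h.1 h.2.1 h'.1 h'.2.1 (h.2.2.symm.trans h'.2.2)

theorem rep_add {k : Fin w × Bool} {a a' b b' : ι → F} (ha : polar Q a (S.x k) = 0)
    (ha' : polar Q a' (S.x k) = 0) (h : A.Rep k a b) (h' : A.Rep k a' b') : A.Rep k (a + a') (b + b') := by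
  refine ⟨by rw [polar_add_left, h.1, h'.1, add_zero], by rw [polar_add_left, h.2.1, h'.2.1, add_zero], ?_⟩
  rw [← S.rt_add (S.sing k) (by rw [polar_comm, ha]) (by rw [polar_comm, ha']),
    ← S.rt_add (S.sing k) (by rw [polar_comm, h.1]) (by rw [polar_comm, h'.1]), map_mul, h.2.2, h'.2.2]

theorem rep_frame {k l : Fin w × Bool} (h : k.1 ≠ l.1) (t : F) :
    A.Rep k (t • S.x l) (A.φ k l t • S.x l) := ⟨(smul_perp h _).1, (smul_perp h _).2, A.spec k l h t⟩

theorem rep_singular {k : Fin w × Bool} {a : ι → F} (hQa : Q a = 0) (ha : polar Q a (S.x k) = 0) :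
    ∃ b, A.Rep k a b ∧ Q b = 0 := by
  by_cases hm : a ∈ Submodule.span F {S.x k}
  · obtain ⟨t, rfl⟩ := Submodule.mem_span_singleton.1 hm
    refine ⟨0, ⟨polar_zero_left Q _, polar_zero_left Q _, ?_⟩, QuadraticMap.map_zero Q⟩
    rw [S.rt_congr (show eich Q (S.x k) (t • S.x k) = eich Q (S.x k) 0 by
      rw [eich_smul_self (S.sing k), eich_zero_right (S.sing k)]), S.rt_one (S.sing k), map_one]
  have hg : Good Q (S.x k) a := ⟨S.sing k, hQa, by rw [polar_comm, ha], independent_pair (S.ne_zero k) hm⟩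
  have hL : IsLine Q (ln (S.x k) a) := ⟨_, _, hg, rfl⟩
  obtain ⟨y, hy, he⟩ := (S.img_line A.β hL).exists_second (A.point_mem_img hL (left_mem_ln _ _)) (S.ne_zero k)
  have hmem := (S.mem_img A.β hL _).2 (S.rt_mem_X (left_mem_ln (S.x k) a) (right_mem_ln (S.x k) a))
  rw [he] at hmem
  obtain ⟨r, hr⟩ := (S.mem_X_iff hy).1 hmem
  set c := polar Q (r • y) (S.x (opp k)) with hc
  have h1 : polar Q (S.x k) (r • y) = 0 := by rw [polar_smul_right, hy.ortho, smul_zero]
  refine ⟨r • y + (-c) • S.x k, ⟨?_, ?_, ?_⟩, ?_⟩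
  · rw [polar_add_left, polar_comm, h1, polar_smul_left, polar_self_sing (S.sing k), smul_zero, add_zero]
  · rw [polar_add_left, ← hc, polar_smul_left, S.pair_opp, smul_eq_mul]; ring
  · rw [hr]; exact S.rt_congr (eich_add_smul (S.sing k) h1 _).symm
  · rw [QuadraticMap.map_add ⇑Q, QuadraticMap.map_smul, QuadraticMap.map_smul, hy.right, S.sing,
      polar_smul_right, polar_comm, h1]
    simp

/-- a singular vector with given component orthogonal to the frame -/
def lift (S : Frame Q w) (m : Fin w × Bool) (a : ι → F) : ι → F :=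
  S.x (opp m) + ((-Q a) • S.x m + a)

theorem lift_spec {k m : Fin w × Bool} {a : ι → F} (ha : S.Perp a) (h : k.1 ≠ m.1) :
    Q (lift S m a) = 0 ∧ polar Q (lift S m a) (S.x k) = 0 := by
  refine ⟨?_, ?_⟩
  · simp [lift, QuadraticMap.map_add ⇑Q, QuadraticMap.map_smul, S.sing, polar_add_right, polar_smul_left,
      polar_smul_right, S.pair_opp', polar_comm (f := ⇑Q) (S.x (opp m)) a, ha (opp m),
      polar_comm (f := ⇑Q) (S.x m) a, ha m]
  · rw [lift, polar_add_left, polar_add_left, polar_smul_left, ha k,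
      S.pair_fst (by simpa using Ne.symm h), S.pair_fst (Ne.symm h)]
    simp

theorem rep_exists {k : Fin w × Bool} {a : ι → F} (ha : S.Perp a) : ∃ b, A.Rep k a b := by
  obtain ⟨i, hik, -⟩ := S.exists_third k.1 k.1
  obtain ⟨hl1, hl2⟩ := lift_spec (k := k) (m := (i, true)) ha (Ne.symm hik)
  obtain ⟨b, hb, -⟩ := A.rep_singular hl1 hl2
  have h1 : k.1 ≠ (opp (i, true)).1 := Ne.symm hik
  have h2 := A.rep_frame h1 (-1)
  have h3 := A.rep_frame (k := k) (l := (i, true)) (Ne.symm hik) (Q a)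
  have h4 := A.rep_add (by rw [polar_add_left, (smul_perp h1 _).1, hl2, add_zero])
    (smul_perp (Ne.symm hik) _).1 (A.rep_add (smul_perp h1 _).1 hl2 h2 hb) h3
  refine ⟨A.φ k (opp (i, true)) (-1) • S.x (opp (i, true)) + b + A.φ k (i, true) (Q a) • S.x (i, true), ?_⟩
  have e : a = (-1 : F) • S.x (opp (i, true)) + lift S (i, true) a + Q a • S.x (i, true) := by
    rw [lift]; module
  rw [← e] at h4
  exact h4

/-- the map induced on the orthogonal complement of the frame -/
noncomputable def T (k : Fin w × Bool) (a : ι → F) : ι → F :=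
  open scoped Classical in if h : S.Perp a then (A.rep_exists (k := k) h).choose else 0

theorem T_spec (k : Fin w × Bool) {a : ι → F} (ha : S.Perp a) : A.Rep k a (A.T k a) := by
  rw [T, dif_pos ha]; exact (A.rep_exists (k := k) ha).choose_spec

theorem T_add (k : Fin w × Bool) {a b : ι → F} (ha : S.Perp a) (hb : S.Perp b) :
    A.T k (a + b) = A.T k a + A.T k b :=
  A.rep_unique (A.T_spec k (S.perp_add ha hb)) (A.rep_add (ha k) (hb k) (A.T_spec k ha) (A.T_spec k hb))

theorem rep_lift {k m : Fin w × Bool} {a : ι → F} (ha : S.Perp a) (h : k.1 ≠ m.1) :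
    A.Rep k (lift S m a)
      (A.φ k (opp m) 1 • S.x (opp m) + (A.φ k m (-Q a) • S.x m + A.T k a)) := by
  have h' : k.1 ≠ (opp m).1 := by simpa using h
  have e1 := A.rep_frame h' 1
  rw [one_smul] at e1
  exact A.rep_add (S.pair_fst (Ne.symm h')) (by rw [polar_add_left, (smul_perp h _).1, ha k, add_zero]) e1
    (A.rep_add (smul_perp h _).1 (ha k) (A.rep_frame h _) (A.T_spec k ha))

theorem T_perp (k : Fin w × Bool) {a : ι → F} (ha : S.Perp a) : S.Perp (A.T k a) := by
  intro n
  obtain ⟨h1, h2, -⟩ := A.T_spec k ha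
  by_cases hkn : k.1 = n.1
  · rcases eq_or_opp hkn.symm with rfl | rfl
    · exact h1
    · exact h2
  obtain ⟨i, hik, hin⟩ := S.exists_third k.1 n.1
  set m : Fin w × Bool := (i, true)
  obtain ⟨hl1, hl2⟩ := lift_spec (k := k) (m := m) ha (Ne.symm hik)
  have hln : polar Q (lift S m a) (S.x n) = 0 := (lift_spec (k := n) (m := m) ha (Ne.symm hin)).2
  have hsum : Q (lift S m a + S.x n) = 0 := by
    rw [QuadraticMap.map_add ⇑Q, hl1, S.sing, hln]; ring
  have hsx : polar Q (lift S m a + S.x n) (S.x k) = 0 := by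
    rw [polar_add_left, hl2, S.pair_fst (Ne.symm hkn), add_zero]
  obtain ⟨b, hb, hQb⟩ := A.rep_singular hsum hsx
  have e1 := A.rep_frame hkn 1
  rw [one_smul] at e1
  have e2 := A.rep_lift ha (Ne.symm hik) (m := m)
  obtain ⟨c, hc, hQc⟩ := A.rep_singular hl1 hl2
  rw [A.rep_unique hb (A.rep_add hl2 (S.pair_fst (Ne.symm hkn)) e2 e1), QuadraticMap.map_add ⇑Q,
    ← A.rep_unique hc e2, hQc, QuadraticMap.map_smul, S.sing, A.rep_unique hc e2, polar_smul_right,
    polar_add_left, polar_add_left, polar_smul_left, polar_smul_left,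
    S.pair_fst (k := opp m) (l := n) (by simpa [m] using hin),
    S.pair_fst (k := m) (l := n) hin] at hQb
  simpa [A.phi_one_ne hkn] using hQb

theorem Q_T {k m : Fin w × Bool} {a : ι → F} (ha : S.Perp a) (h : k.1 ≠ m.1) :
    Q (A.T k a) = A.φ k (opp m) 1 * A.φ k m (Q a) := by
  obtain ⟨hl1, hl2⟩ := lift_spec (k := k) (m := m) ha h
  obtain ⟨b, hb, hQb⟩ := A.rep_singular hl1 hl2
  have hT := A.T_perp k ha
  rw [A.rep_unique hb (A.rep_lift ha h)] at hQb
  simp [QuadraticMap.map_add ⇑Q, QuadraticMap.map_smul, S.sing, polar_add_right, polar_smul_left,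
    polar_smul_right, S.pair_opp', polar_comm (f := ⇑Q) (S.x (opp m)) (A.T k a), hT (opp m),
    polar_comm (f := ⇑Q) (S.x m) (A.T k a), hT m, A.phi_neg h] at hQb
  linear_combination hQb

/-- Conjugation compatibility. -/
theorem conj_compat {k l : Fin w × Bool} (h : k.1 ≠ l.1) {c c' : ι → F}
    (hc : polar Q c (S.x k) = 0 ∧ polar Q c (S.x (opp l)) = 0 ∧ polar Q c (S.x l) = 0)
    (hc' : polar Q c' (S.x k) = 0 ∧ polar Q c' (S.x (opp l)) = 0 ∧ polar Q c' (S.x l) = 0)
    (hc'' : polar Q c' (S.x (opp k)) = 0)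
    (hrep : A.β (S.rt (S.x (opp l)) c) = S.rt (S.x (opp l)) c') {t : F} {b : ι → F}
    (hb : A.Rep k (t • c) b) :
    A.φ k (opp l) (-(t * Q c)) • S.x (opp l) + b =
      A.φ k l t • (c' + (-Q c') • S.x (opp l)) := by
  have h' : k.1 ≠ (opp l).1 := by simpa using h
  have hp1 : polar Q (t • c) (S.x k) = 0 := by rw [polar_smul_left, hc.1, smul_zero]
  have key : ∀ c : ι → F, polar Q c (S.x k) = 0 → polar Q c (S.x (opp l)) = 0 → polar Q c (S.x l) = 0 →
      ∀ t : F, S.rt (S.x (opp l)) c * S.rt (S.x k) (t • S.x l) * (S.rt (S.x (opp l)) c)⁻¹ =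
        S.rt (S.x k) (t • (S.x l + c + (-Q c) • S.x (opp l))) := fun c h1 h2 h3 t => by
    rw [Frame.rt, Frame.rt, Frame.rt, ← QuotientGroup.mk_inv, ← QuotientGroup.mk_mul, ← QuotientGroup.mk_mul]
    exact congrArg _ (Subtype.ext (S.conj_root h h1 h2 h3 t))
  have e := congrArg A.β (key c hc.1 hc.2.1 hc.2.2 t)
  rw [map_mul, map_mul, map_inv, hrep, A.spec k l h, key c' hc'.1 hc'.2.1 hc'.2.2] at e
  have e1 := A.rep_frame h t
  have e2 := A.rep_frame h' (-(t * Q c))
  have e3 := A.rep_add (by rw [polar_add_left, (smul_perp h _).1, hp1, add_zero]) (smul_perp h' _).1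
    (A.rep_add (smul_perp h _).1 hp1 e1 hb) e2
  have e4 : S.rt (S.x k) (A.φ k l t • S.x l + b + A.φ k (opp l) (-(t * Q c)) • S.x (opp l)) =
      S.rt (S.x k) (A.φ k l t • (S.x l + c' + (-Q c') • S.x (opp l))) := by
    rw [e, ← e3.2.2]
    congr 2; module
  have hr : polar Q (A.φ k l t • (S.x l + c' + (-Q c') • S.x (opp l))) (S.x k) = 0 ∧
      polar Q (A.φ k l t • (S.x l + c' + (-Q c') • S.x (opp l))) (S.x (opp k)) = 0 := by
    simp [polar_add_left, polar_smul_left, hc'.1, hc'', S.pair_fst (Ne.symm h),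
      S.pair_fst (k := l) (l := opp k) (by simpa using Ne.symm h),
      S.pair_fst (k := opp l) (l := k) (by simpa using Ne.symm h),
      S.pair_fst (k := opp l) (l := opp k) (by simpa using Ne.symm h)]
  have e5 := rt_unique e3.1 e3.2.1 hr.1 hr.2 e4
  linear_combination (norm := module) e5

theorem phi_mul {k l m : Fin w × Bool} (hkl : k.1 ≠ l.1) (hkm : k.1 ≠ m.1) (hlm : l.1 ≠ m.1) (t b : F) :
    A.φ k m (t * b) = A.φ k l t * A.φ (opp l) m b := by
  have hlm' : (opp l).1 ≠ m.1 := by simpa using hlm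
  have hperp : ∀ r : F, polar Q (r • S.x m) (S.x k) = 0 ∧ polar Q (r • S.x m) (S.x (opp l)) = 0 ∧
      polar Q (r • S.x m) (S.x l) = 0 := fun r =>
    ⟨(smul_perp hkm r).1, (smul_perp hlm' r).1, (smul_perp hlm r).1⟩
  have hrep : A.Rep k (t • b • S.x m) (A.φ k m (t * b) • S.x m) := by
    rw [smul_smul]; exact A.rep_frame hkm _
  have e := A.conj_compat hkl (hperp b) (hperp (A.φ (opp l) m b)) (smul_perp hkm _).2
    (A.spec (opp l) m hlm' b) hrep
  rw [QuadraticMap.map_smul, S.sing, smul_zero, mul_zero, neg_zero, A.phi_zero (by simpa using hkl),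
    zero_smul, zero_add, QuadraticMap.map_smul, S.sing, smul_zero, neg_zero, zero_smul, add_zero,
    smul_smul] at e
  exact smul_left_injective F (S.ne_zero m) e

theorem T_mul {k l : Fin w × Bool} (hkl : k.1 ≠ l.1) {a : ι → F} (ha : S.Perp a) (t : F) :
    A.T k (t • a) = A.φ k l t • A.T (opp l) a ∧
      A.φ k (opp l) (t * Q a) = A.φ k l t * Q (A.T (opp l) a) := by
  have hT := A.T_perp (opp l) ha
  have e := A.conj_compat hkl ⟨ha _, ha _, ha _⟩ ⟨hT _, hT _, hT _⟩ (hT _) (A.T_spec (opp l) ha).2.2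
    (A.T_spec k (S.perp_smul t ha))
  have e1 := congrArg (fun v => polar Q v (S.x l)) e
  simp [polar_add_left, polar_smul_left, S.pair_opp', hT l, A.T_perp k (S.perp_smul t ha) l,
    A.phi_neg (show k.1 ≠ (opp l).1 by simpa using hkl)] at e1
  refine ⟨?_, e1⟩
  rw [A.phi_neg (by simpa using hkl), e1] at e
  linear_combination (norm := module) e

end Fixing

end CfsgLib.AutPOmega
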