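/-
Every automorphism of `PΩ(Q)` is induced by a semisimilarity.
-/
import Cfsg.Agent.Lib.AutPOmega.Normal

set_option autoImplicit false
set_option linter.unusedSectionVars false

namespace CfsgLib.AutPOmega

open Matrix QuadraticMap CfsgLib.Orth

variable {ι : Type} [Fintype ι] [DecidableEq ι] {F : Type*} [Field F] [Fintype F]
  {Q : QuadraticForm F (ι → F)} {w : ℕ}

namespace Fixing

variable {S : Frame Q w} (A : Fixing S)

/-- the normalised coefficient map -/
def nrm (k l : Fin w × Bool) (t : F) : F := A.φ k l t / A.φ k l 1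

theorem K_mul {k l m : Fin w × Bool} (h1 : k.1 ≠ l.1) (h2 : k.1 ≠ m.1) (h3 : l.1 ≠ m.1) :
    A.φ k m 1 = A.φ k l 1 * A.φ (opp l) m 1 := by
  simpa using A.phi_mul h1 h2 h3 1 1

theorem nrm_right {k l m : Fin w × Bool} (h1 : k.1 ≠ l.1) (h2 : k.1 ≠ m.1) (h3 : l.1 ≠ m.1) (t : F) :
    A.nrm k l t = A.nrm k m t := by
  have e := A.phi_mul h1 h2 h3 t 1
  rw [mul_one] at e
  have hl := A.phi_one_ne h1
  have hlm := A.phi_one_ne (k := opp l) (l := m) (by simpa using h3)
  rw [nrm, nrm, e, A.K_mul h1 h2 h3]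
  field_simp

theorem nrm_fst {k l m : Fin w × Bool} (h1 : k.1 ≠ l.1) (h2 : k.1 ≠ m.1) (t : F) :
    A.nrm k l t = A.nrm k m t := by
  by_cases h3 : l.1 = m.1
  · obtain ⟨i, hik, hil⟩ := S.exists_third k.1 l.1
    rw [A.nrm_right h1 (m := (i, true)) (Ne.symm hik) (Ne.symm hil) t,
      ← A.nrm_right h2 (m := (i, true)) (Ne.symm hik) (by rw [← h3]; exact Ne.symm hil) t]
  · exact A.nrm_right h1 h2 h3 t

theorem nrm_symm {k l : Fin w × Bool} (h : k.1 ≠ l.1) (t : F) : A.nrm l k t = A.nrm k l t := by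
  rw [nrm, nrm, A.phi_symm h, A.phi_symm h]

theorem nrm_all {k l k' l' : Fin w × Bool} (h : k.1 ≠ l.1) (h' : k'.1 ≠ l'.1) (t : F) :
    A.nrm k l t = A.nrm k' l' t := by
  obtain ⟨i, hik, hik'⟩ := S.exists_third k.1 k'.1
  rw [A.nrm_fst h (m := (i, true)) (Ne.symm hik), ← A.nrm_symm (k := k) (l := (i, true)) (Ne.symm hik),
    A.nrm_fst (k := (i, true)) (l := k) (m := k') hik hik',
    A.nrm_symm (k := k') (l := (i, true)) (Ne.symm hik'), A.nrm_fst (k := k') (Ne.symm hik') h']

/-- The coefficient maps are multiples of one field automorphism. -/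
theorem exists_field : ∃ σ : F ≃+* F, ∀ k l : Fin w × Bool, k.1 ≠ l.1 → ∀ t : F,
    A.φ k l t = A.φ k l 1 * σ t := by
  have hw := S.le
  set k₀ : Fin w × Bool := (⟨0, by omega⟩, true)
  set l₀ : Fin w × Bool := (⟨1, by omega⟩, true)
  set m₀ : Fin w × Bool := (⟨2, by omega⟩, true)
  have h01 : k₀.1 ≠ l₀.1 := by simp [k₀, l₀]
  have h02 : k₀.1 ≠ m₀.1 := by simp [k₀, m₀]
  have h12 : l₀.1 ≠ m₀.1 := by simp [l₀, m₀]
  have h12' : (opp l₀).1 ≠ m₀.1 := by simpa using h12
  let f : F →+* F :=
    { toFun := A.nrm k₀ l₀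
      map_one' := div_self (A.phi_one_ne h01)
      map_zero' := by simp [nrm, A.phi_zero h01]
      map_add' := fun s t => by simp [nrm, A.phi_add h01, add_div]
      map_mul' := fun s t => by
        rw [A.nrm_all h01 h02 (s * t), A.nrm_all h01 h12' t, nrm, nrm, nrm, A.phi_mul h01 h02 h12,
          A.K_mul h01 h02 h12, mul_div_mul_comm] }
  refine ⟨RingEquiv.ofBijective f f.injective.bijective_of_finite, fun k l h t => ?_⟩
  show A.φ k l t = A.φ k l 1 * A.nrm k₀ l₀ t
  rw [← A.nrm_all h h01, nrm, mul_div_cancel₀ _ (A.phi_one_ne h)]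

theorem inv_pair {a b c : Fin w × Bool} (h1 : a.1 ≠ b.1) (h2 : a.1 ≠ c.1) (h3 : b.1 ≠ c.1) :
    A.φ (opp c) b 1 * A.φ (opp b) c 1 = 1 := by
  have e1 := A.K_mul h2 h1 (Ne.symm h3)
  have e2 := A.K_mul h1 h2 h3
  rw [e2] at e1
  refine mul_left_cancel₀ (A.phi_one_ne h1) ?_
  linear_combination -e1

/-- The similitude constants. -/
theorem exists_scalars : ∃ (c : Fin w × Bool → F) (lam : F), lam ≠ 0 ∧ (∀ k, c k ≠ 0) ∧
    (∀ k, c k * c (opp k) = lam) ∧ ∀ k l, k.1 ≠ l.1 → A.φ k l 1 * lam = c k * c l := by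
  have hw := S.le
  set z : Fin w × Bool := (⟨0, by omega⟩, true) with hz
  set m₀ : Fin w × Bool := (⟨1, by omega⟩, true)
  have hzm : z.1 ≠ m₀.1 := by simp [z, m₀]
  set lam := A.φ z m₀ 1 * A.φ z (opp m₀) 1
  have hlam : ∀ k : Fin w × Bool, z.1 ≠ k.1 → A.φ z k 1 * A.φ z (opp k) 1 = lam := by
    intro k hk
    have hgen : ∀ k m : Fin w × Bool, z.1 ≠ k.1 → z.1 ≠ m.1 → k.1 ≠ m.1 →
        A.φ z k 1 * A.φ z (opp k) 1 = A.φ z m 1 * A.φ z (opp m) 1 := by
      intro k m hk hm hkm
      have e1 := A.K_mul hm hk (Ne.symm hkm)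
      have e2 := A.K_mul (k := z) (l := opp k) (m := opp m) (by simpa using hk) (by simpa using hm) (by simpa using hkm)
      rw [opp_opp, A.phi_symm (k := opp m) (l := k) (by simpa using Ne.symm hkm)] at e2
      rw [e1, e2]; ring
    by_cases hkm : k.1 = m₀.1
    · obtain ⟨i, hiz, him⟩ := S.exists_third z.1 m₀.1
      rw [hgen k (i, true) hk (Ne.symm hiz) (by rw [hkm]; exact Ne.symm him),
        hgen (i, true) m₀ (Ne.symm hiz) hzm him]
    · exact hgen k m₀ hk hzm hkm
  have hlam0 : lam ≠ 0 := mul_ne_zero (A.phi_one_ne hzm) (A.phi_one_ne (by simpa using hzm))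
  let c : Fin w × Bool → F := fun k => if k.1 = z.1 then (if k.2 then lam else 1) else A.φ z k 1
  have hcz : c z = lam := by simp [c, z]
  have hcz' : c (opp z) = 1 := by simp [c, z, opp]
  have hck : ∀ k : Fin w × Bool, z.1 ≠ k.1 → c k = A.φ z k 1 := fun k hk => if_neg (Ne.symm hk)
  refine ⟨c, lam, hlam0, fun k => ?_, fun k => ?_, ?_⟩
  · by_cases hk : k.1 = z.1
    · rcases eq_or_opp hk with rfl | rfl
      · rw [hcz]; exact hlam0
      · rw [hcz']; exact one_ne_zero
    · rw [hck k (Ne.symm hk)]; exact A.phi_one_ne (Ne.symm hk)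
  · by_cases hk : k.1 = z.1
    · rcases eq_or_opp hk with rfl | rfl
      · rw [hcz, hcz', mul_one]
      · rw [hcz', opp_opp, hcz, one_mul]
    · rw [hck k (Ne.symm hk), hck (opp k) (by simpa using Ne.symm hk), hlam k (Ne.symm hk)]
  have hz1 : ∀ l : Fin w × Bool, z.1 ≠ l.1 → A.φ (opp z) l 1 * lam = A.φ z l 1 := by
    intro l hl
    obtain ⟨i, hiz, hil⟩ := S.exists_third z.1 l.1
    have e := A.inv_pair (a := (i, true)) (b := l) (c := z) hil hiz (Ne.symm hl)
    rw [A.phi_symm (k := z) (l := opp l) (by simpa using hl)] at e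
    rw [← hlam l hl]
    linear_combination A.φ z l 1 * e
  intro k l hkl
  by_cases hk : k.1 = z.1
  · have hl : z.1 ≠ l.1 := by rw [← hk]; exact hkl
    rcases eq_or_opp hk with rfl | rfl
    · rw [hcz, hck l hl]; ring
    · rw [hcz', hck l hl, hz1 l hl, one_mul]
  by_cases hl : l.1 = z.1
  · have hk' : z.1 ≠ k.1 := Ne.symm hk
    rw [← A.phi_symm hkl]
    rcases eq_or_opp hl with rfl | rfl
    · rw [hcz, hck k hk']
    · rw [hcz', hck k hk', hz1 k hk', mul_one]
  rw [hck k (Ne.symm hk), hck l (Ne.symm hl), ← hlam k (Ne.symm hk)]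
  have e := A.K_mul (l := opp k) (m := l) (k := z) (by simpa using Ne.symm hk) (Ne.symm hl) (by simpa using hkl)
  rw [opp_opp] at e
  rw [e]; ring

/-- A semisimilarity inducing the automorphism. -/
theorem exists_semi : ∃ p : Semi Q, A.β = p.aut := by
  obtain ⟨σ, hσ⟩ := A.exists_field
  obtain ⟨c, lam, hlam0, hc0, hcopp, hcK⟩ := A.exists_scalars
  have hw := S.le
  set z : Fin w × Bool := (⟨0, by omega⟩, true)
  set d := lam / c z with hd
  have hd0 : d ≠ 0 := div_ne_zero hlam0 (hc0 z)
  have hT : ∀ (k l : Fin w × Bool), k.1 ≠ l.1 → ∀ a, S.Perp a →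
      A.T k a = (c k * c l / lam) • A.T (opp l) a := fun k l h a ha => by
    have := (A.T_mul h ha 1).1
    rw [one_smul] at this
    rw [this, ← hcK k l h, mul_div_assoc, div_self hlam0, mul_one]
  have hTk : ∀ k a, S.Perp a → A.T k a = (c k / c z) • A.T z a := by
    have hgen : ∀ k a, S.Perp a → k.1 ≠ z.1 → A.T k a = (c k / c z) • A.T z a := fun k a ha hk => by
      have e := hT k (opp z) (by simpa using hk) a ha
      rw [opp_opp] at e
      rw [e]
      congr 1
      have := hc0 z
      rw [← hcopp z]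
      field_simp [hc0 (opp z)]
    intro k a ha
    by_cases hk : k.1 = z.1
    · obtain ⟨i, hiz, -⟩ := S.exists_third z.1 z.1
      rw [hT k (i, true) (by rw [hk]; exact Ne.symm hiz) a ha, hgen (opp (i, true)) a ha (by simpa using hiz),
        smul_smul]
      congr 1
      rw [← hcopp (i, true)]
      field_simp [hc0 (i, true), hc0 (opp (i, true)), hc0 z]
    · exact hgen k a ha hk
  obtain ⟨y, hy⟩ : ∃ y : Fin w × Bool, z.1 ≠ y.1 := ⟨(⟨1, by omega⟩, true), by simp [z]⟩
  let τ : (ι → F) → (ι → F) := fun a => d • A.T z a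
  have hτadd : ∀ a b, S.Perp a → S.Perp b → τ (a + b) = τ a + τ b := fun a b ha hb => by
    simp only [τ, A.T_add z ha hb, smul_add]
  have hτsmul : ∀ t a, S.Perp a → τ (t • a) = σ t • τ a := fun t a ha => by
    simp only [τ]
    rw [(A.T_mul hy ha t).1, hσ z y hy, hT z y hy a ha, ← hcK z y hy, smul_smul, smul_smul, smul_smul]
    congr 1
    field_simp
  have hτQ : ∀ a, S.Perp a → Q (τ a) = lam * σ (Q a) := fun a ha => by
    show Q (d • A.T z a) = _
    rw [QuadraticMap.map_smul, A.Q_T ha hy, hσ z y hy, smul_eq_mul]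
    have e1 := hcK z y hy
    have e2 := hcK z (opp y) (by simpa using hy)
    have e3 : A.φ z (opp y) 1 * A.φ z y 1 * (lam * lam) = c z * c z * lam := by
      rw [show A.φ z (opp y) 1 * A.φ z y 1 * (lam * lam) = (A.φ z (opp y) 1 * lam) * (A.φ z y 1 * lam) by ring,
        e1, e2, ← hcopp y]
      ring
    have hdc : d * c z = lam := div_mul_cancel₀ _ (hc0 z)
    apply mul_right_cancel₀ (mul_ne_zero hlam0 hlam0)
    linear_combination d * d * σ (Q a) * e3 + lam * σ (Q a) * (d * c z + lam) * hdc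
  -- the semilinear map
  let R : (ι → F) → (ι → F) := fun v => τ (S.proj v) + ∑ k, (σ (polar Q v (S.x (opp k))) * c k) • S.x k
  have hproj_add : ∀ u v, S.proj (u + v) = S.proj u + S.proj v := fun u v => by
    simp only [Frame.proj, polar_add_left, add_smul, Finset.sum_add_distrib]; abel
  have hproj_smul : ∀ (t : F) v, S.proj (t • v) = t • S.proj v := fun t v => by
    simp only [Frame.proj, polar_smul_left, smul_sub, Finset.smul_sum, smul_smul, smul_eq_mul]
  have hRadd : ∀ u v, R (u + v) = R u + R v := fun u v => by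
    simp only [R, hproj_add, hτadd _ _ (S.perp_proj u) (S.perp_proj v), polar_add_left, map_add, add_mul,
      add_smul, Finset.sum_add_distrib]
    abel
  have hRsmul : ∀ t v, R (t • v) = σ t • R v := fun t v => by
    simp only [R, hproj_smul, hτsmul _ _ (S.perp_proj v), polar_smul_left, smul_eq_mul, map_mul, smul_add,
      Finset.smul_sum, smul_smul, mul_assoc]
  have hRperp : ∀ a, S.Perp a → R a = τ a := fun a ha => by simp [R, S.proj_of_perp ha, ha (opp _)]
  have hRframe : ∀ k, R (S.x k) = c k • S.x k := fun k => by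
    have hp : S.proj (S.x k) = 0 := by
      rw [Frame.proj, Finset.sum_eq_single k]
      · rw [S.pair_opp, one_smul, sub_self]
      · intro l _ hl; rw [S.pair_ne (fun e => hl (by simpa using congrArg opp e)), zero_smul]
      · simp
    have hτ0 : τ 0 = 0 := by simpa using hτsmul 0 0 S.perp_zero
    simp only [R, hp, hτ0, zero_add]
    rw [Finset.sum_eq_single k]
    · rw [S.pair_opp, map_one, one_mul]
    · intro l _ hl; rw [S.pair_ne (fun e => hl (by simpa using congrArg opp e)), map_zero, zero_mul, zero_smul]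
    · simp
  have hRpolar : ∀ (k : Fin w × Bool) v, polar Q (S.x k) (R v) = σ (polar Q (S.x k) v) * c (opp k) := fun k v => by
    have hperp : polar Q (S.x k) (τ (S.proj v)) = 0 := by
      rw [polar_comm, show τ (S.proj v) = d • A.T z (S.proj v) from rfl,
        S.perp_smul d (A.T_perp z (S.perp_proj v)) k]
    simp only [R]
    rw [polar_add_right, hperp, zero_add, polar_comm, S.polar_sum, opp_opp, polar_comm]
  have hRQ : ∀ v, Q (R v) = lam * σ (Q v) := by
    have key : ∀ (s : Finset (Fin w × Bool)) (a : ι → F) (t : Fin w × Bool → F), S.Perp a →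
        Q (R (a + ∑ k ∈ s, t k • S.x k)) = lam * σ (Q (a + ∑ k ∈ s, t k • S.x k)) := by
      intro s a t ha
      induction s using Finset.induction with
      | empty => simp [hRperp a ha, hτQ a ha]
      | insert k s hk ih =>
        rw [Finset.sum_insert hk, ← add_assoc, add_comm a (t k • S.x k), add_assoc,
          hRadd, hRsmul, hRframe, QuadraticMap.map_add ⇑Q, QuadraticMap.map_add ⇑Q (t k • S.x k), ih,
          QuadraticMap.map_smul, QuadraticMap.map_smul, QuadraticMap.map_smul, S.sing, polar_smul_left,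
          polar_smul_left, polar_smul_left, hRpolar]
        simp only [smul_eq_mul, mul_zero, zero_add, map_add, map_mul]
        linear_combination σ (t k) * σ (polar Q (S.x k) (a + ∑ i ∈ s, t i • S.x i)) * hcopp k
    intro v
    rw [S.decomp v]
    exact key _ _ _ (S.perp_proj v)
  -- as a matrix
  let G : (ι → F) →ₗ[F] (ι → F) :=
    { toFun := fun v => R (⇑σ.symm ∘ v)
      map_add' := fun u v => by
        rw [← hRadd]; congr 1; funext i; simp
      map_smul' := fun t v => by
        simp only [RingHom.id_apply]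
        conv_rhs => rw [← σ.apply_symm_apply t]
        rw [← hRsmul]; congr 1; funext i; simp }
  have hGinj : Function.Injective G := by
    rw [injective_iff_map_eq_zero]
    intro v hv
    have h0 : R (⇑σ.symm ∘ v) = 0 := hv
    set u := ⇑σ.symm ∘ v
    have hu : u = 0 := eq_zero_of_polar S.nondeg fun y => by
      have e : lam * σ (polar Q u y) = polar Q (R u) (R y) := by
        simp only [QuadraticMap.polar, map_sub, ← hRadd, hRQ]; ring
      rw [h0, polar_zero_left] at e
      simpa [hlam0] using e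
    funext i
    have := congrFun hu i
    simpa [u] using this
  let Ge : (ι → F) ≃ₗ[F] (ι → F) := LinearEquiv.ofInjectiveEndo G hGinj
  let g : GL ι F := ⟨LinearMap.toMatrix' G, LinearMap.toMatrix' Ge.symm.toLinearMap,
    by rw [← LinearMap.toMatrix'_comp, show G.comp Ge.symm.toLinearMap = LinearMap.id from
      LinearMap.ext fun v => Ge.apply_symm_apply v, LinearMap.toMatrix'_id],
    by rw [← LinearMap.toMatrix'_comp, show Ge.symm.toLinearMap.comp G = LinearMap.id from
      LinearMap.ext fun v => Ge.symm_apply_apply v, LinearMap.toMatrix'_id]⟩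
  have hap : ∀ v : ι → F, (g : Matrix ι ι F) *ᵥ (⇑σ ∘ v) = R v := fun v => by
    show LinearMap.toMatrix' G *ᵥ _ = _
    rw [LinearMap.toMatrix'_mulVec]
    show R (⇑σ.symm ∘ (⇑σ ∘ v)) = R v
    congr 1; funext i; simp
  let p : Semi Q :=
    { g := g, σ := σ, c := Units.mk0 lam hlam0,
      spec := fun v => by
        rw [show (fun i => σ (v i)) = ⇑σ ∘ v from rfl, hap, hRQ]; rfl }
  refine ⟨p, ?_⟩
  have hp : ∀ v, p.ap v = R v := hap
  -- agreement on generators
  have hgen : ∀ k a, polar Q (S.x k) a = 0 → A.β (S.rt (S.x k) a) = p.aut (S.rt (S.x k) a) := by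
    intro k a ha
    have hadd : ∀ b b', polar Q (S.x k) b = 0 → polar Q (S.x k) b' = 0 →
        A.β (S.rt (S.x k) b) = p.aut (S.rt (S.x k) b) → A.β (S.rt (S.x k) b') = p.aut (S.rt (S.x k) b') →
        A.β (S.rt (S.x k) (b + b')) = p.aut (S.rt (S.x k) (b + b')) := fun b b' h1 h2 e1 e2 => by
      rw [← S.rt_add (S.sing k) h1 h2, map_mul, map_mul, e1, e2]
    have hframe : ∀ (l : Fin w × Bool) (t : F), l ≠ opp k →
        A.β (S.rt (S.x k) (t • S.x l)) = p.aut (S.rt (S.x k) (t • S.x l)) := by
      intro l t hl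
      by_cases hkl : k.1 = l.1
      · rcases eq_or_opp hkl.symm with rfl | rfl
        · have h1 : S.rt (S.x l) (t • S.x l) = 1 := by
            rw [S.rt_congr (show eich Q (S.x l) (t • S.x l) = eich Q (S.x l) 0 by
              rw [eich_smul_self (S.sing l), eich_zero_right (S.sing l)]), S.rt_one (S.sing l)]
          rw [h1, map_one, map_one]
        · exact absurd rfl hl
      rw [A.spec k l hkl, Semi.aut_rt p S (S.sing k) (by rw [polar_smul_right, S.pair_fst hkl, smul_zero]),
        hp, hp, hRsmul, hRframe, hRframe]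
      refine S.rt_congr ?_
      rw [eich_smul_left (S.sing k) (by
        rw [Units.smul_def, polar_smul_right, polar_smul_right, polar_smul_right, S.pair_fst hkl]; simp)]
      congr 1
      rw [hσ k l hkl, Units.smul_def, smul_smul, smul_smul, smul_smul]
      congr 1
      show _ = c k * (((Units.mk0 lam hlam0)⁻¹ : Fˣ) : F) * σ t * c l
      rw [Units.val_inv_eq_inv_val, Units.val_mk0]
      have := hcK k l hkl
      field_simp
      linear_combination σ t * this
    have hperp : ∀ b, S.Perp b → A.β (S.rt (S.x k) b) = p.aut (S.rt (S.x k) b) := by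
      intro b hb
      rw [(A.T_spec k hb).2.2, Semi.aut_rt p S (S.sing k) (by rw [polar_comm, hb k]), hp, hp,
        hRframe, hRperp b hb]
      refine S.rt_congr ?_
      rw [eich_smul_left (S.sing k) (by
        rw [Units.smul_def, polar_smul_right, show τ b = d • A.T z b from rfl, polar_comm,
          S.perp_smul d (A.T_perp z hb) k, smul_zero])]
      congr 1
      rw [hTk k b hb, Units.smul_def, show τ b = d • A.T z b from rfl, smul_smul, smul_smul]
      congr 1
      show _ = c k * (((Units.mk0 lam hlam0)⁻¹ : Fˣ) : F) * d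
      rw [Units.val_inv_eq_inv_val, Units.val_mk0, hd]
      field_simp
    suffices ∀ s : Finset (Fin w × Bool),
        polar Q (S.x k) (∑ l ∈ s, polar Q a (S.x (opp l)) • S.x l) = 0 ∧
        A.β (S.rt (S.x k) (∑ l ∈ s, polar Q a (S.x (opp l)) • S.x l)) =
          p.aut (S.rt (S.x k) (∑ l ∈ s, polar Q a (S.x (opp l)) • S.x l)) by
      rw [S.decomp a]
      exact hadd _ _ (by rw [polar_comm, S.perp_proj]) (this _).1 (hperp _ (S.perp_proj a)) (this _).2
    intro s
    induction s using Finset.induction with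
    | empty => rw [Finset.sum_empty, polar_zero_right, S.rt_one (S.sing k), map_one, map_one]
               exact ⟨rfl, rfl⟩
    | insert l s hl ih =>
      rw [Finset.sum_insert hl]
      by_cases hlk : l = opp k
      · rw [hlk, opp_opp, polar_comm (f := ⇑Q) a, ha, zero_smul, zero_add]; exact ih
      · have e : polar Q (S.x k) (polar Q a (S.x (opp l)) • S.x l) = 0 := by
          rw [polar_smul_right, S.pair_ne hlk, smul_zero]
        exact ⟨by rw [polar_add_right, e, ih.1, add_zero], hadd _ _ e ih.1 (hframe l _ hlk) ih.2⟩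
  refine MulEquiv.ext fun x => ?_
  obtain ⟨s, rfl⟩ := QuotientGroup.mk_surjective x
  let H : Subgroup (Om Q) := MonoidHom.eqLocus (A.β.toMonoidHom.comp (QuotientGroup.mk' _))
    (p.aut.toMonoidHom.comp (QuotientGroup.mk' _))
  suffices hs : s.1 ∈ H.map (Cfsg.Omega F ⇑Q).subtype by
    obtain ⟨s', hs', he⟩ := hs
    obtain rfl : s' = s := Subtype.ext he
    exact hs'
  refine (Subgroup.closure_le _).2 ?_ (S.omega_le_closure s.2)
  rintro _ ⟨k, a, ha, rfl⟩
  exact ⟨S.om (S.x k) a, hgen k a ha, rfl⟩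

end Fixing

namespace Frame

variable (S : Frame Q w)
include S

/-- An automorphism mapping the lines through each frame point to concurrent lines is induced by a
semisimilarity. -/
theorem mem_gamma_of_points (β : MulAut (PG Q))
    (hpt : ∀ k : Fin w × Bool, ∃ P, P ≠ 0 ∧ ∀ l : Fin w × Bool, k.1 ≠ l.1 → P ∈ S.img β (S.fl k l)) :
    β ∈ Cfsg.gammaPOmega F ⇑Q := by
  obtain ⟨g, hg⟩ := S.exists_fix β hpt
  classical
  let A : Fixing S :=
    { β := (Semi.ofO g).aut⁻¹ * β
      φ := fun k l t => if h : k.1 ≠ l.1 then (hg k l h t).choose else 0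
      spec := fun k l h t => by
        simp only [dif_pos h]
        exact (hg k l h t).choose_spec }
  obtain ⟨p, hp⟩ := A.exists_semi
  have e : β = (Semi.ofO g).aut * p.aut := by rw [← hp]; exact (mul_inv_cancel_left _ _).symm
  rw [e]
  exact mul_mem (Semi.aut_mem_gamma _) (Semi.aut_mem_gamma _)

/-- Every automorphism is induced by a semisimilarity; the automorphisms so induced form all of them. -/
theorem gamma_eq_top (hx : S.Roomy) : Cfsg.gammaPOmega F ⇑Q = ⊤ := by
  rw [Subgroup.eq_top_iff']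
  exact fun β => S.mem_gamma_of_points β fun k => S.exists_point β hx k

end Frame

end CfsgLib.AutPOmega
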