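/-
Frames of the standard quadratic forms.
-/
import Cfsg.Agent.Lib.AutPOmega.Structure
import Cfsg.Agent.Lib.Orth.NegOne
import Cfsg.Agent.Helper57Spinor

set_option autoImplicit false
set_option linter.unusedSectionVars false

namespace CfsgLib.AutPOmega

open Matrix QuadraticMap CfsgLib.Orth

variable {F : Type*} [Field F]

/-- the coordinate of a frame index -/
def hypIdx {m : ℕ} (k : Fin m × Bool) : Fin m ⊕ Fin m := if k.2 then .inl k.1 else .inr k.1

theorem pair_hyp {m : ℕ} (k l : Fin m × Bool) :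
    ∑ i, ((Pi.single (hypIdx k) 1 : Fin m ⊕ Fin m → F) (.inl i) * (Pi.single (hypIdx l) 1 : Fin m ⊕ Fin m → F) (.inr i) +
      (Pi.single (hypIdx k) 1 : Fin m ⊕ Fin m → F) (.inr i) * (Pi.single (hypIdx l) 1 : Fin m ⊕ Fin m → F) (.inl i)) =
    if l = opp k then 1 else 0 := by
  obtain ⟨i, b⟩ := k; obtain ⟨j, c⟩ := l
  cases b <;> cases c <;> simp [hypIdx, opp, Pi.single_apply, Finset.sum_add_distrib, eq_comm]

theorem hyp_single_mul {m : ℕ} (k : Fin m × Bool) (i : Fin m) :
    (Pi.single (hypIdx k) 1 : Fin m ⊕ Fin m → F) (.inl i) * (Pi.single (hypIdx k) 1 : Fin m ⊕ Fin m → F) (.inr i) = 0 := by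
  obtain ⟨j, b⟩ := k
  cases b <;> simp [hypIdx, Pi.single_apply]

/-- the frame of the plus-type form -/
noncomputable def plusFrame (F : Type*) [Field F] (m : ℕ) (hm : 4 ≤ m) : Frame (plusQ m F) m where
  x k := Pi.single (hypIdx k) 1
  sing k := by
    rw [plusQ_coe, Cfsg.quadFormPlus]
    exact Finset.sum_eq_zero fun i _ => hyp_single_mul k i
  pair k l := by rw [polar_plusQ]; exact pair_hyp k l
  nondeg := plusQ_nondegenerate m
  aniso a ha _ := funext fun j => by
    rcases j with i | i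
    · have := ha (i, false)
      simpa [polar_plusQ, hypIdx, Pi.single_apply, Finset.sum_add_distrib] using this
    · have := ha (i, true)
      simpa [polar_plusQ, hypIdx, Pi.single_apply, Finset.sum_add_distrib] using this
  le := by omega
  extra := Or.inl hm

theorem plusFrame_roomy (F : Type*) [Field F] (m : ℕ) (hm : 5 ≤ m) :
    (plusFrame F m (by omega)).Roomy := Or.inl hm

/-- the frame of the odd-dimensional form -/
noncomputable def oddFrame (F : Type*) [Field F] [Fintype F] (h2 : (2 : F) ≠ 0) (m : ℕ) (hm : 3 ≤ m) :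
    Frame (Cfsg.Agent.Spinor57.qOdd m F) m where
  x k := Pi.single (Sum.inr (hypIdx k)) 1
  sing k := by
    obtain ⟨j, b⟩ := k
    rw [Cfsg.Agent.Spinor57.qOdd_coe]
    cases b <;> simp [Cfsg.quadFormOdd, hypIdx, Pi.single_apply]
  pair k l := by
    obtain ⟨i, b⟩ := k; obtain ⟨j, c⟩ := l
    rw [Cfsg.Agent.Spinor57.polar_qOdd]
    cases b <;> cases c <;>
      simp [hypIdx, opp, Pi.single_apply, Finset.sum_add_distrib, eq_comm]
  nondeg := Cfsg.Agent.Spinor57.qOdd_nondegenerate h2
  aniso a ha hQ := by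
    have h1 : ∀ i, a (Sum.inr (Sum.inl i)) = 0 := fun i => by
      have := ha (i, false)
      simpa [Cfsg.Agent.Spinor57.polar_qOdd, hypIdx, Pi.single_apply, Finset.sum_add_distrib] using this
    have h3 : ∀ i, a (Sum.inr (Sum.inr i)) = 0 := fun i => by
      have := ha (i, true)
      simpa [Cfsg.Agent.Spinor57.polar_qOdd, hypIdx, Pi.single_apply, Finset.sum_add_distrib] using this
    rw [Cfsg.Agent.Spinor57.qOdd_coe] at hQ
    simp [Cfsg.quadFormOdd, h1, h3] at hQ
    funext j
    rcases j with u | i | i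
    · exact hQ
    · exact h1 i
    · exact h3 i
  le := hm
  extra := Or.inr ⟨Pi.single (Sum.inl ()) 1, by simp, fun k => by
    obtain ⟨j, b⟩ := k
    rw [Cfsg.Agent.Spinor57.polar_qOdd]
    cases b <;> simp [hypIdx, Pi.single_apply]⟩

theorem oddFrame_roomy (F : Type*) [Field F] [Fintype F] (h2 : (2 : F) ≠ 0) (m : ℕ) (hm : 3 ≤ m) :
    (oddFrame F h2 m hm).Roomy := Or.inr ⟨Pi.single (Sum.inl ()) 1, by simp, fun k => by
  obtain ⟨j, b⟩ := k
  rw [Cfsg.Agent.Spinor57.polar_qOdd]
  cases b <;> simp [oddFrame, hypIdx, Pi.single_apply]⟩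

theorem minus_nondeg [Finite F] {m : ℕ} {a b : F}
    (hab : ∀ z₁ z₂ : F, z₁ ^ 2 + a * z₁ * z₂ + b * z₂ ^ 2 = 0 → z₁ = 0 ∧ z₂ = 0) :
    (minusQ m F a b).polarBilin.Nondegenerate := by
  have key : ∀ x, (∀ y, polar (minusQ m F a b) x y = 0) → x = 0 := by
    intro x hx
    have h1 : ∀ i, x (.inl (.inl i)) = 0 := fun i => by
      have := hx (Pi.single (.inl (.inr i)) 1)
      simpa [polar_minusQ, Pi.single_apply, Finset.sum_add_distrib] using this
    have h2 : ∀ i, x (.inl (.inr i)) = 0 := fun i => by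
      have := hx (Pi.single (.inl (.inl i)) 1)
      simpa [polar_minusQ, Pi.single_apply, Finset.sum_add_distrib] using this
    have e0 : 2 * x (.inr 0) + a * x (.inr 1) = 0 := by
      have := hx (Pi.single (.inr 0) 1)
      simpa [polar_minusQ, Pi.single_apply] using this
    have e1 : a * x (.inr 0) + 2 * b * x (.inr 1) = 0 := by
      have := hx (Pi.single (.inr 1) 1)
      simpa [polar_minusQ, Pi.single_apply] using this
    have hz : x (.inr 0) = 0 ∧ x (.inr 1) = 0 := by
      by_cases htwo : (2 : F) = 0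
      · have ha : a ≠ 0 := fun e => by
          have : CharP F 2 := CharTwo.of_one_ne_zero_of_two_eq_zero one_ne_zero htwo
          have := Fintype.ofFinite F
          obtain ⟨s, hs⟩ := FiniteField.isSquare_of_char_two (ringChar.eq_iff.2 inferInstance) b
          exact one_ne_zero (hab s 1 (by rw [e, hs]; linear_combination (s * s) * htwo)).2
        simp [htwo, ha] at e0 e1
        exact ⟨e1, e0⟩
      · exact hab _ _ (mul_left_cancel₀ htwo (by linear_combination x (.inr 0) * e0 + x (.inr 1) * e1))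
    funext j
    rcases j with (i | i) | i
    · exact h1 i
    · exact h2 i
    · fin_cases i
      · exact hz.1
      · exact hz.2
  exact ⟨key, fun y hy => key y fun x => by rw [polar_comm]; exact hy x⟩

/-- the frame of the minus-type form -/
noncomputable def minusFrame [Finite F] (m : ℕ) (hm : 3 ≤ m) (a b : F)
    (hab : ∀ z₁ z₂ : F, z₁ ^ 2 + a * z₁ * z₂ + b * z₂ ^ 2 = 0 → z₁ = 0 ∧ z₂ = 0) :
    Frame (minusQ m F a b) m where
  x k := Pi.single (Sum.inl (hypIdx k)) 1
  sing k := by
    obtain ⟨j, c⟩ := k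
    rw [minusQ_coe]
    cases c <;> simp [Cfsg.quadFormMinus, hypIdx, Pi.single_apply]
  pair k l := by
    obtain ⟨i, c⟩ := k; obtain ⟨j, d⟩ := l
    rw [polar_minusQ]
    cases c <;> cases d <;>
      simp [hypIdx, opp, Pi.single_apply, Finset.sum_add_distrib, eq_comm]
  nondeg := minus_nondeg hab
  aniso v hv hQ := by
    have h1 : ∀ i, v (.inl (.inl i)) = 0 := fun i => by
      have := hv (i, false)
      simpa [polar_minusQ, hypIdx, Pi.single_apply, Finset.sum_add_distrib] using this
    have h2 : ∀ i, v (.inl (.inr i)) = 0 := fun i => by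
      have := hv (i, true)
      simpa [polar_minusQ, hypIdx, Pi.single_apply, Finset.sum_add_distrib] using this
    rw [minusQ_coe] at hQ
    simp [Cfsg.quadFormMinus, h1, h2] at hQ
    obtain ⟨z0, z1⟩ := hab _ _ hQ
    funext j
    rcases j with (i | i) | i
    · exact h1 i
    · exact h2 i
    · fin_cases i
      · exact z0
      · exact z1
  le := hm
  extra := Or.inr ⟨Pi.single (Sum.inr 0) 1, by simp, fun k => by
    obtain ⟨j, c⟩ := k
    rw [polar_minusQ]
    cases c <;> simp [hypIdx, Pi.single_apply]⟩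

theorem minusFrame_roomy [Finite F] (m : ℕ) (hm : 3 ≤ m) (a b : F)
    (hab : ∀ z₁ z₂ : F, z₁ ^ 2 + a * z₁ * z₂ + b * z₂ ^ 2 = 0 → z₁ = 0 ∧ z₂ = 0) :
    (minusFrame m hm a b hab).Roomy := Or.inr ⟨Pi.single (Sum.inr 0) 1, by simp, fun k => by
  obtain ⟨j, c⟩ := k
  rw [polar_minusQ]
  cases c <;> simp [minusFrame, hypIdx, Pi.single_apply]⟩

end CfsgLib.AutPOmega
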