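import Cfsg.Agent.Lib.AutPSL.FieldGalois

/-!
Squares of the fixed field of a field automorphism.
-/

set_option autoImplicit false

namespace CfsgLib.FieldPOmega

open CfsgLib.FieldGalois

variable {F : Type*} [Field F] {F₀ : Type*} [Field F₀]

theorem exists_fixed_hom [Fintype F] [Fintype F₀] {p f : ℕ} [Fact p.Prime]
    (hF : Fintype.card F = p ^ f) (σ : F ≃+* F) (hF₀ : Fintype.card F₀ = p ^ (f / orderOf σ)) :
    ∃ e : F₀ →+* F, ∀ y, σ y = y ↔ ∃ a, e a = y := by
  have := Fintype.ofFinite (fixedSub σ)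
  have hcard : Fintype.card F₀ = Fintype.card (fixedSub σ) := by
    rw [hF₀, ← card_fixed_of_orderOf hF σ, Nat.card_eq_fintype_card]
  let e := FiniteField.ringEquivOfCardEq hcard
  exact ⟨(fixedSub σ).subtype.comp e.toRingHom, fun y =>
    ⟨fun h => ⟨e.symm ⟨y, h⟩, by simp⟩, fun ⟨a, ha⟩ => ha ▸ (e a).2⟩⟩

variable {σ : F ≃+* F} {e : F₀ →+* F}

theorem isSquare_of_odd (h2 : (2 : F) ≠ 0) (he : ∀ y, σ y = y ↔ ∃ a, e a = y)
    (hr : Odd (orderOf σ)) {a : F₀} (ha : IsSquare (e a)) : IsSquare a := by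
  obtain ⟨t, ht⟩ := ha
  have hs : σ t * σ t = t * t := by rw [← map_mul, ← ht]; exact (he _).2 ⟨a, rfl⟩
  rcases mul_self_eq_mul_self_iff.1 hs with h | h
  · obtain ⟨b, hb⟩ := (he t).1 h
    exact ⟨b, e.injective (by rw [map_mul, hb, ht])⟩
  · have hk : ∀ k : ℕ, (σ ^ k) t = (-1) ^ k * t := by
      intro k
      induction k with
      | zero => simp
      | succ k ih =>
        rw [pow_succ, RingAut.mul_apply, h, map_neg, ih, pow_succ]
        ring
    have h1 := hk (orderOf σ)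
    rw [pow_orderOf_eq_one, hr.neg_one_pow, neg_one_mul] at h1
    have h0 : (2 : F) * t = 0 := by
      rw [show (1 : F ≃+* F) t = t from rfl] at h1
      linear_combination h1
    rw [(mul_eq_zero.1 h0).resolve_left h2, mul_zero] at ht
    rw [(map_eq_zero e).1 ht]
    exact IsSquare.zero

theorem isSquare_of_two [Fintype F] (h2 : (2 : F) ≠ 0) (he : ∀ y, σ y = y ↔ ∃ a, e a = y)
    (hr : orderOf σ = 2) (a : F₀) : IsSquare (e a) := by
  rcases eq_or_ne (e a) 0 with h0 | h0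
  · rw [h0]; exact IsSquare.zero
  obtain ⟨x, hx⟩ := exists_norm_eq σ (c := Units.mk0 (e a) h0) ((he _).2 ⟨a, rfl⟩)
  rw [FiniteField.isSquare_iff (fun h => h2 (by
    have := ringChar.spec F 2
    rw [h] at this
    exact_mod_cast this.2 dvd_rfl)) h0]
  set q := Nat.card (fixedSub σ)
  have hq : Fintype.card F = q ^ 2 := by
    rw [← Nat.card_eq_fintype_card, natCard_fixedSub σ, hr]
  have hpow : e a ^ (q - 1) = 1 := by
    have hmem : Units.mk0 (e a) h0 ∈ fixedUnits σ := mem_fixedUnits.2 ((he _).2 ⟨a, rfl⟩)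
    have h1 := pow_card_eq_one' (G := fixedUnits σ) (x := ⟨_, hmem⟩)
    rw [card_fixedUnits] at h1
    exact congrArg (fun u : fixedUnits σ => ((u : Fˣ) : F)) h1
  have hodd : Odd (Fintype.card F) := Nat.odd_iff.2 (FiniteField.odd_card_of_char_ne_two (fun h => h2 (by
    have := ringChar.spec F 2
    rw [h] at this
    exact_mod_cast this.2 dvd_rfl)))
  rw [hq] at hodd ⊢
  have hqodd : Odd q := (Nat.odd_pow_iff two_ne_zero).1 hodd
  obtain ⟨j, hj⟩ := hqodd
  have e1 : q ^ 2 / 2 = (q - 1) * (j + 1) := by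
    rw [hj, show (2 * j + 1) ^ 2 = 2 * ((2 * j + 1 - 1) * (j + 1)) + 1 by
      rw [Nat.add_sub_cancel]; ring]
    omega
  rw [e1, pow_mul, hpow, one_pow]

end CfsgLib.FieldPOmega
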