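import Cfsg.Agent.Lib.AutPOmega.FieldBase

/-!
Transport of `PΩ` and of its semisimilarity automorphisms along an isometry of forms, and generic
transport of centralizers and class counts along an isomorphism.
-/

set_option autoImplicit false
set_option linter.unusedSectionVars false

namespace CfsgLib.FieldPOmega

open Matrix QuadraticMap CfsgLib.Orth Cfsg.Agent.GammaO57

section Group

variable {G G' : Type*} [Group G] [Group G'] (e : G ≃* G')

theorem map_commutator_top : (commutator G).map e.toMonoidHom = commutator G' := by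
  rw [_root_.commutator_def, Subgroup.map_commutator, Subgroup.map_top_of_surjective _ e.surjective,
    _root_.commutator_def]

/-- An isomorphism on commutator subgroups. -/
noncomputable def commEquiv : ↥(commutator G) ≃* ↥(commutator G') :=
  (e.subgroupMap (commutator G)).trans (MulEquiv.subgroupCongr (map_commutator_top e))

theorem commEquiv_coe (s : ↥(commutator G)) : ((commEquiv e s : ↥(commutator G')) : G') = e s := rfl

theorem map_center_top : (Subgroup.center G).map e.toMonoidHom = Subgroup.center G' := by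
  ext y
  constructor
  · rintro ⟨x, hx, rfl⟩
    refine Subgroup.mem_center_iff.2 fun g => ?_
    obtain ⟨h, rfl⟩ := e.surjective g
    show e h * e x = e x * e h
    rw [← map_mul, ← map_mul, Subgroup.mem_center_iff.1 hx h]
  · intro hy
    obtain ⟨x, rfl⟩ := e.surjective y
    refine ⟨x, Subgroup.mem_center_iff.2 fun h => e.injective ?_, rfl⟩
    rw [map_mul, map_mul]
    exact Subgroup.mem_center_iff.1 hy (e h)

end Group

section Transport

variable {F : Type*} [Field F] {ι : Type} [Fintype ι] [DecidableEq ι]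
  {Q Q' : QuadraticForm F (ι → F)} {T : GL ι F}
  (hT : ∀ v, Q' ((T : Matrix ι ι F) *ᵥ v) = Q v)

include hT in
theorem inv_isometry (v : ι → F) : Q (((T⁻¹ : GL ι F) : Matrix ι ι F) *ᵥ v) = Q' v := by
  rw [← hT, mulVec_mulVec, ← Units.val_mul, mul_inv_cancel, Units.val_one, one_mulVec]

include hT in
theorem conj_mem_O {g : GL ι F} (hg : g ∈ O Q) : T * g * T⁻¹ ∈ O Q' := by
  rw [mem_O_iff] at hg ⊢
  intro v
  rw [Units.val_mul, Units.val_mul, ← mulVec_mulVec, ← mulVec_mulVec, hT, hg, inv_isometry hT]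

include hT in
theorem conj_inv_mem_O {g : GL ι F} (hg : g ∈ O Q') : T⁻¹ * g * T ∈ O Q := by
  rw [mem_O_iff] at hg ⊢
  intro v
  rw [Units.val_mul, Units.val_mul, ← mulVec_mulVec, ← mulVec_mulVec, inv_isometry hT, hg, hT]

/-- Conjugation of isometry groups. -/
def isoO : O Q ≃* O Q' where
  toFun g := ⟨T * (g : GL ι F) * T⁻¹, conj_mem_O hT g.2⟩
  invFun g := ⟨T⁻¹ * (g : GL ι F) * T, conj_inv_mem_O hT g.2⟩
  left_inv g := Subtype.ext (by show T⁻¹ * (T * (g : GL ι F) * T⁻¹) * T = g; group)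
  right_inv g := Subtype.ext (by show T * (T⁻¹ * (g : GL ι F) * T) * T⁻¹ = g; group)
  map_mul' g h := Subtype.ext (by
    show T * ((g : GL ι F) * h) * T⁻¹ = T * g * T⁻¹ * (T * h * T⁻¹)
    group)

/-- `PΩ` of isometric forms. -/
noncomputable def isoPOmega : Cfsg.POmega F ⇑Q ≃* Cfsg.POmega F ⇑Q' :=
  QuotientGroup.congr _ _ (commEquiv (isoO hT)) (map_center_top _)

theorem isoPOmega_mk (s : ↥(Cfsg.Omega F ⇑Q)) :
    isoPOmega hT (QuotientGroup.mk s) = QuotientGroup.mk (commEquiv (isoO hT) s) := rfl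

include hT in
theorem conj_semi_mem {x : GLS ι F} (hx : x ∈ semiGroup Q) :
    SemidirectProduct.inl T * x * (SemidirectProduct.inl T)⁻¹ ∈ semiGroup Q' := by
  obtain ⟨c, hc⟩ := hx
  refine ⟨c, fun v => ?_⟩
  have e1 : ∀ (g : GL ι F) (w : ι → F), Cfsg.Agent.GammaO57.semi (SemidirectProduct.inl g : GLS ι F) w =
      (g : Matrix ι ι F) *ᵥ w := fun g w => rfl
  rw [semi_mul, semi_mul, ← map_inv, e1, e1, hT, hc, inv_isometry hT]
  simp

/-- Conjugation of semisimilarities. -/
def conjSemi (x : ↥(semiGroup Q)) : ↥(semiGroup Q') := ⟨_, conj_semi_mem hT x.2⟩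

theorem conjSemi_left (x : ↥(semiGroup Q)) :
    (conjSemi hT x).1.left = T * x.1.left * glAut ι F x.1.right T⁻¹ := by
  show (SemidirectProduct.inl T * x.1 * (SemidirectProduct.inl T)⁻¹).left = _
  rw [SemidirectProduct.mul_left, SemidirectProduct.mul_left, SemidirectProduct.mul_right,
    SemidirectProduct.inv_left, SemidirectProduct.left_inl, SemidirectProduct.right_inl]
  simp

theorem conjSemi_right (x : ↥(semiGroup Q)) : (conjSemi hT x).1.right = x.1.right := by
  simp [conjSemi]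

theorem congr_gAut (x : ↥(semiGroup Q)) :
    MulAut.congr (isoPOmega hT) (gAut Q x) = gAut Q' (conjSemi hT x) := by
  apply MulEquiv.ext
  intro y
  obtain ⟨y', rfl⟩ := (isoPOmega hT).surjective y
  induction y' using QuotientGroup.induction_on with
  | _ s =>
    show isoPOmega hT (gAut Q x ((isoPOmega hT).symm (isoPOmega hT (QuotientGroup.mk s)))) = _
    rw [MulEquiv.symm_apply_apply, gAut_mk, isoPOmega_mk, isoPOmega_mk, gAut_mk]
    refine congrArg _ (Subtype.ext (Subtype.ext ?_))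
    show T * (x.1.left * glAut ι F x.1.right ((s : O Q) : GL ι F) * x.1.left⁻¹) * T⁻¹ =
      (conjSemi hT x).1.left * glAut ι F (conjSemi hT x).1.right (T * ((s : O Q) : GL ι F) * T⁻¹) *
        ((conjSemi hT x).1.left)⁻¹
    rw [conjSemi_left, conjSemi_right, map_mul, map_mul, map_inv]
    group

end Transport

section Iso

variable {X Y : Type*} [Group X] [Group Y] (Φ : X ≃* Y)

theorem isConjUnder_iso {H : Subgroup X} {x y : X} :
    Cfsg.IsConjUnder (H.map Φ.toMonoidHom) (Φ x) (Φ y) ↔ Cfsg.IsConjUnder H x y := by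
  constructor
  · rintro ⟨_, ⟨h, hh, rfl⟩, e⟩
    refine ⟨h, hh, Φ.injective ?_⟩
    rw [map_mul, map_mul, map_inv]
    exact e
  · rintro ⟨h, hh, rfl⟩
    exact ⟨Φ h, ⟨h, hh, rfl⟩, by rw [map_mul, map_mul, map_inv]⟩

theorem splitClassCount_iso {H K : Subgroup X} (x : X) :
    Cfsg.splitClassCount (H.map Φ.toMonoidHom) (K.map Φ.toMonoidHom) (Φ x) =
      Cfsg.splitClassCount H K x := by
  unfold Cfsg.splitClassCount
  let E : {y : X // Cfsg.IsConjUnder H x y} ≃ {y : Y // Cfsg.IsConjUnder (H.map Φ.toMonoidHom) (Φ x) y} :=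
    Equiv.subtypeEquiv Φ.toEquiv fun y => (isConjUnder_iso Φ).symm
  exact (Nat.card_congr (Quot.congr E fun y z => (isConjUnder_iso Φ (H := K)).symm)).symm

theorem nonempty_centralizer_iso {H : Subgroup X} (x : X) :
    Nonempty (↥(H ⊓ Subgroup.centralizer {x}) ≃*
      ↥(H.map Φ.toMonoidHom ⊓ Subgroup.centralizer {Φ x})) := by
  have e : (H ⊓ Subgroup.centralizer {x}).map Φ.toMonoidHom =
      H.map Φ.toMonoidHom ⊓ Subgroup.centralizer {Φ x} := by
    ext y
    constructor
    · rintro ⟨g, hg, rfl⟩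
      refine ⟨⟨g, hg.1, rfl⟩, Subgroup.mem_centralizer_singleton_iff.2 ?_⟩
      show Φ g * Φ x = Φ x * Φ g
      rw [← map_mul, ← map_mul, Subgroup.mem_centralizer_singleton_iff.1 hg.2]
    · rintro ⟨⟨g, hg, rfl⟩, h2⟩
      refine ⟨g, ⟨hg, Subgroup.mem_centralizer_singleton_iff.2 (Φ.injective ?_)⟩, rfl⟩
      rw [map_mul, map_mul]
      exact Subgroup.mem_centralizer_singleton_iff.1 h2
  exact ⟨((H ⊓ Subgroup.centralizer {x}).equivMapOfInjective _ Φ.injective).trans
    (MulEquiv.subgroupCongr e)⟩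

theorem map_inn {A B : Type*} [Group A] [Group B] (ψ : A ≃* B) :
    (Cfsg.Inn A).map (MulAut.congr ψ).toMonoidHom = Cfsg.Inn B := by
  ext β
  constructor
  · rintro ⟨_, ⟨a, rfl⟩, rfl⟩
    exact ⟨ψ a, MulEquiv.ext fun b => by
      show ψ a * b * (ψ a)⁻¹ = ψ (a * ψ.symm b * a⁻¹)
      simp⟩
  · rintro ⟨b, rfl⟩
    refine ⟨MulAut.conj (ψ.symm b), ⟨_, rfl⟩, MulEquiv.ext fun c => ?_⟩
    show ψ (ψ.symm b * ψ.symm c * (ψ.symm b)⁻¹) = b * c * b⁻¹
    simp

end Iso

end CfsgLib.FieldPOmega
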