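import Cfsg.Agent.Lib.AutPOmega.MinusProper
import Cfsg.Agent.Lib.AutPOmega.FieldSquares
import Cfsg.Agent.Lib.AutPOmega.FormTransport
import Cfsg.Agent.Lib.AutPSp.Transport
import Cfsg.Agent.Lib.AutPSL.Split

/-!
Field automorphisms of `PΩ⁻`: the coset `Inndiag·φ`, the centralizer of `φ`, and the class of `φ`.
-/

set_option autoImplicit false
set_option linter.unusedSectionVars false

namespace CfsgLib.FieldPOmega

open Matrix QuadraticMap CfsgLib.Orth Cfsg.Agent.GammaO57 CfsgLib.FieldGalois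

/-- The Witt index of a minus-type form, in any characteristic. -/
theorem minus_ts_le {F : Type*} [Field F] {a b : F} (hab : Aniso a b) (k : ℕ)
    (U : Submodule F ((Fin k ⊕ Fin k) ⊕ Fin 2 → F)) (hU : ∀ u ∈ U, minusQ k F a b u = 0) :
    Module.finrank F U ≤ k := by
  let πy : ((Fin k ⊕ Fin k) ⊕ Fin 2 → F) →ₗ[F] (Fin k → F) := LinearMap.funLeft F F fun i => Sum.inl (Sum.inr i)
  let πx : ((Fin k ⊕ Fin k) ⊕ Fin 2 → F) →ₗ[F] (Fin k → F) := LinearMap.funLeft F F fun i => Sum.inl (Sum.inl i)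
  let K := LinearMap.ker (πy.comp U.subtype)
  have hK : ∀ u : K, ((u : U) : (Fin k ⊕ Fin k) ⊕ Fin 2 → F) (Sum.inr 0) = 0 ∧
      ((u : U) : (Fin k ⊕ Fin k) ⊕ Fin 2 → F) (Sum.inr 1) = 0 := by
    intro u
    have hy : ∀ i, ((u : U) : (Fin k ⊕ Fin k) ⊕ Fin 2 → F) (Sum.inl (Sum.inr i)) = 0 := fun i =>
      congrFun (LinearMap.mem_ker.1 u.2) i
    have h := hU _ (u : U).2
    rw [minusQ_coe, Cfsg.quadFormMinus, Finset.sum_eq_zero (fun i _ => by rw [hy i, mul_zero]), zero_add] at h
    exact hab _ _ h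
  let ψ : K →ₗ[F] (Fin k → F) := (πx.comp U.subtype).comp K.subtype
  have hψ : Function.Injective ψ := by
    rw [injective_iff_map_eq_zero]
    intro u hu
    refine Subtype.ext (Subtype.ext (funext fun i => ?_))
    rcases i with (i | i) | i
    · exact congrFun hu i
    · exact congrFun (LinearMap.mem_ker.1 u.2) i
    · fin_cases i
      exacts [(hK u).1, (hK u).2]
  have h1 := (πy.comp U.subtype).finrank_range_add_finrank_ker
  have h3 : Module.finrank F (LinearMap.range ψ) = Module.finrank F K := LinearMap.finrank_range_of_inj hψ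
  -- the two ranges annihilate each other
  let dp : LinearMap.BilinForm F (Fin k → F) := Matrix.toBilin' (1 : Matrix (Fin k) (Fin k) F)
  have hdp : ∀ x y, dp x y = x ⬝ᵥ y := fun x y => by simp [dp, Matrix.toBilin'_apply']
  have hle : LinearMap.range (πy.comp U.subtype) ≤ dp.orthogonal (LinearMap.range ψ) := by
    rintro _ ⟨v, rfl⟩ _ ⟨u, rfl⟩
    show dp (ψ u) (πy (v : (Fin k ⊕ Fin k) ⊕ Fin 2 → F)) = 0
    rw [hdp]
    have h : polar (minusQ k F a b) ((u : U) : (Fin k ⊕ Fin k) ⊕ Fin 2 → F) (v : (Fin k ⊕ Fin k) ⊕ Fin 2 → F) = 0 := by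
      simp [QuadraticMap.polar, hU _ (u : U).2, hU _ v.2, hU _ (U.add_mem (u : U).2 v.2)]
    rw [polar_minusQ, (hK u).1, (hK u).2] at h
    simp only [mul_zero, zero_mul, add_zero] at h
    rw [← h]
    refine Finset.sum_congr rfl fun i _ => ?_
    rw [show ((u : U) : (Fin k ⊕ Fin k) ⊕ Fin 2 → F) (Sum.inl (Sum.inr i)) = 0 from congrFun (LinearMap.mem_ker.1 u.2) i,
      zero_mul, add_zero]
    rfl
  have h4 := Submodule.finrank_mono hle
  rw [LinearMap.BilinForm.finrank_orthogonal
    (LinearMap.BilinForm.nondegenerate_toBilin'_of_det_ne_zero' _ (by simp)), h3, Module.finrank_fin_fun] at h4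
  have h5 : Module.finrank F (LinearMap.range ψ) ≤ k := (Submodule.finrank_le _).trans (by simp)
  have h1' : Module.finrank F (LinearMap.range (πy.comp U.subtype)) + Module.finrank F K = Module.finrank F U := h1
  omega

section Generic

variable {F : Type*} [Field F] {ι : Type} [Fintype ι] [DecidableEq ι] {Q : QuadraticForm F (ι → F)}

/-- A totally singular subspace over the subfield spans one of the same dimension. -/
theorem Extends.exists_ts {F₀ : Type*} [Field F₀] {e : F₀ →+* F} {Q₀ : QuadraticForm F₀ (ι → F₀)}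
    (h : Extends e Q₀ Q) (U : Submodule F₀ (ι → F₀)) (hU : ∀ u ∈ U, Q₀ u = 0) :
    ∃ U' : Submodule F (ι → F), Module.finrank F U' = Module.finrank F₀ U ∧ ∀ u ∈ U', Q u = 0 := by
  classical
  let v : Fin (Module.finrank F₀ U) → ι → F₀ := fun i => ((Module.finBasis F₀ U) i : ι → F₀)
  have hv : LinearIndependent F₀ v :=
    (Module.finBasis F₀ U).linearIndependent.map' U.subtype (Submodule.ker_subtype U)
  let C := Fintype.linearCombination F₀ v
  obtain ⟨g, hg⟩ := C.exists_leftInverse_of_injective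
    (LinearMap.ker_eq_bot.2 (linearIndependent_iff_injective_fintypeLinearCombination.1 hv))
  have hgv : ∀ i, g (v i) = Pi.single i 1 := fun i => by
    have h1 : C (Pi.single i 1) = v i := by simp [C]
    rw [← h1]
    exact LinearMap.congr_fun hg _
  let M := (LinearMap.toMatrix' g).map e
  let w : Fin (Module.finrank F₀ U) → ι → F := fun i => e ∘ v i
  have hMw : ∀ i, M *ᵥ w i = Pi.single i 1 := fun i => by
    show (LinearMap.toMatrix' g).map e *ᵥ (e ∘ v i) = _
    rw [show (LinearMap.toMatrix' g).map e *ᵥ (e ∘ v i) = e ∘ (LinearMap.toMatrix' g *ᵥ v i) from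
      funext fun j => (RingHom.map_mulVec e _ _ j).symm, LinearMap.toMatrix'_mulVec, hgv, comp_single]
  have hw : LinearIndependent F w := by
    refine LinearIndependent.of_comp M.mulVecLin ?_
    have : (M.mulVecLin ∘ w) = fun i => Pi.single i 1 := funext hMw
    rw [this]
    exact Pi.linearIndependent_single_one _ F
  refine ⟨Submodule.span F (Set.range w),
    by rw [finrank_span_eq_card hw, Fintype.card_fin], fun u hu => ?_⟩
  rw [← Fintype.range_linearCombination] at hu
  obtain ⟨c, rfl⟩ := hu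
  have hL : ∀ i, Fintype.linearCombination F w (Pi.single i 1) = w i := fun i => by simp
  have h0 : Q.comp (Fintype.linearCombination F w) = 0 := by
    refine ext_of_basis (fun i => ?_) (fun i j => ?_)
    · rw [QuadraticMap.comp_apply, hL]
      show Q (e ∘ v i) = 0
      rw [h, hU _ ((Module.finBasis F₀ U) i).2, map_zero]
    · have h1 : polar (Q.comp (Fintype.linearCombination F w)) (Pi.single i 1) (Pi.single j 1) =
          polar Q (w i) (w j) := by
        rw [← hL i, ← hL j]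
        simp only [QuadraticMap.polar, QuadraticMap.comp_apply, map_add, hL]
      rw [h1, h.polar_comp]
      have hi := ((Module.finBasis F₀ U) i).2
      have hj := ((Module.finBasis F₀ U) j).2
      have h2 : polar Q₀ (v i) (v j) = 0 := by
        simp only [QuadraticMap.polar, v]
        rw [hU _ (U.add_mem hi hj), hU _ hi, hU _ hj]
        simp
      rw [h2, map_zero]
      simp [QuadraticMap.polar]
  exact congrArg (fun P : QuadraticForm F (Fin (Module.finrank F₀ U) → F) => P c) h0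

theorem scaled_nondeg (hQ : Q.polarBilin.Nondegenerate) (k : GL ι F) (y : Fˣ) :
    ((y : F) • Q.comp (Matrix.mulVecLin (k : Matrix ι ι F))).polarBilin.Nondegenerate := by
  set R := (y : F) • Q.comp (Matrix.mulVecLin (k : Matrix ι ι F)) with hR
  have key : ∀ x, (∀ z, polar R x z = 0) → x = 0 := by
    intro x hx
    have h0 : ∀ z, polar Q ((k : Matrix ι ι F) *ᵥ x) z = 0 := fun z => by
      have h1 := hx (((k⁻¹ : GL ι F) : Matrix ι ι F) *ᵥ z)
      have h2 : polar R x (((k⁻¹ : GL ι F) : Matrix ι ι F) *ᵥ z) =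
          (y : F) * polar Q ((k : Matrix ι ι F) *ᵥ x) z := by
        simp [hR, QuadraticMap.polar, Matrix.mulVec_add, mulVec_mulVec, ← Units.val_mul, mul_sub]
      rw [h2] at h1
      exact (mul_eq_zero.1 h1).resolve_left y.ne_zero
    have h3 := congrArg (((k⁻¹ : GL ι F) : Matrix ι ι F) *ᵥ ·) (hQ.1 _ h0)
    simpa [mulVec_mulVec, ← Units.val_mul] using h3
  exact ⟨key, fun x hx => key x fun z => by rw [polar_comm]; exact hx z⟩

variable [Fintype F]

theorem fEl_pow_right (σ : F ≃+* F) (hσ : Fixes σ Q) (n : ℕ) : ((fEl hσ) ^ n).1.right = σ ^ n := by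
  rw [SubmonoidClass.coe_pow]
  exact map_pow SemidirectProduct.rightHom _ n

theorem orderOf_gAut_fEl (hQ : Q.polarBilin.Nondegenerate) (hn : 5 ≤ Fintype.card ι) (d : HypData Q)
    {σ : F ≃+* F} (hσ : Fixes σ Q) : orderOf (gAut Q (fEl hσ)) = orderOf σ := by
  refine orderOf_eq_orderOf_iff.2 fun n => ⟨fun h => ?_, fun h => ?_⟩
  · rw [← map_pow] at h
    rw [← fEl_pow_right σ hσ n]
    exact (gAut_eq_one hQ hn d h).1
  · rw [← map_pow]
    have : (fEl hσ) ^ n = 1 := by
      apply Subtype.ext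
      rw [SubmonoidClass.coe_pow]
      show (SemidirectProduct.inr σ : GLS ι F) ^ n = 1
      rw [← map_pow, h, map_one]
    rw [this, map_one]

theorem centralizes_scalar (hQ : Q.polarBilin.Nondegenerate) (hn : 5 ≤ Fintype.card ι) (d : HypData Q)
    {σ : F ≃+* F} (hσ : Fixes σ Q) (x : ↥(semiGroup Q)) (h1 : x.1.right = 1)
    (h : gAut Q x * gAut Q (fEl hσ) = gAut Q (fEl hσ) * gAut Q x) :
    ∃ c : Fˣ, GeneralLinearGroup.map σ.toRingHom x.1.left = GeneralLinearGroup.scalar ι c * x.1.left := by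
  have h3 : gAut Q (x⁻¹ * (fEl hσ * x * (fEl hσ)⁻¹)) = 1 := by
    rw [map_mul, map_inv, map_mul, map_mul, map_inv, ← h, mul_inv_cancel_right, inv_mul_cancel]
  obtain ⟨-, c, hc⟩ := gAut_eq_one hQ hn d h3
  refine ⟨c, ?_⟩
  have h2 : (x⁻¹ * (fEl hσ * x * (fEl hσ)⁻¹)).1.left =
      x.1.left⁻¹ * GeneralLinearGroup.map σ.toRingHom x.1.left := by
    have e1 : x.1 = SemidirectProduct.inl x.1.left := by
      ext1
      · rw [SemidirectProduct.left_inl]
      · rw [SemidirectProduct.right_inl, h1]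
    show ((x.1)⁻¹ * (SemidirectProduct.inr σ * x.1 * (SemidirectProduct.inr σ)⁻¹)).left = _
    rw [← map_inv SemidirectProduct.inr, e1, ← SemidirectProduct.inl_aut, ← map_inv SemidirectProduct.inl,
      ← map_mul, SemidirectProduct.left_inl]
    simp only [SemidirectProduct.left_inl]
    rfl
  rw [h2] at hc
  rw [scalar_comm, ← hc, mul_inv_cancel_left]

end Generic

section Minus

variable {F : Type*} [Field F] [Fintype F] {k : ℕ}

theorem minus_fixes {a b : F} {σ : F ≃+* F} (ha : σ a = a) (hb : σ b = b) :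
    Fixes σ (minusQ k F a b) := fun v => by
  simp [minusQ_coe, Cfsg.quadFormMinus, map_sum, ha, hb]

variable {a b : F} (hk : 2 ≤ k) (hab : Aniso a b)

theorem wInv_inv_or (h2 : (2 : F) ≠ 0) {x : ↥(semiGroup (minusQ k F a b))} (h1 : x.1.right = 1)
    (hQ : (minusQ k F a b).polarBilin.Nondegenerate) :
    (x.1.left : Matrix (MI k) (MI k) F).det = mu x ^ (k + 1) ∨
      (x.1.left : Matrix (MI k) (MI k) F).det = -(mu x ^ (k + 1)) := by
  have h := det_sq_of_similitude hQ (g := x.1.left) (c := mu x) fun v => by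
    have hs := mu_spec x v
    rw [Cfsg.Agent.GammaO57.semi, h1] at hs
    exact hs
  rw [show Fintype.card (MI k) = (k + 1) * 2 by simp; ring, pow_mul] at h
  exact sq_eq_sq_iff_eq_or_eq_neg.1 h

include hk hab in
theorem mem_or_mul_refl_mem (x : ↥(semiGroup (minusQ k F a b))) (h1 : x.1.right = 1) :
    x ∈ properSub k a b ∨ x * oIn _ (refl (minusQ k F a b) (eM k F)) ∈ properSub k a b := by
  have hQ := CfsgLib.POmega.minusQ_nondegenerate_any (m := k) hab
  have hgen := minus_gen_top hk hab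
  have hv : minusQ k F a b (eM k F) ≠ 0 := by rw [minusQ_eM]; exact one_ne_zero
  by_cases h2 : (2 : F) = 0
  · have : CharP F 2 := CharTwo.of_one_ne_zero_of_two_eq_zero one_ne_zero h2
    obtain ⟨c, g, hg⟩ := exists_scalar_isometry h1
    rw [eq_scIn_mul h1 hg, mul_assoc, ← map_mul, (properSub k a b).mul_mem_cancel_left (scIn_mem c),
      (properSub k a b).mul_mem_cancel_left (scIn_mem c), oIn_mem_iff hk hab, oIn_mem_iff hk hab,
      map_mul, dicksonHom_refl hQ hgen hv]
    rcases Int.units_eq_one_or (dicksonHom hQ hgen g) with h | h <;> rw [h] <;> simp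
  · rcases wInv_inv_or h2 h1 hQ with h | h
    · exact Or.inl (mem_properSub.2 ⟨(wInv_eq_one_iff x).2 ⟨h1, h⟩, fun h0 => absurd h0 h2⟩)
    · refine Or.inr (mem_properSub.2 ⟨(wInv_eq_one_iff _).2 ⟨?_, ?_⟩, fun h0 => absurd h0 h2⟩)
      · show x.1.right * 1 = 1
        rw [mul_one, h1]
      · rw [mu_mul, mu_oIn, map_one, mul_one]
        show (x.1.left * glAut (MI k) F x.1.right ((refl (minusQ k F a b) (eM k F) : O _) : GL (MI k) F) :
          GL (MI k) F).val.det = _
        rw [h1, map_one, MulAut.one_apply, Units.val_mul, det_mul, h,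
          show ((refl (minusQ k F a b) (eM k F) : GL (MI k) F) : Matrix (MI k) (MI k) F).det = -1 from
            congrArg Units.val (detHom_refl hv)]
        ring

set_option maxHeartbeats 1000000 in
include hk hab in
/-- An element of order dividing `r` in the coset of a standard field automorphism of order `r`. -/
theorem minus_conj_of_pow_eq_one {σ : F ≃+* F} (ha : σ a = a) (hb : σ b = b)
    (x : ↥(semiGroup (minusQ k F a b))) (hx : x ∈ properSub k a b)
    (h : (gAut (minusQ k F a b) x * gAut (minusQ k F a b) (fEl (minus_fixes ha hb))) ^ orderOf σ = 1) :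
    ∃ β ∈ (properSub k a b).map (gAut (minusQ k F a b)),
      gAut (minusQ k F a b) x * gAut (minusQ k F a b) (fEl (minus_fixes ha hb)) =
        β * gAut (minusQ k F a b) (fEl (minus_fixes ha hb)) * β⁻¹ := by
  have hQ := CfsgLib.POmega.minusQ_nondegenerate_any (m := k) hab
  obtain ⟨c, hc⟩ : ∃ c, cocy σ x.1.left (orderOf σ) = GeneralLinearGroup.scalar (MI k) c := by
    have hx' : gAut (minusQ k F a b) ((x * fEl (minus_fixes ha hb)) ^ orderOf σ) = 1 := by
      rw [map_pow, map_mul]; exact h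
    obtain ⟨-, c, hc⟩ := gAut_eq_one hQ (card_MI hk) (minusData hk a b) hx'
    rw [SubmonoidClass.coe_pow, inl_mul_fEl _ _ (right_eq_one hx), pow_coset] at hc
    exact ⟨c, hc⟩
  obtain ⟨z, hz⟩ := norm_adjust hc
  set x' := scIn (minusQ k F a b) z * x with hx'def
  have hx' : x' ∈ properSub k a b := mul_mem (scIn_mem z) hx
  have hgx : gAut (minusQ k F a b) x' = gAut (minusQ k F a b) x := by
    rw [hx'def, map_mul, gAut_scIn, one_mul]
  have hleft : x'.1.left = GeneralLinearGroup.scalar (MI k) z * x.1.left := by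
    show GeneralLinearGroup.scalar (MI k) z * glAut (MI k) F 1 x.1.left = _
    rw [map_one]
    rfl
  obtain ⟨g, y, hg, hfix⟩ := lang_form (minus_fixes ha hb) ⟨eM k F, by rw [minusQ_eM]; exact one_ne_zero⟩
    (g := x'.1.left) (μ := Units.mk0 (mu x') (mu_ne x')) (fun v => by
      have hs := mu_spec x' v
      rw [Cfsg.Agent.GammaO57.semi, right_eq_one hx'] at hs
      exact hs) (by rw [hleft]; exact hz)
  set R := (((y⁻¹ : Fˣ) : F)) • (minusQ k F a b).comp (Matrix.mulVecLin (g : Matrix (MI k) (MI k) F))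
    with hRdef
  have hext := descend_extends hfix
  have := Fintype.ofFinite (fixedSub σ)
  set e := (fixedSub σ).subtype
  set a₀ : fixedSub σ := ⟨a, ha⟩
  set b₀ : fixedSub σ := ⟨b, hb⟩
  have hab₀ : Aniso a₀ b₀ := fun z₁ z₂ h0 => by
    have h1 := hab (e z₁) (e z₂) (by
      have := congrArg e h0
      simpa [e, a₀, b₀] using this)
    exact ⟨e.injective (by rw [h1.1, map_zero]), e.injective (by rw [h1.2, map_zero])⟩
  obtain ⟨T, hT⟩ := exists_iso_minusQ hab₀ _ (hext.nondeg (scaled_nondeg hQ g y⁻¹)) fun U hU => by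
    obtain ⟨U', hU'd, hU'0⟩ := hext.exists_ts U hU
    have h1 := minus_ts_le hab k (U'.map (Matrix.mulVecLin (g : Matrix (MI k) (MI k) F))) fun w hw => by
      obtain ⟨u, hu, rfl⟩ := hw
      have h0 := hU'0 u hu
      simp only [hRdef, _root_.smul_apply, QuadraticMap.comp_apply, smul_eq_mul] at h0
      exact (mul_eq_zero.1 h0).resolve_left (Units.ne_zero _)
    have hinj : Function.Injective (Matrix.mulVecLin (g : Matrix (MI k) (MI k) F)) := fun u v huv => by
      have h2 := congrArg (((g⁻¹ : GL (MI k) F) : Matrix (MI k) (MI k) F) *ᵥ ·) huv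
      simpa [mulVec_mulVec, ← Units.val_mul] using h2
    rw [(Submodule.equivMapOfInjective _ hinj U').finrank_eq.symm, hU'd] at h1
    exact h1
  set K := GeneralLinearGroup.map e T
  have heq : R.comp (Matrix.mulVecLin (K : Matrix (MI k) (MI k) F)) = minusQ k F a b := by
    refine Extends.eq_comp (e := e) (Q₀ := minusQ k (fixedSub σ) a₀ b₀) ?_ (minusQ_extends e k a₀ b₀)
    intro w
    show R ((T : Matrix (MI k) (MI k) (fixedSub σ)).map e *ᵥ (e ∘ w)) = _
    rw [map_mulVec_comp, hext, hT]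
  have hsim : ∀ v, minusQ k F a b (((g * K : GL (MI k) F) : Matrix (MI k) (MI k) F) *ᵥ v) =
      (y : F) * minusQ k F a b v := by
    intro v
    have h3 : ((y⁻¹ : Fˣ) : F) * minusQ k F a b ((g : Matrix (MI k) (MI k) F) *ᵥ
        ((K : Matrix (MI k) (MI k) F) *ᵥ v)) = minusQ k F a b v := by
      have h4 := congrArg (fun P : QuadraticForm F (MI k → F) => P v) heq
      simp only [hRdef, QuadraticMap.comp_apply, _root_.smul_apply, Matrix.mulVecLin_apply,
        smul_eq_mul] at h4
      exact h4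
    conv_rhs => rw [← h3]
    rw [Units.val_mul, ← mulVec_mulVec, ← mul_assoc, Units.mul_inv, one_mul]
  let xk : ↥(semiGroup (minusQ k F a b)) := ⟨SemidirectProduct.inl (g * K), ⟨y, fun v => hsim v⟩⟩
  have hK : GeneralLinearGroup.map σ.toRingHom K = K := by
    apply Units.ext; ext i j
    exact mem_fixedSub.1 ((T : Matrix (MI k) (MI k) (fixedSub σ)) i j).2
  have hkK : x'.1.left * GeneralLinearGroup.map σ.toRingHom (g * K) = g * K := by
    rw [map_mul, hK, ← mul_assoc, hg]
  have hconj : ∀ (n : ↥(semiGroup (minusQ k F a b))), n.1.right = 1 →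
      x'.1.left * GeneralLinearGroup.map σ.toRingHom n.1.left = n.1.left →
      gAut (minusQ k F a b) x * gAut (minusQ k F a b) (fEl (minus_fixes ha hb)) =
        gAut (minusQ k F a b) n * gAut (minusQ k F a b) (fEl (minus_fixes ha hb)) *
          (gAut (minusQ k F a b) n)⁻¹ := by
    intro n hn1 hn
    rw [← hgx, eq_mul_inv_iff_mul_eq, ← map_mul, ← map_mul, ← map_mul]
    refine congrArg (gAut (minusQ k F a b)) (Subtype.ext ?_)
    rw [Subgroup.coe_mul, inl_mul_fEl _ _ (right_eq_one hx')]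
    ext1
    · show x'.1.left * glAut (MI k) F σ n.1.left = n.1.left * glAut (MI k) F n.1.right 1
      rw [map_one, mul_one]
      exact hn
    · show σ * n.1.right = n.1.right * σ
      rw [hn1, mul_one, one_mul]
  rcases mem_or_mul_refl_mem hk hab xk rfl with hmem | hmem
  · exact ⟨_, Subgroup.mem_map_of_mem _ hmem, hconj xk rfl hkK⟩
  · refine ⟨_, Subgroup.mem_map_of_mem _ hmem, hconj _ ?_ ?_⟩
    · show (1 : F ≃+* F) * 1 = 1
      rw [one_mul]
    · show x'.1.left * GeneralLinearGroup.map σ.toRingHom (g * K * glAut (MI k) F 1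
          ((refl (minusQ k F a b) (eM k F) : O _) : GL (MI k) F)) = g * K * glAut (MI k) F 1
          ((refl (minusQ k F a b) (eM k F) : O _) : GL (MI k) F)
      rw [map_one (glAut (MI k) F), MulAut.one_apply, map_mul, ← mul_assoc, hkK]
      congr 1
      have hmo := (minusQ_extends e k a₀ b₀).mapO_refl (eM k (fixedSub σ))
      have he' : e ∘ eM k (fixedSub σ) = eM k F := comp_single _
      rw [he'] at hmo
      show GeneralLinearGroup.map σ.toRingHom ((refl (minusQ k F (e a₀) (e b₀)) (eM k F) : O _) : GL (MI k) F)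
        = ((refl (minusQ k F (e a₀) (e b₀)) (eM k F) : O _) : GL (MI k) F)
      rw [← hmo]
      apply Units.ext; ext i j
      exact mem_fixedSub.1
        (((refl (minusQ k (fixedSub σ) a₀ b₀) (eM k (fixedSub σ)) : GL (MI k) (fixedSub σ)) :
          Matrix (MI k) (MI k) (fixedSub σ)) i j).2

include hk hab in
/-- The coset criterion for the standard field automorphism. -/
theorem minus_orderOf_coset_iff {σ : F ≃+* F} (ha : σ a = a) (hb : σ b = b)
    (δ : MulAut (Cfsg.POmega F ⇑(minusQ k F a b)))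
    (hδ : δ ∈ (properSub k a b).map (gAut (minusQ k F a b))) :
    orderOf (δ * gAut (minusQ k F a b) (fEl (minus_fixes ha hb))) = orderOf σ ↔
      Cfsg.IsConjUnder ((properSub k a b).map (gAut (minusQ k F a b)))
        (gAut (minusQ k F a b) (fEl (minus_fixes ha hb)))
        (δ * gAut (minusQ k F a b) (fEl (minus_fixes ha hb))) := by
  obtain ⟨x, hx, rfl⟩ := hδ
  constructor
  · intro hy
    exact minus_conj_of_pow_eq_one hk hab ha hb x hx (by rw [← hy]; exact pow_orderOf_eq_one _)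
  · intro h
    rw [CfsgLib.Split.isConjUnder_orderOf h, orderOf_gAut_fEl
      (CfsgLib.POmega.minusQ_nondegenerate_any hab) (card_MI hk) (minusData hk a b)]

end Minus

section Subfield

variable {F : Type*} [Field F] [Fintype F] {F₀ : Type*} [Field F₀] [Fintype F₀] (e : F₀ →+* F)
  {k : ℕ} {a₀ b₀ : F₀}

/-- Extension of scalars on similarities. -/
noncomputable def mapSim :
    ↥(properSub k a₀ b₀) →* ↥(semiGroup (minusQ k F (e a₀) (e b₀))) where
  toFun x := ⟨SemidirectProduct.inl (GeneralLinearGroup.map e x.1.1.left), by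
    refine ⟨Units.map e.toMonoidHom (Units.mk0 (mu x.1) (mu_ne x.1)), fun v => ?_⟩
    have heq : (minusQ k F (e a₀) (e b₀)).comp
        (Matrix.mulVecLin ((x.1.1.left : Matrix (MI k) (MI k) F₀).map e)) =
        e (mu x.1) • minusQ k F (e a₀) (e b₀) := by
      refine Extends.eq_comp (e := e) (Q₀ := mu x.1 • minusQ k F₀ a₀ b₀) ?_ ?_
      · intro w
        show minusQ k F (e a₀) (e b₀) ((x.1.1.left : Matrix (MI k) (MI k) F₀).map e *ᵥ (e ∘ w)) = _
        rw [map_mulVec_comp, minusQ_extends e k a₀ b₀]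
        congr 1
        have hs := mu_spec x.1 w
        rw [Cfsg.Agent.GammaO57.semi, right_eq_one x.2] at hs
        exact hs
      · intro w
        show e (mu x.1) * minusQ k F (e a₀) (e b₀) (e ∘ w) = _
        rw [minusQ_extends e k a₀ b₀, ← map_mul]
        rfl
    exact congrArg (fun P : QuadraticForm F (MI k → F) => P v) heq⟩
  map_one' := Subtype.ext (by
    show SemidirectProduct.inl (GeneralLinearGroup.map e (1 : GLS (MI k) F₀).left) = 1
    rw [SemidirectProduct.one_left, map_one, map_one])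
  map_mul' x y := Subtype.ext (by
    show SemidirectProduct.inl (GeneralLinearGroup.map e (x.1.1 * y.1.1).left) =
      SemidirectProduct.inl (GeneralLinearGroup.map e x.1.1.left) *
        SemidirectProduct.inl (GeneralLinearGroup.map e y.1.1.left)
    rw [SemidirectProduct.mul_left, right_eq_one x.2, map_one, MulAut.one_apply, map_mul, map_mul])

theorem mapSim_right (x : ↥(properSub k a₀ b₀)) : (mapSim e x).1.right = 1 := rfl

theorem mapSim_left (x : ↥(properSub k a₀ b₀)) :
    (mapSim e x).1.left = GeneralLinearGroup.map e x.1.1.left := rfl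

variable (hk : 2 ≤ k) (hab : Aniso (e a₀) (e b₀))

include hab in
theorem aniso_sub : Aniso a₀ b₀ := fun z₁ z₂ h0 => by
  have h1 := hab (e z₁) (e z₂) (by
    have := congrArg e h0
    simpa using this)
  exact ⟨e.injective (by rw [h1.1, map_zero]), e.injective (by rw [h1.2, map_zero])⟩

include hk hab in
theorem dickson_comp : (dicksonHom (CfsgLib.POmega.minusQ_nondegenerate_any hab) (minus_gen_top hk hab)).comp
      (minusQ_extends e k a₀ b₀).mapO =
    dicksonHom (CfsgLib.POmega.minusQ_nondegenerate_any (aniso_sub e hab))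
      (minus_gen_top hk (aniso_sub e hab)) := by
  refine CfsgLib.OrthOmega.hom_ext_refl (minus_gen_top hk (aniso_sub e hab)) fun v hv => ?_
  rw [MonoidHom.comp_apply, (minusQ_extends e k a₀ b₀).mapO_refl, dicksonHom_refl _ _ (by
    rw [minusQ_extends e k a₀ b₀]; exact (map_ne_zero e).2 hv), dicksonHom_refl _ _ hv]

theorem mu_mapSim (x : ↥(properSub k a₀ b₀)) : mu (mapSim e x) = e (mu x.1) := by
  have hs := mu_spec x.1 (eM k F₀)
  rw [Cfsg.Agent.GammaO57.semi, right_eq_one x.2, minusQ_eM] at hs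
  have he' : e ∘ eM k F₀ = eM k F := comp_single _
  show minusQ k F (e a₀) (e b₀)
    ((GeneralLinearGroup.map e x.1.1.left : Matrix (MI k) (MI k) F) *ᵥ eM k F) = _
  rw [← he']
  show minusQ k F (e a₀) (e b₀) ((x.1.1.left : Matrix (MI k) (MI k) F₀).map e *ᵥ (e ∘ eM k F₀)) = _
  rw [map_mulVec_comp, minusQ_extends e k a₀ b₀]
  congr 1
  refine hs.trans ?_
  simp

include hk hab in
theorem mapSim_mem (x : ↥(properSub k a₀ b₀)) : mapSim e x ∈ properSub k (e a₀) (e b₀) := by
  have hab₀ := aniso_sub e hab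
  by_cases h2 : (2 : F) = 0
  · have h20 : (2 : F₀) = 0 := (map_eq_zero e).1 (by rw [map_ofNat, h2])
    have : CharP F₀ 2 := CharTwo.of_one_ne_zero_of_two_eq_zero one_ne_zero h20
    obtain ⟨c, g, hg⟩ := exists_scalar_isometry (right_eq_one x.2)
    have hx := x.2
    rw [eq_scIn_mul (right_eq_one x.2) hg, (properSub k a₀ b₀).mul_mem_cancel_left (scIn_mem c),
      oIn_mem_iff hk hab₀] at hx
    have he : (mapSim e x).1.left = GeneralLinearGroup.scalar (MI k) (Units.map e.toMonoidHom c) *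
        (((minusQ_extends e k a₀ b₀).mapO g : O _) : GL (MI k) F) := by
      rw [mapSim_left, hg, map_mul]
      congr 1
      exact GeneralLinearGroup.map_scalar _ _
    rw [eq_scIn_mul (mapSim_right e x) he, (properSub k (e a₀) (e b₀)).mul_mem_cancel_left (scIn_mem _),
      oIn_mem_iff hk hab, ← MonoidHom.comp_apply, dickson_comp e hk hab]
    exact hx
  · rw [mem_properSub, wInv_eq_one_iff]
    refine ⟨⟨rfl, ?_⟩, fun h0 => absurd h0 h2⟩
    rw [mu_mapSim, mapSim_left, ← map_pow, ← ((wInv_eq_one_iff x.1).1 (mem_properSub.1 x.2).1).2]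
    show ((x.1.1.left : Matrix (MI k) (MI k) F₀).map e).det = _
    rw [← RingHom.mapMatrix_apply, ← RingHom.map_det]

include hk hab in
theorem exists_proper_sub {x : ↥(semiGroup (minusQ k F (e a₀) (e b₀)))}
    (hx : x ∈ properSub k (e a₀) (e b₀))
    (hent : ∀ i j, ∃ t, e t = (x.1.left : Matrix (MI k) (MI k) F) i j) :
    ∃ x₀ : ↥(properSub k a₀ b₀), mapSim e x₀ = x := by
  have hab₀ := aniso_sub e hab
  choose t ht using hent
  set A : Matrix (MI k) (MI k) F₀ := Matrix.of t
  have hA : A.map e = (x.1.left : Matrix (MI k) (MI k) F) := by ext i j; exact ht i j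
  have hdetA : A.det ≠ 0 := fun h0 => (GeneralLinearGroup.det x.1.left).ne_zero (by
    show (x.1.left : Matrix (MI k) (MI k) F).det = 0
    rw [← hA, ← RingHom.mapMatrix_apply, ← RingHom.map_det, h0, map_zero])
  have hx1 := right_eq_one hx
  set μ₀ := minusQ k F₀ a₀ b₀ (A *ᵥ eM k F₀)
  have hμ : e μ₀ = mu x := by
    rw [← minusQ_extends e k a₀ b₀, ← map_mulVec_comp, hA, show e ∘ eM k F₀ = eM k F from comp_single _, mu,
      Cfsg.Agent.GammaO57.semi, hx1]
    rfl
  have hμ0 : μ₀ ≠ 0 := fun h0 => mu_ne x (by rw [← hμ, h0, map_zero])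
  let x₀ : ↥(semiGroup (minusQ k F₀ a₀ b₀)) :=
    ⟨SemidirectProduct.inl (GeneralLinearGroup.mkOfDetNeZero A hdetA), ⟨Units.mk0 μ₀ hμ0, fun w => by
      show minusQ k F₀ a₀ b₀ (A *ᵥ w) = μ₀ * minusQ k F₀ a₀ b₀ w
      apply e.injective
      rw [map_mul, hμ, ← minusQ_extends e k a₀ b₀, ← minusQ_extends e k a₀ b₀, ← map_mulVec_comp, hA]
      have hs := mu_spec x (e ∘ w)
      rw [Cfsg.Agent.GammaO57.semi, hx1] at hs
      exact hs⟩⟩
  have hmu₀ : mu x₀ = μ₀ := rfl
  have hmem : x₀ ∈ properSub k a₀ b₀ := by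
    by_cases h2 : (2 : F) = 0
    · have h20 : (2 : F₀) = 0 := (map_eq_zero e).1 (by rw [map_ofNat, h2])
      have : CharP F₀ 2 := CharTwo.of_one_ne_zero_of_two_eq_zero one_ne_zero h20
      obtain ⟨c, g, hg⟩ := exists_scalar_isometry (x := x₀) rfl
      have he : x.1.left = GeneralLinearGroup.scalar (MI k) (Units.map e.toMonoidHom c) *
          (((minusQ_extends e k a₀ b₀).mapO g : O _) : GL (MI k) F) := by
        have h3 : x.1.left = GeneralLinearGroup.map e x₀.1.left := Units.ext hA.symm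
        rw [h3, hg, map_mul]
        congr 1
        exact GeneralLinearGroup.map_scalar _ _
      rw [eq_scIn_mul hx1 he, (properSub k (e a₀) (e b₀)).mul_mem_cancel_left (scIn_mem _),
        oIn_mem_iff hk hab, ← MonoidHom.comp_apply, dickson_comp e hk hab] at hx
      rw [eq_scIn_mul (x := x₀) rfl hg, (properSub k a₀ b₀).mul_mem_cancel_left (scIn_mem c),
        oIn_mem_iff hk hab₀]
      exact hx
    · rw [mem_properSub, wInv_eq_one_iff]
      refine ⟨⟨rfl, ?_⟩, fun h0 => absurd (by rw [← map_ofNat e, h0, map_zero]) h2⟩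
      show A.det = _
      apply e.injective
      rw [hmu₀, map_pow, hμ, RingHom.map_det, RingHom.mapMatrix_apply, hA]
      exact ((wInv_eq_one_iff x).1 (mem_properSub.1 hx).1).2
  refine ⟨⟨x₀, hmem⟩, Subtype.ext ?_⟩
  ext1
  · exact Units.ext hA
  · exact hx1.symm

variable {σ : F ≃+* F} (ha : σ (e a₀) = e a₀) (hb : σ (e b₀) = e b₀)

include hk hab in
theorem gAut_mapSim_eq_one_iff (x : ↥(properSub k a₀ b₀)) :
    gAut (minusQ k F (e a₀) (e b₀)) (mapSim e x) = 1 ↔ gAut (minusQ k F₀ a₀ b₀) x.1 = 1 := by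
  have hQ := CfsgLib.POmega.minusQ_nondegenerate_any (m := k) hab
  have hQ₀ := CfsgLib.POmega.minusQ_nondegenerate_any (m := k) (aniso_sub e hab)
  constructor
  · intro h
    obtain ⟨-, c, hc⟩ := gAut_eq_one hQ (card_MI hk) (minusData hk _ _) h
    rw [mapSim_left] at hc
    have hij : ∀ i j, e ((x.1.1.left : Matrix (MI k) (MI k) F₀) i j) = if i = j then (c : F) else 0 := by
      intro i j
      have h1 := congrArg (fun g : GL (MI k) F => (g : Matrix (MI k) (MI k) F) i j) hc
      simp only [GeneralLinearGroup.coe_scalar, Matrix.scalar_apply, Matrix.diagonal_apply] at h1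
      exact h1
    set d := (x.1.1.left : Matrix (MI k) (MI k) F₀) (Sum.inr 0) (Sum.inr 0)
    have hd : e d = c := by rw [hij, if_pos rfl]
    refine gAut_scalar (c := Units.mk0 d fun h0 => c.ne_zero (by rw [← hd, h0, map_zero]))
      (right_eq_one x.2) ?_
    ext i j
    apply e.injective
    rw [hij]
    simp [GeneralLinearGroup.coe_scalar, Matrix.diagonal_apply, apply_ite e, hd]
  · intro h
    obtain ⟨-, c, hc⟩ := gAut_eq_one hQ₀ (card_MI hk) (minusData hk _ _) h
    refine gAut_scalar (c := Units.map e.toMonoidHom c) rfl ?_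
    rw [mapSim_left, hc]
    exact GeneralLinearGroup.map_scalar _ _

include hk hab in
theorem exists_mapSim_of_centralizes (he : ∀ y, σ y = y ↔ ∃ t, e t = y)
    {x : ↥(semiGroup (minusQ k F (e a₀) (e b₀)))} (hx : x ∈ properSub k (e a₀) (e b₀))
    (hcc : gAut (minusQ k F (e a₀) (e b₀)) x * gAut (minusQ k F (e a₀) (e b₀)) (fEl (minus_fixes ha hb)) =
      gAut (minusQ k F (e a₀) (e b₀)) (fEl (minus_fixes ha hb)) * gAut (minusQ k F (e a₀) (e b₀)) x) :
    ∃ x₀ : ↥(properSub k a₀ b₀),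
      gAut (minusQ k F (e a₀) (e b₀)) (mapSim e x₀) = gAut (minusQ k F (e a₀) (e b₀)) x := by
  obtain ⟨c, hσ⟩ := centralizes_scalar (CfsgLib.POmega.minusQ_nondegenerate_any (m := k) hab)
    (card_MI hk) (minusData hk _ _) (minus_fixes ha hb) x (right_eq_one hx) hcc
  have : Nonempty (MI k) := ⟨Sum.inr 0⟩
  obtain ⟨z, hz⟩ := exists_fixed_scalar hσ
  have hzx : (scIn (minusQ k F (e a₀) (e b₀)) z * x).1.left =
      GeneralLinearGroup.scalar (MI k) z * x.1.left := by
    show GeneralLinearGroup.scalar (MI k) z * glAut (MI k) F 1 x.1.left = _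
    rw [map_one]; rfl
  obtain ⟨x₀, hx₀⟩ := exists_proper_sub e hk hab (mul_mem (scIn_mem z) hx) fun i j => (he _).1
    (by rw [hzx]; exact congrArg (fun g : GL (MI k) F => (g : Matrix (MI k) (MI k) F) i j) hz)
  exact ⟨x₀, by rw [hx₀, map_mul, gAut_scIn, one_mul]⟩

theorem mapSim_centralizes (he : ∀ y, σ y = y ↔ ∃ t, e t = y) (x : ↥(properSub k a₀ b₀)) :
    gAut (minusQ k F (e a₀) (e b₀)) (mapSim e x) * gAut (minusQ k F (e a₀) (e b₀)) (fEl (minus_fixes ha hb)) =
      gAut (minusQ k F (e a₀) (e b₀)) (fEl (minus_fixes ha hb)) * gAut (minusQ k F (e a₀) (e b₀)) (mapSim e x) := by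
  rw [← map_mul, ← map_mul]
  refine congrArg (gAut (minusQ k F (e a₀) (e b₀))) (Subtype.ext ?_)
  ext1
  · show GeneralLinearGroup.map e x.1.1.left * glAut (MI k) F 1 1 =
      1 * GeneralLinearGroup.map σ.toRingHom (GeneralLinearGroup.map e x.1.1.left)
    rw [map_one, one_mul, mul_one]
    exact (Units.ext (by ext i j; exact ((he _).2 ⟨_, rfl⟩).symm))
  · show (1 : F ≃+* F) * σ = σ * 1
    rw [one_mul, mul_one]

set_option maxHeartbeats 1000000 in
include hk hab in
/-- The centralizer in `Inndiag` of the standard field automorphism. -/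
theorem minus_centralizer_equiv (he : ∀ y, σ y = y ↔ ∃ t, e t = y) :
    Nonempty (↥((properSub k (e a₀) (e b₀)).map (gAut (minusQ k F (e a₀) (e b₀))) ⊓
        Subgroup.centralizer {gAut (minusQ k F (e a₀) (e b₀)) (fEl (minus_fixes ha hb))}) ≃*
      ↥((properSub k a₀ b₀).map (gAut (minusQ k F₀ a₀ b₀)))) := by
  let f : ↥(properSub k a₀ b₀) →* ↥((properSub k (e a₀) (e b₀)).map (gAut (minusQ k F (e a₀) (e b₀))) ⊓
      Subgroup.centralizer {gAut (minusQ k F (e a₀) (e b₀)) (fEl (minus_fixes ha hb))}) :=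
    ((gAut (minusQ k F (e a₀) (e b₀))).comp (mapSim e)).codRestrict _ fun x =>
      ⟨Subgroup.mem_map_of_mem _ (mapSim_mem e hk hab x),
        Subgroup.mem_centralizer_singleton_iff.2 (mapSim_centralizes e ha hb he x)⟩
  let f₀ : ↥(properSub k a₀ b₀) →* ↥((properSub k a₀ b₀).map (gAut (minusQ k F₀ a₀ b₀))) :=
    (gAut (minusQ k F₀ a₀ b₀)).subgroupMap (properSub k a₀ b₀)
  have hf₀ : Function.Surjective f₀ := MonoidHom.subgroupMap_surjective _ _
  have hker : f.ker = f₀.ker := by
    ext x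
    rw [MonoidHom.mem_ker, MonoidHom.mem_ker, ← OneMemClass.coe_eq_one, ← OneMemClass.coe_eq_one]
    exact gAut_mapSim_eq_one_iff e hk hab x
  have hsurj : Function.Surjective f := by
    rintro ⟨β, hβ⟩
    obtain ⟨x, hx, rfl⟩ := hβ.1
    obtain ⟨x₀, hx₀⟩ := exists_mapSim_of_centralizes e hk hab ha hb he hx
      (Subgroup.mem_centralizer_singleton_iff.1 (Subgroup.mem_inf.1 hβ).2)
    exact ⟨x₀, Subtype.ext hx₀⟩
  exact ⟨((QuotientGroup.quotientKerEquivOfSurjective f hsurj).symm.trans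
    (QuotientGroup.quotientMulEquivOfEq hker)).trans (QuotientGroup.quotientKerEquivOfSurjective f₀ hf₀)⟩

include hk hab in
theorem exists_square_class (h2 : (2 : F) ≠ 0) (hns : ∀ t : F₀, IsSquare (e t) → IsSquare t)
    (x : ↥(semiGroup (minusQ k F (e a₀) (e b₀)))) :
    ∃ x₁ : ↥(properSub k a₀ b₀), sInv (mapSim e x₁) = sInv x := by
  classical
  have h20 : (2 : F₀) ≠ 0 := fun h0 => h2 (by rw [← map_ofNat e, h0, map_zero])
  obtain ⟨d₀, hd₀⟩ := CfsgLib.OrthOmega.exists_not_square h20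
  have hd₀0 : d₀ ≠ 0 := fun h0 => hd₀ (h0 ▸ IsSquare.zero)
  have hd : ¬ IsSquare (e d₀) := fun h0 => hd₀ (hns _ h0)
  rcases Int.units_eq_one_or (sInv x) with h | h
  · exact ⟨1, by rw [map_one, map_one, h]⟩
  · obtain ⟨y, hy1, hymu, hydet⟩ := exists_delta_elem (k := k) h20 (aniso_sub e hab) hd₀0
    refine ⟨⟨y, mem_properSub.2 ⟨(wInv_eq_one_iff y).2 ⟨hy1, by rw [hymu]; exact hydet⟩,
      fun h0 => absurd h0 h20⟩⟩, ?_⟩
    show Cfsg.Agent.Spinor57.sqSign (mu (mapSim e _)) = _
    rw [mu_mapSim, h, hymu]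
    simp [Cfsg.Agent.Spinor57.sqSign, hd]

include hk hab in
theorem exists_spinor_class (h2 : (2 : F) ≠ 0) (hns : ∀ t : F₀, IsSquare (e t) → IsSquare t)
    (g : O (minusQ k F (e a₀) (e b₀))) (hg : detHom (minusQ k F (e a₀) (e b₀)) g = 1) :
    ∃ h₀ : O (minusQ k F₀ a₀ b₀), oIn (minusQ k F₀ a₀ b₀) h₀ ∈ properSub k a₀ b₀ ∧
      g * ((minusQ_extends e k a₀ b₀).mapO h₀)⁻¹ ∈ Cfsg.Omega F ⇑(minusQ k F (e a₀) (e b₀)) := by
  classical
  have h20 : (2 : F₀) ≠ 0 := fun h0 => h2 (by rw [← map_ofNat e, h0, map_zero])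
  have hab₀ := aniso_sub e hab
  have hQ := CfsgLib.POmega.minusQ_nondegenerate_any (m := k) hab
  have hQ₀ := CfsgLib.POmega.minusQ_nondegenerate_any (m := k) hab₀
  obtain ⟨d₀, hd₀⟩ := CfsgLib.OrthOmega.exists_not_square h20
  have hd₀0 : d₀ ≠ 0 := fun h0 => hd₀ (h0 ▸ IsSquare.zero)
  have hd : ¬ IsSquare (e d₀) := fun h0 => hd₀ (hns _ h0)
  obtain ⟨h₀, hh₀d, hh₀c⟩ : ∃ h₀ : O (minusQ k F₀ a₀ b₀),
      dicksonHom hQ₀ (minus_gen_top hk hab₀) h₀ = 1 ∧
      chi (minusQ k F (e a₀) (e b₀)) 1 ((minusQ_extends e k a₀ b₀).mapO h₀) =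
        chi (minusQ k F (e a₀) (e b₀)) 1 g := by
    rcases Int.units_eq_one_or (chi (minusQ k F (e a₀) (e b₀)) 1 g) with h | h
    · exact ⟨1, map_one _, by rw [map_one, map_one, h]⟩
    · obtain ⟨v, hv⟩ := exists_value_ne hQ₀ h20 (le_trans (by norm_num) (card_MI hk)) hd₀0
      have hv0 : minusQ k F₀ a₀ b₀ v ≠ 0 := by rw [hv]; exact hd₀0
      have he0 : minusQ k F₀ a₀ b₀ (eM k F₀) ≠ 0 := by rw [minusQ_eM]; exact one_ne_zero
      refine ⟨refl _ v * refl _ (eM k F₀), ?_, ?_⟩
      · rw [map_mul, dicksonHom_refl hQ₀ _ hv0, dicksonHom_refl hQ₀ _ he0]; decide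
      · have hne : ∀ w, minusQ k F₀ a₀ b₀ w ≠ 0 → minusQ k F (e a₀) (e b₀) (e ∘ w) ≠ 0 := fun w hw => by
          rw [minusQ_extends e k a₀ b₀]; exact (map_ne_zero e).2 hw
        rw [map_mul (minusQ_extends e k a₀ b₀).mapO, map_mul, (minusQ_extends e k a₀ b₀).mapO_refl,
          (minusQ_extends e k a₀ b₀).mapO_refl, chi_refl h2 (hne _ hv0) one_ne_zero,
          chi_refl h2 (hne _ he0) one_ne_zero, minusQ_extends e k a₀ b₀, minusQ_extends e k a₀ b₀, hv,
          minusQ_eM, map_one, one_mul, mul_one, if_neg hd, if_pos IsSquare.one, h, one_mul]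
  refine ⟨h₀, (oIn_mem_iff hk hab₀ h₀).2 hh₀d, ?_⟩
  obtain ⟨d, hd'⟩ := CfsgLib.OrthOmega.exists_not_square h2
  rw [CfsgLib.OrthOmega.mem_omega_odd hQ h2 hd']
  refine MonoidHom.mem_ker.1 (chiPair_eq_one_of_SO hQ h2 hd' ?_ ?_)
  · rw [mem_SO, map_mul, map_inv, hg, (minusQ_extends e k a₀ b₀).detHom_mapO,
      CfsgLib.OrthOmega.detHom_eq_cast hQ₀ (minus_gen_top hk hab₀), hh₀d, map_one, map_one, inv_one,
      mul_one]
  · rw [map_mul, map_inv, hh₀c, mul_inv_cancel]

set_option maxHeartbeats 1600000 in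
include hk hab in
/-- Every inner-diagonal automorphism is inner times one over the subfield, when non-squares stay so. -/
theorem proper_factor (hns : (2 : F) ≠ 0 → ∀ t : F₀, IsSquare (e t) → IsSquare t)
    {x : ↥(semiGroup (minusQ k F (e a₀) (e b₀)))} (hx : x ∈ properSub k (e a₀) (e b₀)) :
    ∃ x₀ : ↥(properSub k a₀ b₀), gAut (minusQ k F (e a₀) (e b₀)) x *
      (gAut (minusQ k F (e a₀) (e b₀)) (mapSim e x₀))⁻¹ ∈
        Cfsg.Inn (Cfsg.POmega F ⇑(minusQ k F (e a₀) (e b₀))) := by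
  by_cases h2 : (2 : F) = 0
  · refine ⟨1, ?_⟩
    rw [map_one, map_one, inv_one, mul_one]
    exact (mem_properSub.1 hx).2 h2
  obtain ⟨x₁, hx₁⟩ := exists_square_class e hk hab h2 (hns h2) x
  have hx₂ : x * (mapSim e x₁)⁻¹ ∈ properSub k (e a₀) (e b₀) :=
    mul_mem hx (inv_mem (mapSim_mem e hk hab x₁))
  obtain ⟨c, g, hg, hgd⟩ := exists_isometry_of_square (right_eq_one hx₂)
    (by rw [map_mul, map_inv, hx₁, mul_inv_cancel])
  have hgdet : detHom (minusQ k F (e a₀) (e b₀)) g = 1 := by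
    rw [hgd, (mem_properSub.1 hx₂).1]
    rfl
  obtain ⟨h₀, hmem₀, hg'⟩ := exists_spinor_class e hk hab h2 (hns h2) g hgdet
  have hm : mapSim e ⟨_, hmem₀⟩ = oIn _ ((minusQ_extends e k a₀ b₀).mapO h₀) := Subtype.ext rfl
  refine ⟨⟨_, hmem₀⟩ * x₁, QuotientGroup.mk ⟨_, hg'⟩, ?_⟩
  have hdec := congrArg (gAut (minusQ k F (e a₀) (e b₀))) (eq_scIn_mul (right_eq_one hx₂) hg)
  rw [map_mul, map_mul, gAut_scIn, one_mul, map_inv] at hdec
  have ho : omegaIn (minusQ k F (e a₀) (e b₀)) ⟨_, hg'⟩ =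
      oIn _ (g * ((minusQ_extends e k a₀ b₀).mapO h₀)⁻¹) := Subtype.ext rfl
  rw [← gAut_omegaIn, ho, map_mul (oIn _), map_inv (oIn _), map_mul, map_inv, ← hdec, map_mul (mapSim e),
    hm, map_mul, _root_.mul_inv_rev, mul_assoc]

end Subfield

end CfsgLib.FieldPOmega
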