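import Cfsg.Agent.Lib.AutPOmega.FieldMinus
import Cfsg.Agent.S2696

/-!
Transport of `Inndiag(PΩ⁻)` along isomorphisms, and the field automorphism rows.
-/

set_option autoImplicit false
set_option linter.unusedSectionVars false

namespace CfsgLib.FieldPOmega

open Matrix QuadraticMap CfsgLib.Orth Cfsg.Agent.GammaO57 CfsgLib.FieldGalois

universe u

variable {F : Type u} [Field F] [Fintype F] {k : ℕ} {a b a' b' : F}

/-- A conjugate of a proper similarity is proper. -/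
theorem conjSemi_mem {T : GL (MI k) F}
    (hT : ∀ v, minusQ k F a' b' ((T : Matrix (MI k) (MI k) F) *ᵥ v) = minusQ k F a b v)
    {x : ↥(semiGroup (minusQ k F a b))} (hx : x ∈ properSub k a b) :
    conjSemi hT x ∈ properSub k a' b' := by
  rw [mem_properSub] at hx ⊢
  obtain ⟨h1, hd⟩ := (wInv_eq_one_iff x).1 hx.1
  refine ⟨(wInv_eq_one_iff _).2 ⟨by rw [conjSemi_right, h1], ?_⟩, fun h2 => ?_⟩
  · have hmu : mu (conjSemi hT x) = mu x := mu_eq_of_spec fun v => by
      have hs := mu_spec x (((T⁻¹ : GL (MI k) F) : Matrix (MI k) (MI k) F) *ᵥ v)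
      rw [Cfsg.Agent.GammaO57.semi, h1] at hs
      rw [Cfsg.Agent.GammaO57.semi, conjSemi_left, conjSemi_right, h1, map_one, MulAut.one_apply,
        Units.val_mul, Units.val_mul, ← mulVec_mulVec, ← mulVec_mulVec, hT]
      refine hs.trans ?_
      rw [inv_isometry hT]
    rw [hmu, conjSemi_left, h1, map_one, MulAut.one_apply, Units.val_mul, Units.val_mul, det_mul, det_mul,
      mul_comm (T : Matrix (MI k) (MI k) F).det, mul_assoc, ← det_mul, ← Units.val_mul, mul_inv_cancel,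
      Units.val_one, det_one, mul_one, hd]
  · rw [← congr_gAut, ← map_inn (isoPOmega hT)]
    exact Subgroup.mem_map_of_mem _ (hx.2 h2)

theorem conjSemi_inv {T : GL (MI k) F}
    (hT : ∀ v, minusQ k F a' b' ((T : Matrix (MI k) (MI k) F) *ᵥ v) = minusQ k F a b v)
    (x : ↥(semiGroup (minusQ k F a' b'))) :
    conjSemi hT (conjSemi (fun v => inv_isometry hT v) x) = x := by
  apply Subtype.ext
  show SemidirectProduct.inl T * (SemidirectProduct.inl T⁻¹ * x.1 * (SemidirectProduct.inl T⁻¹)⁻¹) *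
    (SemidirectProduct.inl T)⁻¹ = x.1
  rw [map_inv]
  group

/-- Isomorphisms carry `Inndiag` to `Inndiag`. -/
theorem map_inndiag (hk : 3 ≤ k) (hab : Aniso a b) (hab' : Aniso a' b')
    (ψ : Cfsg.POmega F ⇑(minusQ k F a b) ≃* Cfsg.POmega F ⇑(minusQ k F a' b')) :
    ((properSub k a b).map (gAut (minusQ k F a b))).map (MulAut.congr ψ).toMonoidHom =
      (properSub k a' b').map (gAut (minusQ k F a' b')) := by
  obtain ⟨T, hT⟩ := exists_minus_iso k hab hab'
  have hgamma : Cfsg.gammaPOmega F ⇑(minusQ k F a' b') = ⊤ := by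
    rw [minusQ_coe]; exact Cfsg.Agent.S2696.result hk a' b' hab'
  have hN : ((properSub k a' b').map (gAut (minusQ k F a' b'))).Normal :=
    properSub_normal.map _ (gAut_surjective hgamma)
  set γ : MulAut (Cfsg.POmega F ⇑(minusQ k F a' b')) := (isoPOmega hT).symm.trans ψ
  have key : ∀ β, MulAut.congr ψ β = γ * MulAut.congr (isoPOmega hT) β * γ⁻¹ := by
    intro β
    apply MulEquiv.ext
    intro y
    show ψ (β (ψ.symm y)) = ψ ((isoPOmega hT).symm (isoPOmega hT (β ((isoPOmega hT).symm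
      (isoPOmega hT (ψ.symm y))))))
    rw [MulEquiv.symm_apply_apply, MulEquiv.symm_apply_apply]
  ext β
  constructor
  · rintro ⟨_, ⟨x, hx, rfl⟩, rfl⟩
    show MulAut.congr ψ (gAut (minusQ k F a b) x) ∈ _
    rw [key, congr_gAut]
    exact hN.conj_mem _ (Subgroup.mem_map_of_mem _ (conjSemi_mem hT hx)) γ
  · intro hβ
    obtain ⟨y, hy, hy'⟩ := hN.conj_mem β hβ γ⁻¹
    refine ⟨gAut (minusQ k F a b) (conjSemi (fun v => inv_isometry hT v) y),
      Subgroup.mem_map_of_mem _ (conjSemi_mem _ hy), ?_⟩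
    show MulAut.congr ψ (gAut (minusQ k F a b) _) = β
    rw [key, congr_gAut, conjSemi_inv hT, hy', inv_inv]
    group

theorem odd_orderOf_of_aniso {σ : F ≃+* F} (ha : σ a = a) (hb : σ b = b) (hab : Aniso a b) :
    Odd (orderOf σ) := by
  rw [← Nat.not_even_iff_odd]
  rintro ⟨j, hj⟩
  have hpos := orderOf_pos σ
  have h2 : orderOf (σ ^ 2) = j := by
    rw [orderOf_pow_of_dvd two_ne_zero ⟨j, by omega⟩]; omega
  have := Fintype.ofFinite (fixedSub σ)
  have := Fintype.ofFinite (fixedSub (σ ^ 2))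
  have hle : ∀ z, z ∈ fixedSub σ → z ∈ fixedSub (σ ^ 2) := fun z hz =>
    mem_fixedSub.2 (pow_fix (mem_fixedSub.1 hz) 2)
  let ι₀ : fixedSub σ →+* fixedSub (σ ^ 2) :=
    (fixedSub σ).subtype.codRestrict (fixedSub (σ ^ 2)) fun z => hle _ z.2
  have hK : Fintype.card (fixedSub (σ ^ 2)) = Fintype.card (fixedSub σ) ^ 2 := by
    have h1 := natCard_fixedSub σ
    have h3 := natCard_fixedSub (σ ^ 2)
    rw [h1, h2, hj, ← two_mul, pow_mul, Nat.card_eq_fintype_card, Nat.card_eq_fintype_card] at h3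
    exact (Nat.pow_left_injective (by omega) h3).symm
  obtain ⟨θ, -, hsum, hprod⟩ := CfsgLib.UnitaryEmbed.exists_quadratic_root hK rfl ι₀ ⟨a, ha⟩ ⟨b, hb⟩
    (fun z₁ z₂ h => by
      have h1 := hab (z₁ : F) (z₂ : F) (by
        have := congrArg Subtype.val h
        simpa using this)
      exact ⟨Subtype.ext h1.1, Subtype.ext h1.2⟩)
  have e1 : (θ : F) + (θ : F) ^ Fintype.card (fixedSub σ) = a := congrArg Subtype.val hsum
  have e2 : (θ : F) * (θ : F) ^ Fintype.card (fixedSub σ) = b := congrArg Subtype.val hprod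
  exact one_ne_zero (hab (-(θ : F)) 1 (by linear_combination (θ : F) * e1 - e2)).2

theorem splitClassCount_eq_one {X : Type*} [Group X] (H K : Subgroup X) (x : X)
    (h : ∀ g ∈ H, ∃ c, c * x = x * c ∧ g * c⁻¹ ∈ K) : Cfsg.splitClassCount H K x = 1 := by
  have key : ∀ y, Cfsg.IsConjUnder H x y → Cfsg.IsConjUnder K x y := by
    rintro _ ⟨g, hg, rfl⟩
    obtain ⟨c, hc, hk⟩ := h g hg
    refine ⟨g * c⁻¹, hk, ?_⟩
    calc g * x * g⁻¹ = g * c⁻¹ * (c * x) * g⁻¹ := by group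
      _ = g * c⁻¹ * (x * c) * g⁻¹ := by rw [hc]
      _ = _ := by group
  rw [Cfsg.splitClassCount, Nat.card_eq_one_iff_unique]
  refine ⟨⟨fun p q => Quot.induction_on₂ p q fun y z => Quot.sound ?_⟩,
    ⟨Quot.mk _ ⟨x, 1, one_mem _, by group⟩⟩⟩
  obtain ⟨k₁, hk₁, e₁⟩ := key _ y.2
  obtain ⟨k₂, hk₂, e₂⟩ := key _ z.2
  exact ⟨k₂ * k₁⁻¹, mul_mem hk₂ (inv_mem hk₁), by rw [e₂, e₁]; group⟩

set_option maxHeartbeats 1600000 in
/-- The coset criterion. -/
theorem minus_field_coset (hk : 3 ≤ k) (hab : Aniso a b)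
    (x δ : MulAut (Cfsg.POmega F ⇑(minusQ k F a b)))
    (ψ : Cfsg.POmega F ⇑(minusQ k F a b) ≃* Cfsg.POmega F ⇑(minusQ k F a' b')) (hab' : Aniso a' b')
    {σ : F ≃+* F} (ha : σ a' = a') (hb : σ b' = b')
    (hφ : MulAut.congr ψ x = gAut (minusQ k F a' b') (fEl (minus_fixes ha hb)))
    {r : ℕ} (hxr : orderOf x = r) (hδ : δ ∈ (properSub k a b).map (gAut (minusQ k F a b))) :
    orderOf (δ * x) = r ↔
      Cfsg.IsConjUnder ((properSub k a b).map (gAut (minusQ k F a b))) x (δ * x) := by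
  have hmap := map_inndiag hk hab hab' ψ
  have hord : orderOf σ = r := by
    rw [← hxr, ← MulEquiv.orderOf_eq (MulAut.congr ψ) x, hφ, orderOf_gAut_fEl
      (CfsgLib.POmega.minusQ_nondegenerate_any hab') (card_MI (by omega)) (minusData (by omega) a' b')]
  have hδ' : MulAut.congr ψ δ ∈ (properSub k a' b').map (gAut (minusQ k F a' b')) := by
    rw [← hmap]; exact Subgroup.mem_map_of_mem _ hδ
  have hiff := minus_orderOf_coset_iff (by omega) hab' ha hb _ hδ'
  rw [hord, ← hφ, ← map_mul, MulEquiv.orderOf_eq, ← hmap, isConjUnder_iso] at hiff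
  exact hiff

set_option maxHeartbeats 1600000 in
/-- The facts about a field automorphism. -/
theorem minus_field_facts (hk : 3 ≤ k) (hab : Aniso a b)
    (x : MulAut (Cfsg.POmega F ⇑(minusQ k F a b))) {F₀ : Type*} [Field F₀] [Fintype F₀] (e : F₀ →+* F)
    {a₀ b₀ : F₀} (ψ : Cfsg.POmega F ⇑(minusQ k F a b) ≃* Cfsg.POmega F ⇑(minusQ k F (e a₀) (e b₀)))
    (hab' : Aniso (e a₀) (e b₀))
    {σ : F ≃+* F} (ha : σ (e a₀) = e a₀) (hb : σ (e b₀) = e b₀)
    (hφ : MulAut.congr ψ x = gAut (minusQ k F (e a₀) (e b₀)) (fEl (minus_fixes ha hb)))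
    (he : ∀ y, σ y = y ↔ ∃ t, e t = y) :
    Nonempty (↥((properSub k a b).map (gAut (minusQ k F a b)) ⊓ Subgroup.centralizer {x}) ≃*
        ↥((properSub k a₀ b₀).map (gAut (minusQ k F₀ a₀ b₀)))) ∧
      Cfsg.splitClassCount ((properSub k a b).map (gAut (minusQ k F a b)))
        (Cfsg.Inn (Cfsg.POmega F ⇑(minusQ k F a b))) x = 1 := by
  have hmap := map_inndiag hk hab hab' ψ
  refine ⟨?_, ?_⟩
  · obtain ⟨E⟩ := minus_centralizer_equiv (k := k) e (by omega) hab' ha hb he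
    obtain ⟨T⟩ := nonempty_centralizer_iso (MulAut.congr ψ) (H := (properSub k a b).map (gAut (minusQ k F a b))) x
    rw [hmap, hφ] at T
    exact ⟨T.trans E⟩
  · rw [← splitClassCount_iso (MulAut.congr ψ), hmap, map_inn, hφ]
    refine splitClassCount_eq_one _ _ _ ?_
    rintro _ ⟨g, hg, rfl⟩
    obtain ⟨x₀, hx₀⟩ := proper_factor (k := k) e (by omega) hab'
      (fun h2 t ht => isSquare_of_odd h2 he (odd_orderOf_of_aniso ha hb hab') ht) hg
    exact ⟨_, mapSim_centralizes e ha hb he x₀, hx₀⟩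

end CfsgLib.FieldPOmega
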