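import Cfsg.Agent.Lib.AutPOmega.FieldBase
import Cfsg.Agent.Helper57OutOdd
import Cfsg.Agent.Lib.AutPSL.Split
import Cfsg.Agent.Lib.AutPSp.Transport
import Cfsg.Agent.S2618
import Cfsg.Agent.S2694

/-!
Field automorphisms of `Ω_{2m+1}(q)`: the coset `Inndiag·φ`, the centralizer of `φ`, and the splitting
of its class.
-/

set_option autoImplicit false
set_option linter.unusedSectionVars false

namespace CfsgLib.FieldPOmega

open Matrix QuadraticMap CfsgLib.Orth Cfsg.Agent.GammaO57 Cfsg.Agent.Spinor57 CfsgLib.FieldGalois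

variable {F : Type*} [Field F] [Fintype F] [DecidableEq F] {m : ℕ}

theorem oIn_left {ι : Type} [Fintype ι] [DecidableEq ι] {Q : QuadraticForm F (ι → F)} (g : O Q) :
    (oIn Q g).1.left = (g : GL ι F) := rfl

theorem qOdd_fixes (σ : F ≃+* F) : Fixes σ (qOdd m F) := qOdd_prime σ

theorem qOdd_apply {F₀ : Type*} [Field F₀] (w : OI m → F₀) : qOdd m F₀ w =
    w (.inl ()) ^ 2 + ∑ i, w (.inr (.inl i)) * w (.inr (.inr i)) := by
  simp [qOdd, pow_two]

theorem qOdd_extends {F₀ : Type*} [Field F₀] (e : F₀ →+* F) :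
    Extends e (qOdd m F₀) (qOdd m F) := fun w => by
  simp [qOdd_apply, map_sum]

theorem qOdd_e0_ne : ∃ v, qOdd m F v ≠ 0 := ⟨e0 m F, by rw [qOdd_e0]; exact one_ne_zero⟩

theorem polar_smul' {ι K : Type*} [Field K] (c : K) (P : QuadraticForm K (ι → K)) (x z : ι → K) :
    polar ⇑(c • P) x z = c * polar P x z := by
  simp [QuadraticMap.polar]
  ring

/-- `SO` acting on `PΩ`. -/
noncomputable def soAut (m : ℕ) (F : Type*) [Field F] [Fintype F] :
    ↥(SO (qOdd m F)) →* MulAut (Cfsg.POmega F ⇑(qOdd m F)) :=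
  (gAut (qOdd m F)).comp ((oIn (qOdd m F)).comp (SO (qOdd m F)).subtype)

theorem soAut_apply (s : ↥(SO (qOdd m F))) :
    soAut m F s = gAut (qOdd m F) (oIn (qOdd m F) (s : O (qOdd m F))) := rfl

variable (h2 : (2 : F) ≠ 0) (hm : 2 ≤ m)

include h2 in
theorem scalar_mem_SO {s : O (qOdd m F)} (hs : s ∈ SO (qOdd m F)) {c : Fˣ}
    (hc : (s : GL (OI m) F) = GeneralLinearGroup.scalar (OI m) c) : s = 1 := by
  have hv : ∀ v, app s v = (c : F) • v := fun v => by rw [app_apply, hc, scalar_mulVec]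
  have hc2 : (c : F) ^ 2 = 1 := by
    have h := Q_app s (e0 m F)
    rw [hv, QuadraticMap.map_smul, qOdd_e0, smul_eq_mul, mul_one] at h
    rw [pow_two]; exact h
  have hd : (c : F) ^ (2 * m + 1) = 1 := by
    have h := congrArg Units.val (mem_SO.1 hs)
    rw [show (detHom (qOdd m F) s : F) = ((s : GL (OI m) F) : Matrix (OI m) (OI m) F).det from rfl,
      hc] at h
    simpa [GeneralLinearGroup.scalar, Matrix.det_diagonal, two_mul, add_comm, add_left_comm] using h
  rw [pow_succ, pow_mul, hc2, one_pow, one_mul] at hd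
  exact ext_app fun v => by rw [hv, hd, one_smul, app_one]

include hm in
theorem card_OI : 5 ≤ Fintype.card (OI m) := by simp [OI]; omega

include h2 hm in
theorem gAut_fEl_injective {σ τ : F ≃+* F}
    (h : gAut (qOdd m F) (fEl (qOdd_fixes σ)) = gAut (qOdd m F) (fEl (qOdd_fixes τ))) : σ = τ := by
  have h1 : gAut (qOdd m F) (fEl (qOdd_fixes σ) * (fEl (qOdd_fixes τ))⁻¹) = 1 := by
    rw [map_mul, map_inv, h, mul_inv_cancel]
  have h3 := (gAut_eq_one (qOdd_nondegenerate h2) (card_OI hm) (oddData hm) h1).1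
  exact mul_inv_eq_one.1 h3

include h2 hm in
theorem soAut_injective : Function.Injective (soAut m F) := by
  rw [injective_iff_map_eq_one]
  intro s hs
  obtain ⟨-, c, hc⟩ := gAut_eq_one (qOdd_nondegenerate h2) (card_OI hm) (oddData hm) hs
  exact Subtype.ext (scalar_mem_SO h2 s.2 hc)

include h2 in
theorem mem_range_of_similarity (x : ↥(semiGroup (qOdd m F))) (h1 : x.1.right = 1) :
    gAut (qOdd m F) x ∈ (soAut m F).range := by
  refine ⟨⟨nrm h2 x, nrm_mem_SO h2 x⟩, ?_⟩
  have h : gAut (qOdd m F) (x * (oIn _ (nrm h2 x))⁻¹) = 1 := by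
    refine gAut_scalar (c := (nu x)⁻¹) ?_ ?_
    · simp [oIn, h1]
    · rw [Subgroup.coe_mul, SemidirectProduct.mul_left, h1, map_one, MulAut.one_apply]
      show x.1.left * (((oIn (qOdd m F) (nrm h2 x))⁻¹).1.left) = _
      rw [← map_inv, oIn_left]
      show x.1.left * (GeneralLinearGroup.scalar (OI m) (nu x) * x.1.left)⁻¹ = _
      rw [_root_.mul_inv_rev, ← mul_assoc, mul_inv_cancel, one_mul, map_inv]
  rw [map_mul, map_inv, mul_inv_eq_one] at h
  exact h.symm

include h2 in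
theorem inndiag_eq :
    Cfsg.autSubgroupOf (fun β => Cfsg.IsSimilarityInducedAutPOmega (⇑(qOdd m F)) β) =
      (soAut m F).range := by
  refine le_antisymm ((Subgroup.closure_le _).2 ?_) ?_
  · rintro β ⟨g, ⟨c, hc⟩, hβ⟩
    let x : ↥(semiGroup (qOdd m F)) := ⟨SemidirectProduct.inl g, ⟨c, fun v => hc v⟩⟩
    rw [eq_gAut_of_induced x hβ]
    exact mem_range_of_similarity h2 x rfl
  · rintro _ ⟨s, rfl⟩
    have hg : ((s : O (qOdd m F)) : GL (OI m) F) ∈
        Cfsg.Geo.quadSimilarityGroup (F := F) ⇑(qOdd m F) :=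
      ⟨1, fun v => by rw [Units.val_one, one_mul]; exact Q_app (s : O (qOdd m F)) v⟩
    have hi := gAut_induced (Q := qOdd m F) (oIn (qOdd m F) (s : O (qOdd m F)))
    rw [← soAut_apply, oIn_left] at hi
    exact Subgroup.subset_closure ⟨_, hg, hi⟩

theorem conjO_mem_SO (x : ↥(semiGroup (qOdd m F))) {s : O (qOdd m F)} (hs : s ∈ SO (qOdd m F)) :
    conjO (qOdd m F) x s ∈ SO (qOdd m F) := by
  rw [mem_SO] at hs ⊢
  show GeneralLinearGroup.det (x.1.left * glAut (OI m) F x.1.right (s : GL (OI m) F) * x.1.left⁻¹) = 1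
  rw [map_mul, map_mul, show GeneralLinearGroup.det (glAut (OI m) F x.1.right (s : GL (OI m) F)) =
    Units.map x.1.right.toMonoidHom (GeneralLinearGroup.det (s : GL (OI m) F)) from
      GeneralLinearGroup.map_det _ _, show GeneralLinearGroup.det (s : GL (OI m) F) = 1 from hs,
    map_one, mul_one, ← map_mul, mul_inv_cancel, map_one]

include h2 in
theorem normal_range (hgamma : Cfsg.gammaPOmega F ⇑(qOdd m F) = ⊤) : (soAut m F).range.Normal := by
  refine ⟨?_⟩
  rintro _ ⟨s, rfl⟩ β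
  obtain ⟨x, rfl⟩ := gAut_surjective hgamma β
  refine ⟨⟨conjO (qOdd m F) x (s : O (qOdd m F)), conjO_mem_SO x s.2⟩, ?_⟩
  rw [soAut_apply, soAut_apply, ← map_inv (gAut (qOdd m F)), ← map_mul, ← map_mul]
  exact congrArg (gAut (qOdd m F)) (conj_oIn x (s : O (qOdd m F))).symm

theorem soAut_fixed_iff (σ : F ≃+* F) (s : ↥(SO (qOdd m F)))
    (h : GeneralLinearGroup.map σ.toRingHom ((s : O (qOdd m F)) : GL (OI m) F) = (s : O (qOdd m F))) :
    soAut m F s ∈ Subgroup.centralizer {gAut (qOdd m F) (fEl (qOdd_fixes σ))} := by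
  rw [Subgroup.mem_centralizer_singleton_iff]
  have e : conjO _ (fEl (qOdd_fixes σ)) (s : O (qOdd m F)) = s := Subtype.ext (by
    show 1 * GeneralLinearGroup.map σ.toRingHom _ * 1⁻¹ = _
    rw [h, inv_one, one_mul, mul_one])
  have h3 := congrArg (gAut (qOdd m F)) (conj_oIn (fEl (qOdd_fixes σ)) (s : O (qOdd m F)))
  rw [e, map_mul, map_mul, map_inv, mul_inv_eq_iff_eq_mul] at h3
  exact h3.symm

include h2 hm in
theorem fixed_of_centralizes (σ : F ≃+* F) (s : ↥(SO (qOdd m F)))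
    (h : soAut m F s ∈ Subgroup.centralizer {gAut (qOdd m F) (fEl (qOdd_fixes σ))}) :
    GeneralLinearGroup.map σ.toRingHom ((s : O (qOdd m F)) : GL (OI m) F) = (s : O (qOdd m F)) := by
  rw [Subgroup.mem_centralizer_singleton_iff] at h
  let s' : ↥(SO (qOdd m F)) := ⟨conjO _ (fEl (qOdd_fixes σ)) s, conjO_mem_SO _ s.2⟩
  have h3 : soAut m F s' = soAut m F s := by
    show gAut _ (oIn _ (conjO _ (fEl (qOdd_fixes σ)) (s : O (qOdd m F)))) = gAut _ (oIn _ s)
    rw [← conj_oIn, map_mul, map_mul, map_inv, mul_inv_eq_iff_eq_mul]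
    exact h.symm
  have h4 := congrArg (fun t : ↥(SO (qOdd m F)) => ((t : O (qOdd m F)) : GL (OI m) F))
    (soAut_injective h2 hm h3)
  change 1 * GeneralLinearGroup.map σ.toRingHom _ * 1⁻¹ = _ at h4
  rwa [inv_one, one_mul, mul_one] at h4

/-- Every non-degenerate form in odd dimension is a scalar multiple of the standard one. -/
theorem exists_similar_qOdd {K : Type*} [Field K] [Finite K] (R : QuadraticForm K (OI m → K))
    (hR : R.polarBilin.Nondegenerate) : ∃ (k : GL (OI m) K) (d : Kˣ),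
      ∀ w, R ((k : Matrix (OI m) (OI m) K) *ᵥ w) = (d : K) * qOdd m K w := by
  have := Fintype.ofFinite K
  obtain ⟨b, hb0, hbx, hbQ, hbef, hbb⟩ := Cfsg.Agent.S2618.result (m := m)
    (by simp [OI]; omega) R hR
  set d := R (b (Sum.inl ()))
  let col : OI m → (OI m → K) := Sum.elim (fun _ => b (Sum.inl ()))
    (Sum.elim (fun i => b (Sum.inr (Sum.inl i))) fun i => d • b (Sum.inr (Sum.inr i)))
  let w : OI m → Kˣ := Sum.elim (fun _ => 1) (Sum.elim (fun _ => 1) fun _ => Units.mk0 d hb0)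
  have hcol : col = fun j => (w j : K) • b j := by
    funext j; rcases j with j | j | j <;> simp [col, w]
  let A : Matrix (OI m) (OI m) K := Matrix.of fun i j => col j i
  have hA : IsUnit A := by
    apply Matrix.linearIndependent_cols_iff_isUnit.mp
    show LinearIndependent K fun j => col j
    rw [hcol]
    exact b.linearIndependent.units_smul w
  refine ⟨hA.unit, Units.mk0 d hb0, fun v => ?_⟩
  have hsingle : ∀ j, A *ᵥ Pi.single j 1 = col j := fun j => by
    rw [Matrix.mulVec_single_one]; rfl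
  have key : R.comp A.mulVecLin = d • qOdd m K := by
    refine ext_of_basis (fun j => ?_) (fun i j => ?_)
    · rw [QuadraticMap.comp_apply, Matrix.mulVecLin_apply, hsingle]
      rcases j with j | j | j <;>
        simp [col, d, qOdd_apply, QuadraticMap.map_smul, hbQ, Pi.single_apply]
    · have e : polar (R.comp A.mulVecLin) (Pi.single i 1) (Pi.single j 1) = polar R (col i) (col j) := by
        rw [← hsingle i, ← hsingle j]
        simp [QuadraticMap.polar, Matrix.mulVec_add]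
      rw [e, polar_smul', polar_qOdd]
      have hbx' : ∀ i, polar R (b (Sum.inr (Sum.inl i))) (b (Sum.inl ())) = 0 ∧
          polar R (b (Sum.inr (Sum.inr i))) (b (Sum.inl ())) = 0 :=
        fun i => ⟨by rw [polar_comm]; exact (hbx i).1, by rw [polar_comm]; exact (hbx i).2⟩
      rcases i with i | i | i <;> rcases j with j | j | j <;>
        simp [col, polar_smul_left, polar_smul_right, hbx, hbx', hbef, hbb, Pi.single_apply,
          polar_self', polar_comm (⇑R) (b (Sum.inr (Sum.inr _))) (b (Sum.inr (Sum.inl _))), d, eq_comm,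
          mul_comm]
  exact congrArg (fun P : QuadraticForm K (OI m → K) => P v) key

set_option maxHeartbeats 1000000 in
include h2 hm in
/-- An element of order dividing `r` in the coset of a standard field automorphism of order `r`. -/
theorem conj_of_pow_eq_one (σ : F ≃+* F) (s : ↥(SO (qOdd m F)))
    (h : (soAut m F s * gAut (qOdd m F) (fEl (qOdd_fixes σ))) ^ orderOf σ = 1) :
    ∃ β ∈ (soAut m F).range, soAut m F s * gAut (qOdd m F) (fEl (qOdd_fixes σ)) =
      β * gAut (qOdd m F) (fEl (qOdd_fixes σ)) * β⁻¹ := by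
  set g : GL (OI m) F := ((s : O (qOdd m F)) : GL (OI m) F)
  have hS : ∀ k, ∃ S : ↥(SO (qOdd m F)), ((S : O (qOdd m F)) : GL (OI m) F) = cocy σ g k := by
    intro k
    induction k with
    | zero => exact ⟨1, rfl⟩
    | succ k ih =>
      obtain ⟨S, hS⟩ := ih
      refine ⟨s * ⟨conjO _ (fEl (qOdd_fixes σ)) S, conjO_mem_SO _ S.2⟩, ?_⟩
      show g * (1 * GeneralLinearGroup.map σ.toRingHom ((S : O (qOdd m F)) : GL (OI m) F) * 1⁻¹) = _
      rw [inv_one, one_mul, mul_one, hS]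
      rfl
  have hc1 : cocy σ g (orderOf σ) = 1 := by
    obtain ⟨S, hS⟩ := hS (orderOf σ)
    have hx : gAut (qOdd m F) ((oIn _ (s : O (qOdd m F)) * fEl (qOdd_fixes σ)) ^ orderOf σ) = 1 := by
      rw [map_pow, map_mul]; exact h
    obtain ⟨-, c, hc⟩ := gAut_eq_one (qOdd_nondegenerate h2) (card_OI hm) (oddData hm) hx
    rw [SubmonoidClass.coe_pow, inl_mul_fEl _ _ rfl, pow_coset] at hc
    change cocy σ g (orderOf σ) = _ at hc
    rw [← hS, scalar_mem_SO h2 S.2 (hS.trans hc)]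
    rfl
  obtain ⟨k, y, hk, hfix⟩ := lang_form (qOdd_fixes σ) qOdd_e0_ne (μ := 1)
    (fun v => by rw [Units.val_one, one_mul]; exact Q_app (s : O (qOdd m F)) v) hc1
  set R := (((y⁻¹ : Fˣ) : F)) • (qOdd m F).comp (Matrix.mulVecLin (k : Matrix (OI m) (OI m) F)) with hRdef
  have hR : R.polarBilin.Nondegenerate := by
    have key : ∀ x, (∀ z, polar R x z = 0) → x = 0 := by
      intro x hx
      have h0 : ∀ z, polar (qOdd m F) ((k : Matrix (OI m) (OI m) F) *ᵥ x) z = 0 := fun z => by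
        have e := hx (((k⁻¹ : GL (OI m) F) : Matrix (OI m) (OI m) F) *ᵥ z)
        rw [hRdef, polar_smul', mul_eq_zero] at e
        have e' := e.resolve_left (Units.ne_zero _)
        simpa [QuadraticMap.polar, Matrix.mulVec_add, mulVec_mulVec, ← Units.val_mul] using e'
      have h1 := (qOdd_nondegenerate h2).1 _ h0
      have h3 := congrArg (((k⁻¹ : GL (OI m) F) : Matrix (OI m) (OI m) F) *ᵥ ·) h1
      simpa [mulVec_mulVec, ← Units.val_mul] using h3
    exact ⟨key, fun x hx => key x fun z => by rw [polar_comm]; exact hx z⟩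
  have hext := descend_extends hfix
  obtain ⟨k₀, d, hk₀⟩ := exists_similar_qOdd _ (hext.nondeg hR)
  set e := (fixedSub σ).subtype
  set K := GeneralLinearGroup.map e k₀
  have heq : R.comp (Matrix.mulVecLin (K : Matrix (OI m) (OI m) F)) = e (d : fixedSub σ) • qOdd m F := by
    refine Extends.eq_comp (e := e) (Q₀ := (d : fixedSub σ) • qOdd m (fixedSub σ)) ?_ ?_
    · intro w
      show R ((k₀ : Matrix (OI m) (OI m) (fixedSub σ)).map e *ᵥ (e ∘ w)) = _
      rw [map_mulVec_comp, hext, hk₀]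
      rfl
    · intro w
      show e (d : fixedSub σ) * qOdd m F (e ∘ w) = _
      rw [qOdd_extends e w, ← map_mul]
      rfl
  have hsim : ∀ v, qOdd m F (((k * K : GL (OI m) F) : Matrix (OI m) (OI m) F) *ᵥ v) =
      ((y * Units.map e.toMonoidHom d : Fˣ) : F) * qOdd m F v := by
    intro v
    have h3 : ((y⁻¹ : Fˣ) : F) * qOdd m F ((k : Matrix (OI m) (OI m) F) *ᵥ
        ((K : Matrix (OI m) (OI m) F) *ᵥ v)) = e (d : fixedSub σ) * qOdd m F v :=
      by
      have h4 := congrArg (fun P : QuadraticForm F (OI m → F) => P v) heq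
      simp only [hRdef, QuadraticMap.comp_apply, _root_.smul_apply, Matrix.mulVecLin_apply,
        smul_eq_mul] at h4
      exact h4
    rw [Units.val_mul, ← mulVec_mulVec, Units.val_mul, mul_assoc,
      show (Units.map e.toMonoidHom d : F) = e (d : fixedSub σ) from rfl, ← h3, ← mul_assoc,
      Units.mul_inv, one_mul]
  let x : ↥(semiGroup (qOdd m F)) :=
    ⟨SemidirectProduct.inl (k * K), ⟨y * Units.map e.toMonoidHom d, fun v => hsim v⟩⟩
  refine ⟨gAut _ x, mem_range_of_similarity h2 x rfl, ?_⟩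
  have hK : GeneralLinearGroup.map σ.toRingHom K = K := by
    apply Units.ext; ext i j
    exact mem_fixedSub.1 ((k₀ : Matrix (OI m) (OI m) (fixedSub σ)) i j).2
  have hkK : g * GeneralLinearGroup.map σ.toRingHom (k * K) = k * K := by
    rw [map_mul, hK, ← mul_assoc, hk]
  rw [soAut_apply, ← map_mul (gAut (qOdd m F)), ← map_inv (gAut (qOdd m F)) x, ← map_mul (gAut (qOdd m F)),
    ← map_mul (gAut (qOdd m F))]
  refine congrArg (gAut (qOdd m F)) ?_
  apply Subtype.ext
  rw [inl_mul_fEl _ _ rfl]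
  ext1
  · show g = (k * K) * 1 * glAut (OI m) F (1 * σ) (glAut (OI m) F (1 : F ≃+* F)⁻¹ (k * K)⁻¹)
    rw [inv_one, map_one (glAut (OI m) F), MulAut.one_apply, one_mul, mul_one, map_inv]
    exact eq_mul_inv_of_mul_eq hkK
  · show σ = 1 * σ * (1 : F ≃+* F)⁻¹
    rw [inv_one, one_mul, mul_one]

include h2 hm in
/-- The coset criterion, for the standard field automorphism. -/
theorem orderOf_coset_iff (hgamma : Cfsg.gammaPOmega F ⇑(qOdd m F) = ⊤)
    (x δ : MulAut (Cfsg.POmega F ⇑(qOdd m F)))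
    (hx : Cfsg.IsFieldAutClassPOmega (⇑(qOdd m F)) x) {r : ℕ} (hxr : orderOf x = r)
    (hδ : δ ∈ (soAut m F).range) :
    orderOf (δ * x) = r ↔ Cfsg.IsConjUnder (soAut m F).range x (δ * x) := by
  have := normal_range h2 hgamma
  obtain ⟨α, φ, σ, -, hφ, hαφ⟩ := hx
  rw [eq_gAut_of_field (qOdd_fixes σ) hφ] at hαφ
  constructor
  · intro hy
    obtain ⟨s, hs⟩ := (normal_range h2 hgamma).conj_mem δ hδ α
    have e : α * (δ * x) * α⁻¹ = soAut m F s * gAut (qOdd m F) (fEl (qOdd_fixes σ)) := by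
      rw [hs, ← hαφ]; group
    have hσ : orderOf σ = r := by
      rw [← hxr, ← orderOf_injective (MulAut.conj α).toMonoidHom (MulAut.conj α).injective x,
        show (MulAut.conj α).toMonoidHom x = gAut (qOdd m F) (fEl (qOdd_fixes σ)) from hαφ]
      exact orderOf_eq_orderOf σ
    have hpow : (soAut m F s * gAut (qOdd m F) (fEl (qOdd_fixes σ))) ^ orderOf σ = 1 := by
      rw [← e, hσ, conj_pow, ← hy, pow_orderOf_eq_one, mul_one, mul_inv_cancel]
    obtain ⟨β, hβ, hk⟩ := conj_of_pow_eq_one h2 hm σ s hpow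
    rw [← CfsgLib.Split.isConjUnder_map α, e, hαφ]
    exact ⟨β, hβ, hk⟩
  · intro h
    rw [CfsgLib.Split.isConjUnder_orderOf h, hxr]
where
  orderOf_eq_orderOf (σ : F ≃+* F) :
      orderOf σ = orderOf (gAut (qOdd m F) (fEl (qOdd_fixes σ))) :=
    (orderOf_injective ((gAut (qOdd m F)).comp (fieldIn (Q := qOdd m F) qOdd_prime))
      (fun _ _ h => gAut_fEl_injective h2 hm h) σ).symm

include h2 in
theorem mem_omega_iff_chi {d : F} (hd : ¬ IsSquare d) {s : O (qOdd m F)} (hs : s ∈ SO (qOdd m F)) :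
    s ∈ Cfsg.Omega F ⇑(qOdd m F) ↔ chi (qOdd m F) 1 s = 1 := by
  rw [CfsgLib.OrthOmega.mem_omega_odd (qOdd_nondegenerate h2) h2 hd]
  exact ⟨fun h => congrArg Prod.fst h,
    fun h => MonoidHom.mem_ker.1 (chiPair_eq_one_of_SO (qOdd_nondegenerate h2) h2 hd hs h)⟩

theorem soAut_omega (s : ↥(Cfsg.Omega F ⇑(qOdd m F))) (hs : (s : O (qOdd m F)) ∈ SO (qOdd m F)) :
    soAut m F ⟨s, hs⟩ = MulAut.conj (QuotientGroup.mk s : Cfsg.POmega F ⇑(qOdd m F)) := by
  have e : oIn (qOdd m F) (s : O (qOdd m F)) = omegaIn (qOdd m F) s := Subtype.ext rfl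
  rw [soAut_apply, e, gAut_omegaIn]

set_option maxHeartbeats 800000 in
include h2 in
theorem inn_eq : Cfsg.Inn (Cfsg.POmega F ⇑(qOdd m F)) =
    (((⊥ : Subgroup ℤˣ).comap ((chi (qOdd m F) 1).comp (SO (qOdd m F)).subtype))).map (soAut m F) := by
  obtain ⟨d, hd⟩ := CfsgLib.OrthOmega.exists_not_square h2
  ext β
  constructor
  · rintro ⟨y, rfl⟩
    obtain ⟨t, rfl⟩ := QuotientGroup.mk_surjective y
    have ht : (t : O (qOdd m F)) ∈ SO (qOdd m F) :=
      mem_SO.2 (MonoidHom.mem_ker.1 (Abelianization.commutator_subset_ker _ t.2))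
    refine ⟨⟨t, ht⟩, ?_, soAut_omega t ht⟩
    show chi (qOdd m F) 1 (t : O (qOdd m F)) ∈ (⊥ : Subgroup ℤˣ)
    rw [Subgroup.mem_bot]
    exact (mem_omega_iff_chi h2 hd ht).1 t.2
  · rintro ⟨s, hs, rfl⟩
    have hs' : chi (qOdd m F) 1 (s : O (qOdd m F)) = 1 := Subgroup.mem_bot.1 hs
    have hmem := (mem_omega_iff_chi h2 hd s.2).2 hs'
    refine ⟨QuotientGroup.mk ⟨(s : O (qOdd m F)), hmem⟩, ?_⟩
    rw [← soAut_omega ⟨(s : O (qOdd m F)), hmem⟩ s.2]

include h2 in
theorem chi_SO_surjective (hm : 1 ≤ m) :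
    Function.Surjective ((chi (qOdd m F) 1).comp (SO (qOdd m F)).subtype) := by
  obtain ⟨d, hd⟩ := CfsgLib.OrthOmega.exists_not_square h2
  have hi := index_chi_SO (qOdd_nondegenerate (m := m) h2) h2 (by simp; omega) hd (Q := qOdd m F)
  rw [Subgroup.index_ker] at hi
  rw [← MonoidHom.range_eq_top]
  exact Subgroup.eq_top_of_card_eq _ (by rw [hi, Nat.card_eq_fintype_card, Fintype.card_units_int])

include h2 in
theorem chi_mapO_eq_one (hm : 1 ≤ m) {F₀ : Type*} [Field F₀] [Fintype F₀] [DecidableEq F₀] (e : F₀ →+* F)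
    (hsq : ∀ a, IsSquare (e a)) {s : O (qOdd m F₀)} (hs : s ∈ SO (qOdd m F₀)) :
    chi (qOdd m F) 1 ((qOdd_extends e).mapO s) = 1 := by
  have h20 : (2 : F₀) ≠ 0 := fun h => h2 (by rw [← map_ofNat e, h, map_zero])
  have hgen : reflClosure (qOdd m F₀) = ⊤ :=
    reflClosure_eq_top (qOdd_nondegenerate h20) (Or.inr (by simp; omega))
  set f : O (qOdd m F₀) →* F₀ˣ := ((Units.map (Int.castRingHom F₀).toMonoidHom).comp
    (chi (qOdd m F) 1)).comp (qOdd_extends e).mapO
  have hf : f = detHom (qOdd m F₀) := CfsgLib.OrthOmega.hom_ext_refl hgen fun v hv => by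
    show Units.map (Int.castRingHom F₀).toMonoidHom (chi (qOdd m F) 1 ((qOdd_extends e).mapO (refl _ v))) = _
    rw [(qOdd_extends e).mapO_refl, chi_refl h2 (by
      rw [qOdd_extends e v]; exact (map_ne_zero e).2 hv) one_ne_zero, one_mul, qOdd_extends e v,
      if_pos (hsq _), detHom_refl hv]
    ext; simp
  have h1 : f s = 1 := by rw [hf]; exact mem_SO.1 hs
  rcases Int.units_eq_one_or (chi (qOdd m F) 1 ((qOdd_extends e).mapO s)) with h | h
  · exact h
  · exfalso
    simp only [f, MonoidHom.comp_apply, h] at h1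
    have h3 := congrArg Units.val h1
    simp at h3
    exact h20 (by linear_combination -h3)

theorem mapO_mem_SO {F₀ : Type*} [Field F₀] [Fintype F₀] [DecidableEq F₀] (e : F₀ →+* F)
    {s : O (qOdd m F₀)} (hs : s ∈ SO (qOdd m F₀)) : (qOdd_extends e).mapO s ∈ SO (qOdd m F) := by
  rw [mem_SO] at hs ⊢
  rw [Extends.detHom_mapO, hs, map_one]

theorem exists_so_sub {F₀ : Type*} [Field F₀] [Fintype F₀] [DecidableEq F₀] (e : F₀ →+* F)
    {σ : F ≃+* F} (he : ∀ y, σ y = y ↔ ∃ a, e a = y) (s : ↥(SO (qOdd m F)))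
    (h : GeneralLinearGroup.map σ.toRingHom ((s : O (qOdd m F)) : GL (OI m) F) = (s : O (qOdd m F))) :
    ∃ s₀ : ↥(SO (qOdd m F₀)), (qOdd_extends e).mapO (s₀ : O (qOdd m F₀)) = (s : O (qOdd m F)) := by
  obtain ⟨s₀, hs₀⟩ := (qOdd_extends e).exists_mapO (s : O (qOdd m F)) fun i j =>
    (he _).1 (congrArg (fun g : GL (OI m) F => (g : Matrix (OI m) (OI m) F) i j) h)
  refine ⟨⟨s₀, mem_SO.2 ?_⟩, hs₀⟩
  have h3 := mem_SO.1 s.2
  rw [← hs₀, Extends.detHom_mapO] at h3
  exact Units.map_injective (f := e.toMonoidHom) e.injective (h3.trans (map_one _).symm)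

theorem map_fixed {F₀ : Type*} [Field F₀] (e : F₀ →+* F) {σ : F ≃+* F}
    (he : ∀ a, σ (e a) = e a) (s : O (qOdd m F₀)) :
    GeneralLinearGroup.map σ.toRingHom (((qOdd_extends e).mapO s : O (qOdd m F)) : GL (OI m) F) =
      ((qOdd_extends e).mapO s : O (qOdd m F)) := by
  apply Units.ext; ext i j
  exact he _

set_option maxHeartbeats 800000 in
include h2 hm in
theorem nonempty_centralizer_equiv {F₀ : Type*} [Field F₀] [Fintype F₀] [DecidableEq F₀] (e : F₀ →+* F)
    {σ : F ≃+* F} (he : ∀ y, σ y = y ↔ ∃ a, e a = y) :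
    Nonempty (↥((soAut m F).range ⊓ Subgroup.centralizer {gAut (qOdd m F) (fEl (qOdd_fixes σ))}) ≃*
      ↥(soAut m F₀).range) := by
  have h20 : (2 : F₀) ≠ 0 := fun h => h2 (by rw [← map_ofNat e, h, map_zero])
  let M : ↥(SO (qOdd m F₀)) →* ↥(SO (qOdd m F)) :=
    ((qOdd_extends e).mapO.comp (SO (qOdd m F₀)).subtype).codRestrict _ fun s => mapO_mem_SO e s.2
  have hM : Function.Injective M := fun a b h =>
    Subtype.ext ((qOdd_extends e).mapO_injective (congrArg Subtype.val h))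
  let f : ↥(SO (qOdd m F₀)) →* ↥((soAut m F).range ⊓
      Subgroup.centralizer {gAut (qOdd m F) (fEl (qOdd_fixes σ))}) :=
    ((soAut m F).comp M).codRestrict _ fun s => ⟨⟨M s, rfl⟩,
      soAut_fixed_iff σ _ (map_fixed e (fun a => (he _).2 ⟨a, rfl⟩) _)⟩
  have hinj : Function.Injective f := fun a b h =>
    hM (soAut_injective h2 hm (congrArg Subtype.val h))
  have hsurj : Function.Surjective f := by
    rintro ⟨β, hβ⟩
    obtain ⟨s, rfl⟩ := hβ.1
    obtain ⟨s₀, hs₀⟩ := exists_so_sub e he s (fixed_of_centralizes h2 hm σ s hβ.2)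
    have hMs : M s₀ = s := Subtype.ext hs₀
    refine ⟨s₀, Subtype.ext ?_⟩
    show soAut m F (M s₀) = soAut m F s
    rw [hMs]
  exact ⟨((MulEquiv.ofBijective f ⟨hinj, hsurj⟩).symm).trans
    (MonoidHom.ofInjective (soAut_injective h20 hm))⟩

include h2 hm in
theorem splitCount {F₀ : Type*} [Field F₀] [Fintype F₀] [DecidableEq F₀] (e : F₀ →+* F)
    {σ : F ≃+* F} (he : ∀ y, σ y = y ↔ ∃ a, e a = y) :
    (((∀ a, IsSquare (e a)) → Cfsg.splitClassCount (soAut m F).range (Cfsg.Inn (Cfsg.POmega F ⇑(qOdd m F)))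
        (gAut (qOdd m F) (fEl (qOdd_fixes σ))) = 2)) ∧
    ((∀ a, IsSquare (e a) → IsSquare a) → Cfsg.splitClassCount (soAut m F).range
        (Cfsg.Inn (Cfsg.POmega F ⇑(qOdd m F))) (gAut (qOdd m F) (fEl (qOdd_fixes σ))) = 1) := by
  have h20 : (2 : F₀) ≠ 0 := fun h => h2 (by rw [← map_ofNat e, h, map_zero])
  rw [CfsgLib.Split.splitClassCount_eq_index (soAut m F) _ (chi_SO_surjective h2 (by omega)) ⊥ rfl
    (inn_eq h2), bot_sup_eq]
  constructor
  · intro hsq
    refine (congrArg Subgroup.index ((Subgroup.eq_bot_iff_forall _).2 ?_)).trans (by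
      rw [Subgroup.index_bot, Nat.card_eq_fintype_card, Fintype.card_units_int])
    rintro _ ⟨s, hs, rfl⟩
    obtain ⟨s₀, hs₀⟩ := exists_so_sub e he s (fixed_of_centralizes h2 hm σ s hs)
    show chi (qOdd m F) 1 (s : O (qOdd m F)) = 1
    rw [← hs₀]
    exact chi_mapO_eq_one h2 (by omega) e hsq s₀.2
  · intro hns
    rw [Subgroup.index_eq_one, Subgroup.eq_top_iff']
    obtain ⟨d, hd⟩ := CfsgLib.OrthOmega.exists_not_square h20
    have hd' : ¬ IsSquare (e d) := fun h => hd (hns d h)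
    have hd0 : d ≠ 0 := fun h => hd (h ▸ IsSquare.zero)
    obtain ⟨v, hv⟩ := exists_value_ne (Q := qOdd m F₀) (qOdd_nondegenerate h20) h20 (by simp; omega) hd0
    have hmem : refl (qOdd m F₀) v * refl (qOdd m F₀) (e0 m F₀) ∈ SO (qOdd m F₀) := by
      rw [mem_SO, map_mul, detHom_refl (by rw [hv]; exact hd0),
        detHom_refl (by rw [qOdd_e0]; exact one_ne_zero)]
      simp
    intro u
    rcases Int.units_eq_one_or u with rfl | rfl
    · exact one_mem _
    · refine ⟨⟨(qOdd_extends e).mapO (refl (qOdd m F₀) v * refl (qOdd m F₀) (e0 m F₀)),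
        mapO_mem_SO e hmem⟩, soAut_fixed_iff σ _ (map_fixed e (fun a => (he _).2 ⟨a, rfl⟩) _), ?_⟩
      show chi (qOdd m F) 1 ((qOdd_extends e).mapO _) = -1
      have hne : ∀ w, qOdd m F₀ w ≠ 0 → qOdd m F (e ∘ w) ≠ 0 := fun w hw => by
        rw [qOdd_extends e w]; exact (map_ne_zero e).2 hw
      rw [map_mul (qOdd_extends e).mapO, map_mul, (qOdd_extends e).mapO_refl, (qOdd_extends e).mapO_refl,
        chi_refl h2 (hne _ (by rw [hv]; exact hd0)) one_ne_zero,
        chi_refl h2 (hne _ (by rw [qOdd_e0]; exact one_ne_zero)) one_ne_zero,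
        qOdd_extends e, qOdd_extends e, hv, qOdd_e0, map_one, one_mul, mul_one, if_neg hd',
        if_pos IsSquare.one, one_mul]

end CfsgLib.FieldPOmega
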