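import Cfsg.Agent.Lib.AutPOmega.Structure
import Cfsg.Agent.Lib.POmega.Simple
import Cfsg.Agent.Lib.AutPSL.FieldGalois

/-!
The automorphisms of `PΩ(Q)` induced by semisimilarities: composition, powers, and the ones fixing the
root elements of a frame.
-/

set_option autoImplicit false
set_option linter.unusedSectionVars false

namespace CfsgLib.AutPOmega

open Matrix QuadraticMap CfsgLib.Orth CfsgLib.FieldGalois

variable {ι : Type} [Fintype ι] [DecidableEq ι] {F : Type*} [Field F] {Q : QuadraticForm F (ι → F)}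
  {w : ℕ}

namespace Semi

/-- Composition of semisimilarities. -/
def mul (p p' : Semi Q) : Semi Q where
  g := p.g * Matrix.GeneralLinearGroup.map p.σ.toRingHom p'.g
  σ := p.σ * p'.σ
  c := p.c * Units.map p.σ.toMonoidHom p'.c
  spec v := by
    have h : ((p.g * Matrix.GeneralLinearGroup.map p.σ.toRingHom p'.g : GL ι F) : Matrix ι ι F) *ᵥ
        (fun i => (p.σ * p'.σ) (v i)) = p.ap (p'.ap v) := by
      rw [Units.val_mul, ← Matrix.mulVec_mulVec]
      exact congrArg ((p.g : Matrix ι ι F) *ᵥ ·)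
        (funext fun i => (RingHom.map_mulVec p.σ.toRingHom (p'.g : Matrix ι ι F) (⇑p'.σ ∘ v) i).symm)
    rw [h, p.Q_ap, p'.Q_ap, map_mul, ← mul_assoc]
    rfl

theorem aut_congr {p p' : Semi Q} (h : ∀ s, p.glAut s = p'.glAut s) : p.aut = p'.aut := by
  apply MulEquiv.ext
  intro x
  induction x using QuotientGroup.induction_on with
  | H s =>
    rw [aut_mk, aut_mk]
    exact congrArg _ (Subtype.ext (Subtype.ext (h _)))

theorem aut_mul (p p' : Semi Q) : (p.mul p').aut = p.aut * p'.aut := by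
  apply MulEquiv.ext
  intro x
  induction x using QuotientGroup.induction_on with
  | H s =>
    rw [MulAut.mul_apply, aut_mk, aut_mk, aut_mk]
    refine congrArg _ (Subtype.ext (Subtype.ext ?_))
    show (p.mul p').glAut _ = p.glAut (p'.glAut _)
    apply Units.ext
    simp only [glAut_coe, mul, Matrix.map_mul, _root_.mul_inv_rev, Units.val_mul, Matrix.mul_assoc]
    rw [← map_inv]
    rfl

variable (Q) in
/-- The identity. -/
def one : Semi Q where
  g := 1
  σ := 1
  c := 1
  spec v := by rw [Units.val_one, Matrix.one_mulVec, Units.val_one, one_mul]; rfl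

theorem aut_one : (one Q).aut = 1 := by
  apply MulEquiv.ext
  intro x
  induction x using QuotientGroup.induction_on with
  | H s =>
    rw [aut_mk]
    refine congrArg _ (Subtype.ext (Subtype.ext (Units.ext ?_)))
    show ((one Q).glAut _ : Matrix ι ι F) = _
    rw [glAut_coe]
    simp [one]

/-- Powers. -/
def npow (p : Semi Q) : ℕ → Semi Q
  | 0 => one Q
  | k + 1 => p.mul (npow p k)

theorem aut_npow (p : Semi Q) (k : ℕ) : (p.npow k).aut = p.aut ^ k := by
  induction k with
  | zero => rw [npow, aut_one, pow_zero]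
  | succ k ih => rw [npow, aut_mul, ih, pow_succ']

theorem npow_σ (p : Semi Q) (k : ℕ) : (p.npow k).σ = p.σ ^ k := by
  induction k with
  | zero => rfl
  | succ k ih => show p.σ * (p.npow k).σ = _; rw [ih, pow_succ']

theorem npow_g (p : Semi Q) (k : ℕ) : (p.npow k).g = cocy p.σ p.g k := by
  induction k with
  | zero => rfl
  | succ k ih => show p.g * _ = _; rw [ih]; rfl

theorem aut_ofO_conj (s : Om Q) : (ofO s.1).aut = MulAut.conj (QuotientGroup.mk s : PG Q) := by
  apply MulEquiv.ext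
  intro x
  induction x using QuotientGroup.induction_on with
  | H t =>
    rw [aut_mk, MulAut.conj_apply, ← QuotientGroup.mk_inv, ← QuotientGroup.mk_mul, ← QuotientGroup.mk_mul]
    exact congrArg _ (Subtype.ext (Subtype.ext (Units.ext rfl)))

end Semi

namespace Frame

variable (S : Frame Q w)
include S

/-- Every automorphism is induced by a semisimilarity. -/
theorem exists_semi_aut [Fintype F] (hx : S.Roomy) (β : MulAut (PG Q)) : ∃ p : Semi Q, β = p.aut := by
  have h : β ∈ Cfsg.gammaPOmega F ⇑Q := by rw [S.gamma_eq_top hx]; trivial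
  rw [Cfsg.gammaPOmega, Cfsg.autSubgroupOf] at h
  induction h using Subgroup.closure_induction with
  | mem β hβ =>
    obtain ⟨g, σ, ⟨c, hc⟩, hi⟩ := hβ
    let p : Semi Q := ⟨g, σ, c, hc⟩
    refine ⟨p, MulEquiv.ext fun x => ?_⟩
    induction x using QuotientGroup.induction_on with
    | H s => exact hi s (p.omAut s) rfl
  | one => exact ⟨Semi.one Q, Semi.aut_one.symm⟩
  | mul a b _ _ ha hb =>
    obtain ⟨p, rfl⟩ := ha
    obtain ⟨p', rfl⟩ := hb
    exact ⟨p.mul p', (Semi.aut_mul p p').symm⟩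
  | inv a _ ha =>
    obtain ⟨p, rfl⟩ := ha
    refine ⟨p.npow (orderOf p.aut - 1), ?_⟩
    rw [Semi.aut_npow, inv_eq_iff_mul_eq_one, ← pow_succ', Nat.sub_add_cancel (orderOf_pos _),
      pow_orderOf_eq_one]

/-- A semisimilarity fixing the root elements `rt (x k) (t x l)`, `t ∈ T`, and `rt (x k) a`, `a ∈ Z`. -/
theorem scalar_of_fix_frame (p : Semi Q) (T : Set F) (h1T : (1 : F) ∈ T) (Z : Set (ι → F))
    (hZ : ∀ a ∈ Z, S.Perp a)
    (hT : ∀ k l : Fin w × Bool, k.1 ≠ l.1 → ∀ t ∈ T, p.aut (S.rt (S.x k) (t • S.x l)) = S.rt (S.x k) (t • S.x l))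
    (hfZ : ∀ k : Fin w × Bool, ∀ a ∈ Z, p.aut (S.rt (S.x k) a) = S.rt (S.x k) a) :
    ∃ e : F, e ≠ 0 ∧ (p.c : F) = e * e ∧ (∀ t ∈ T, p.σ t = t) ∧ (∀ k, p.ap (S.x k) = e • S.x k) ∧
      ∀ a ∈ Z, p.ap a = e • a := by
  have hQ := S.nondeg
  have key : ∀ (k : Fin w × Bool) (a : ι → F), polar Q (S.x k) a = 0 →
      p.aut (S.rt (S.x k) a) = S.rt (S.x k) a →
      eich Q (p.ap (S.x k)) ((p.c⁻¹ : Fˣ) • p.ap a) = eich Q (S.x k) a ∧
        Q (p.ap (S.x k)) = 0 ∧ polar Q (p.ap (S.x k)) ((p.c⁻¹ : Fˣ) • p.ap a) = 0 := by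
    intro k a ha h
    have h1 : Q (p.ap (S.x k)) = 0 := by rw [p.Q_ap, S.sing, map_zero, mul_zero]
    have h2 : polar Q (p.ap (S.x k)) ((p.c⁻¹ : Fˣ) • p.ap a) = 0 := by
      rw [Units.smul_def, polar_smul_right, p.polar_ap, ha, map_zero, mul_zero, smul_zero]
    rw [Semi.aut_rt p S (S.sing k) ha] at h
    exact ⟨S.eich_eq_of_rt_eq h1 h2 (S.sing k) ha h, h1, h2⟩
  have hmem : ∀ k l : Fin w × Bool, k.1 ≠ l.1 → p.ap (S.x k) ∈ Submodule.span F {S.x k, S.x l} := fun k l hkl => by
    have hp : polar Q (S.x k) ((1 : F) • S.x l) = 0 := by rw [one_smul]; exact S.pair_fst hkl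
    obtain ⟨he, h1, h2⟩ := key k _ hp (hT k l hkl 1 h1T)
    rw [one_smul] at he h2 hp
    have hi : LinearIndependent F ![p.ap (S.x k), ((p.c⁻¹ : Fˣ) : F) • p.ap (S.x l)] := by
      rw [LinearIndependent.pair_iff' (p.ap_ne_zero (S.ne_zero k))]
      intro a ha
      have hi' := p.indep_two (u := S.x k) (a := S.x l) (by
        have := S.linearIndependent.comp ![k, l] (by
          intro i j h; fin_cases i <;> fin_cases j <;> simp_all [ne_of_fst hkl, (ne_of_fst hkl).symm])
        rw [show ![S.x k, S.x l] = S.x ∘ ![k, l] by funext i; fin_cases i <;> rfl]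
        exact this)
      rw [LinearIndependent.pair_iff' (p.ap_ne_zero (S.ne_zero k))] at hi'
      refine hi' (((p.c : Fˣ) : F) * a) ?_
      rw [← smul_smul, ha, smul_smul, Units.val_inv_eq_inv_val, mul_inv_cancel₀ (Units.ne_zero _), one_smul]
    obtain ⟨y, hy⟩ := mem_moved_left hQ h1 h2 hi
    rw [← hy, he]
    exact moved_mem (S.sing k) hp y
  have heig : ∀ k, ∃ c : F, p.ap (S.x k) = c • S.x k := fun k => by
    obtain ⟨i, hik, -⟩ := S.exists_third k.1 k.1
    obtain ⟨j, hjk, hji⟩ := S.exists_third k.1 i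
    obtain ⟨a, b, h1⟩ := Submodule.mem_span_pair.1 (hmem k (i, true) (Ne.symm hik))
    obtain ⟨a', b', h2⟩ := Submodule.mem_span_pair.1 (hmem k (j, true) (Ne.symm hjk))
    have hb : b = 0 := by
      have := congrArg (fun v => polar Q v (S.x (opp (i, true)))) (h1.trans h2.symm)
      simpa [polar_add_left, polar_smul_left, S.pair_opp,
        S.pair_fst (k := k) (l := opp (i, true)) (Ne.symm hik),
        S.pair_fst (k := (j, true)) (l := opp (i, true)) hji] using this
    exact ⟨a, by rw [← h1, hb, zero_smul, add_zero]⟩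
  choose lam hlam using heig
  have hlam0 : ∀ k, lam k ≠ 0 := fun k h => p.ap_ne_zero (S.ne_zero k) (by rw [hlam, h, zero_smul])
  have hprod : ∀ k l, k.1 ≠ l.1 → ∀ t ∈ T, lam k * lam l * p.σ t = (p.c : F) * t := fun k l hkl t ht => by
    have hp : polar Q (S.x k) (t • S.x l) = 0 := by rw [polar_smul_right, S.pair_fst hkl, smul_zero]
    obtain ⟨he, -, h2⟩ := key k _ hp (hT k l hkl t ht)
    rw [p.ap_smul, hlam, hlam, Units.smul_def, smul_smul, smul_smul] at he h2
    rw [eich_smul_left (S.sing k) (by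
      rw [polar_smul_right, S.pair_fst hkl, smul_zero]), smul_smul] at he
    have h' := eich_injective hQ (S.ne_zero k) (S.sing k) (by
      rw [polar_smul_right, S.pair_fst hkl, smul_zero]) hp he
    obtain ⟨r, hr⟩ := Submodule.mem_span_singleton.1 h'
    have := congrArg (fun v => polar Q v (S.x (opp l))) hr
    simp [polar_sub_left, polar_smul_left, S.pair_opp, S.pair_fst (k := k) (l := opp l) hkl] at this
    have hc := Units.ne_zero p.c
    field_simp at this
    linear_combination -this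
  set k₀ : Fin w × Bool := (⟨0, by have := S.le; omega⟩, true)
  have hone : ∀ k l, k.1 ≠ l.1 → lam k * lam l = (p.c : F) := fun k l hkl => by
    have := hprod k l hkl 1 h1T
    rwa [map_one, mul_one, mul_one] at this
  have hall : ∀ k, lam k = lam k₀ := fun k => by
    obtain ⟨i, h1, h2⟩ := S.exists_third k.1 k₀.1
    exact mul_right_cancel₀ (hlam0 (i, true))
      ((hone k (i, true) (Ne.symm h1)).trans (hone k₀ (i, true) (Ne.symm h2)).symm)
  obtain ⟨i, hi, -⟩ := S.exists_third k₀.1 k₀.1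
  have hcc : (p.c : F) = lam k₀ * lam k₀ := by
    rw [← hone k₀ (i, true) (Ne.symm hi), hall (i, true)]
  refine ⟨lam k₀, hlam0 _, hcc, fun t ht => ?_, fun k => by rw [hlam, hall], fun a ha => ?_⟩
  · have := hprod k₀ (i, true) (Ne.symm hi) t ht
    rw [hone _ _ (Ne.symm hi)] at this
    exact mul_left_cancel₀ (Units.ne_zero p.c) this
  · have ha' : polar Q (S.x k₀) a = 0 := by rw [polar_comm, hZ a ha]
    have hza : S.Perp (p.ap a) := fun k => by
      have := p.polar_ap a (S.x k)
      rw [hZ a ha k, map_zero, mul_zero, hlam, polar_smul_right] at this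
      exact (smul_eq_zero.1 this).resolve_left (hlam0 k)
    have hza' : polar Q (S.x k₀) ((p.c⁻¹ : Fˣ) • p.ap a) = 0 := by
      rw [Units.smul_def, polar_smul_right, polar_comm, hza, smul_zero]
    obtain ⟨he, -, -⟩ := key k₀ a ha' (hfZ k₀ a ha)
    rw [hlam, eich_smul_left (S.sing _) hza'] at he
    obtain ⟨r, hr⟩ := Submodule.mem_span_singleton.1 (eich_injective hQ (S.ne_zero _) (S.sing _)
      (by rw [polar_smul_right, hza', smul_zero]) ha' he)
    have h0 := congrArg (fun v => polar Q v (S.x (opp k₀))) hr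
    simp [polar_sub_left, polar_smul_left, Units.smul_def, S.pair_opp, hza _, hZ a ha _] at h0
    rw [h0, zero_smul, eq_comm, sub_eq_zero, Units.smul_def, smul_smul, Units.val_inv_eq_inv_val] at hr
    have hc := Units.ne_zero p.c
    have he0 := hlam0 k₀
    conv_rhs => rw [← hr, smul_smul]
    rw [show lam k₀ * (lam k₀ * (p.c : F)⁻¹) = 1 by rw [hcc]; field_simp, one_smul]

/-- A semisimilarity inducing the identity is a scalar. -/
theorem scalar_of_aut_eq_one (p : Semi Q) (h : p.aut = 1) :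
    p.σ = 1 ∧ ∃ e : F, e ≠ 0 ∧ (p.c : F) = e * e ∧ (p.g : Matrix ι ι F) = e • (1 : Matrix ι ι F) := by
  obtain ⟨e, he0, hc, hσ, hx, hz⟩ := S.scalar_of_fix_frame p Set.univ trivial {a | S.Perp a}
    (fun a ha => ha) (fun k l _ t _ => by rw [h]; rfl) (fun k a _ => by rw [h]; rfl)
  have hσ1 : p.σ = 1 := RingEquiv.ext fun t => hσ t trivial
  refine ⟨hσ1, e, he0, hc, Matrix.ext_of_mulVec_single fun i => ?_⟩
  have hap : ∀ v, p.ap v = (p.g : Matrix ι ι F) *ᵥ v := fun v => by
    rw [Semi.ap, hσ1]; rfl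
  have hlin : ∀ v, p.ap v = e • v := fun v => by
    rw [hap, S.decomp v, Matrix.mulVec_add, Matrix.mulVec_sum, smul_add, Finset.smul_sum, ← hap]
    refine congrArg₂ (· + ·) (hz _ (S.perp_proj v)) (Finset.sum_congr rfl fun k _ => ?_)
    rw [Matrix.mulVec_smul, ← hap, hx, smul_comm]
  rw [← hap, hlin, Matrix.smul_mulVec, Matrix.one_mulVec]

/-- `PΩ` embeds in its automorphism group. -/
theorem conj_injective [Fintype F] : Function.Injective (MulAut.conj : PG Q →* MulAut (PG Q)) := by
  refine (injective_iff_map_eq_one _).mpr fun x hx => ?_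
  induction x using QuotientGroup.induction_on with
  | H s =>
    rw [← Semi.aut_ofO_conj] at hx
    obtain ⟨-, e, -, -, he⟩ := S.scalar_of_aut_eq_one _ hx
    refine (QuotientGroup.eq_one_iff _).mpr (CfsgLib.POmega.mem_center_of_scalar (e := e) fun v => ?_)
    show ((s.1.1 : GL ι F) : Matrix ι ι F) *ᵥ v = e • v
    rw [show ((s.1.1 : GL ι F) : Matrix ι ι F) = e • (1 : Matrix ι ι F) from he, Matrix.smul_mulVec,
      Matrix.one_mulVec]

end Frame

end CfsgLib.AutPOmega
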