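import Cfsg.Agent.Lib.AutPOmega.FieldBase
import Cfsg.Agent.Helper57OutMinusOdd
import Cfsg.Agent.Helper57WittBasis
import Cfsg.Agent.Lib.POmega.Forms

/-!
Isometry of anisotropic binary forms over a finite field, and recognition of the minus-type form.
-/

set_option autoImplicit false
set_option linter.unusedSectionVars false

namespace CfsgLib.FieldPOmega

open Matrix QuadraticMap CfsgLib.Orth Cfsg.Agent.GammaO57

variable {F : Type*} [Field F]

/-- The binary form `z₁² + a z₁ z₂ + b z₂²`. -/
def planeVal (a b : F) (z : Fin 2 → F) : F := z 0 ^ 2 + a * z 0 * z 1 + b * z 1 ^ 2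

/-- The binary form is anisotropic. -/
abbrev Aniso (a b : F) : Prop :=
  ∀ z₁ z₂ : F, z₁ ^ 2 + a * z₁ * z₂ + b * z₂ ^ 2 = 0 → z₁ = 0 ∧ z₂ = 0

theorem minusQ_split (k : ℕ) (a b : F) (v : MI k → F) :
    minusQ k F a b v = (∑ i, v (.inl (.inl i)) * v (.inl (.inr i))) + planeVal a b (v ∘ Sum.inr) := by
  rw [minusQ_coe]
  rfl

/-- Two anisotropic binary forms are isometric. -/
theorem exists_plane_iso [Fintype F] {a b a' b' : F} (hab : Aniso a b) (hab' : Aniso a' b') :
    ∃ M : Matrix (Fin 2) (Fin 2) F, M.det ≠ 0 ∧ ∀ z, planeVal a' b' (M *ᵥ z) = planeVal a b z := by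
  by_cases h2 : (2 : F) = 0
  · have : CharP F 2 := CharTwo.of_one_ne_zero_of_two_eq_zero one_ne_zero h2
    have ha : a ≠ 0 := Cfsg.Agent.InvolForm57.minus_a_ne_zero hab
    have ha' : a' ≠ 0 := Cfsg.Agent.InvolForm57.minus_a_ne_zero hab'
    let L : F →+ F :=
      { toFun := fun t => t ^ 2 + t
        map_zero' := by simp
        map_add' := fun x y => by linear_combination (x * y) * h2 }
    have hker : Nat.card L.ker = 2 := by
      rw [Nat.card_eq_two_iff]
      refine ⟨⟨0, by simp⟩, ⟨1, by simp [AddMonoidHom.mem_ker, L, one_add_one_eq_two, h2]⟩,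
        fun h => zero_ne_one (congrArg Subtype.val h), ?_⟩
      apply Set.eq_univ_of_forall
      rintro ⟨t, ht⟩
      have ht' : t * (t + 1) = 0 := by
        have h : t ^ 2 + t = 0 := ht
        linear_combination h
      rcases mul_eq_zero.1 ht' with h | h
      · exact Or.inl (Subtype.ext h)
      · exact Or.inr (Subtype.ext (show t = 1 by linear_combination h - h2))
    have hidx : L.range.index = 2 := by
      have h1 := L.range.card_mul_index
      have h3 := L.ker.card_mul_index
      rw [AddSubgroup.index_ker, hker] at h3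
      rw [← h3, mul_comm 2] at h1
      exact Nat.eq_of_mul_eq_mul_left Nat.card_pos h1
    have key : ∀ {c d : F}, c ≠ 0 → Aniso c d → d / c ^ 2 ∉ L.range := by
      rintro c d hc hcd ⟨t, ht⟩
      have h : t ^ 2 + t = d / c ^ 2 := ht
      have h' := (hcd (c * t) 1 (by
        field_simp at h
        linear_combination h + d * h2)).2
      exact one_ne_zero h'
    obtain ⟨s, hs⟩ : b / a ^ 2 + b' / a' ^ 2 ∈ L.range :=
      (AddSubgroup.add_mem_iff_of_index_two hidx).2 (iff_of_false (key ha hab) (key ha' hab'))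
    have hs' : s ^ 2 + s = b / a ^ 2 + b' / a' ^ 2 := hs
    refine ⟨!![1, s * a; 0, a / a'], by simp [Matrix.det_fin_two, ha, ha'], fun z => ?_⟩
    simp only [planeVal, Matrix.mulVec, dotProduct, Fin.sum_univ_two, Matrix.of_apply, Matrix.cons_val',
      Matrix.cons_val_zero, Matrix.cons_val_one, Matrix.empty_val', Matrix.cons_val_fin_one]
    field_simp at hs' ⊢
    linear_combination (z 1) ^ 2 * hs' + (s * a * a' ^ 2 * z 0 * z 1 + b' * a ^ 2 * (z 1) ^ 2) * h2
  · have hd := not_isSquare_delta h2 hab
    have hd' := not_isSquare_delta h2 hab'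
    have hd0 : a ^ 2 - 4 * b ≠ 0 := fun h => hd (h ▸ IsSquare.zero)
    have hd0' : a' ^ 2 - 4 * b' ≠ 0 := fun h => hd' (h ▸ IsSquare.zero)
    have hchar : ringChar F ≠ 2 := fun h => h2 (by
      have := ringChar.spec F 2
      rw [h] at this
      exact_mod_cast this.2 dvd_rfl)
    obtain ⟨r, hr⟩ : IsSquare ((a ^ 2 - 4 * b) / (a' ^ 2 - 4 * b')) := by
      rw [FiniteField.isSquare_iff hchar (div_ne_zero hd0 hd0'), div_pow]
      rw [FiniteField.isSquare_iff hchar hd0] at hd
      rw [FiniteField.isSquare_iff hchar hd0'] at hd'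
      rw [(FiniteField.pow_dichotomy hchar hd0).resolve_left hd,
        (FiniteField.pow_dichotomy hchar hd0').resolve_left hd', div_self (by simp)]
    have hr' : r * r * (a' ^ 2 - 4 * b') = a ^ 2 - 4 * b := by
      rw [← hr, div_mul_cancel₀ _ hd0']
    have hr0 : r ≠ 0 := fun h => hd0 (by rw [← hr', h, zero_mul, zero_mul])
    refine ⟨!![1, a / 2 - a' * r / 2; 0, r], by simp [Matrix.det_fin_two, hr0], fun z => ?_⟩
    simp only [planeVal, Matrix.mulVec, dotProduct, Fin.sum_univ_two, Matrix.of_apply, Matrix.cons_val',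
      Matrix.cons_val_zero, Matrix.cons_val_one, Matrix.empty_val', Matrix.cons_val_fin_one]
    field_simp
    linear_combination (-(z 1) ^ 2) * hr'

/-- The minus-type forms of one dimension are isometric. -/
theorem exists_minus_iso [Fintype F] (k : ℕ) {a b a' b' : F} (hab : Aniso a b) (hab' : Aniso a' b') :
    ∃ T : GL (MI k) F, ∀ v, minusQ k F a' b' ((T : Matrix (MI k) (MI k) F) *ᵥ v) = minusQ k F a b v := by
  obtain ⟨M, hM, h⟩ := exists_plane_iso hab hab'
  have hdet : (blk k 1 M).det ≠ 0 := by rw [det_blk]; simpa using hM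
  refine ⟨GeneralLinearGroup.mkOfDetNeZero (blk k 1 M) hdet, fun v => ?_⟩
  show minusQ k F a' b' (blk k 1 M *ᵥ v) = _
  rw [blk_mulVec, minusQ_split, minusQ_split]
  congr 1
  · simp
  · exact h _

/-- A non-degenerate form without totally singular subspace of dimension `k+1` is of minus type. -/
theorem exists_iso_minusQ {K : Type*} [Field K] [Fintype K] {k : ℕ} {a b : K} (hab : Aniso a b)
    (R : QuadraticForm K (MI k → K)) (hR : R.polarBilin.Nondegenerate)
    (hts : ∀ U : Submodule K (MI k → K), (∀ u ∈ U, R u = 0) → Module.finrank K U ≤ k) :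
    ∃ T : GL (MI k) K, ∀ w, R ((T : Matrix (MI k) (MI k) K) *ᵥ w) = minusQ k K a b w := by
  classical
  obtain ⟨S⟩ := Cfsg.Agent.WittBasis57.exists_split R ⊤ (Cfsg.Agent.WittBasis57.nondeg_top R hR)
  have hdim := S.dim
  rw [finrank_top, Module.finrank_fintype_fun_eq_card] at hdim
  have hU2 := Cfsg.Agent.WittBasis57.finrank_le_two R S.aniso
  have hek : S.k ≤ k := by
    have hli : LinearIndependent K S.e := by
      rw [Fintype.linearIndependent_iff]
      intro g hg i
      have := congrArg (QuadraticMap.polarBilin R (S.f i)) hg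
      simpa [map_sum, map_smul, Cfsg.Agent.WittBasis57.polarBilin_comm R (S.f i) (S.e _), S.ef,
        eq_comm] using this
    have h := hts (Submodule.span K (Set.range S.e)) fun u hu => by
      induction hu using Submodule.span_induction with
      | mem x hx => obtain ⟨i, rfl⟩ := hx; exact S.Qe i
      | zero => exact map_zero R
      | add x y hx hy ihx ihy =>
        rw [Cfsg.Agent.WittBasis57.map_add', ihx, ihy, zero_add, zero_add]
        refine LinearMap.mem_ker.1 (?_ : y ∈ LinearMap.ker (QuadraticMap.polarBilin R x))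
        refine (Submodule.span_le.2 ?_) hy
        rintro _ ⟨j, rfl⟩
        refine LinearMap.mem_ker.2 ?_
        rw [Cfsg.Agent.WittBasis57.polarBilin_comm]
        refine LinearMap.mem_ker.1 ((Submodule.span_le.2 ?_) hx)
        rintro _ ⟨i, rfl⟩
        exact LinearMap.mem_ker.2 (S.ee j i)
      | smul c x _ ihx => rw [QuadraticMap.map_smul, ihx, smul_zero]
    rwa [finrank_span_eq_card hli, Fintype.card_fin] at h
  simp only [Fintype.card_sum, Fintype.card_fin] at hdim
  obtain ⟨n, e, f, U, U_le, e_mem, f_mem, Qe, Qf, ef, ee, ff, eU, fU, nd, aniso, dim⟩ := S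
  dsimp only at hdim hU2 hek
  have hU : Module.finrank K U = 2 := by omega
  obtain rfl : k = n := by omega
  let S : Cfsg.Agent.WittBasis57.Split R ⊤ :=
    ⟨k, e, f, U, U_le, e_mem, f_mem, Qe, Qf, ef, ee, ff, eU, fU, nd, aniso, dim⟩
  obtain ⟨x, hx, y, hy, hQx, hxy, hli, hroot⟩ :=
    Cfsg.Agent.WittBasis57.exists_plane_basis R hU nd aniso
  have hA1 : Aniso (1 : K) (R y) := by
    intro z₁ z₂ h
    by_cases hz : z₂ = 0
    · exact ⟨by simpa [hz] using h, hz⟩
    · exfalso
      exact hroot (z₁ / z₂) (by field_simp; linear_combination h)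
  obtain ⟨T₁, hT₁⟩ := exists_minus_iso k hab hA1
  have hli' := Cfsg.Agent.WittBasis57.split_indep R S (u := ![x, y]) hli fun i => by
    show _ ∈ U
    fin_cases i <;> simp [hx, hy]
  set col : MI k → (MI k → K) := Sum.elim (Sum.elim e f) ![x, y]
  let A : Matrix (MI k) (MI k) K := Matrix.of fun i j => col j i
  have hA : IsUnit A := Matrix.linearIndependent_cols_iff_isUnit.mp hli'
  have hsingle : ∀ j, A *ᵥ Pi.single j 1 = col j := fun j => by
    rw [Matrix.mulVec_single_one]; rfl
  have key : R.comp A.mulVecLin = minusQ k K 1 (R y) := by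
    refine ext_of_basis (fun j => ?_) (fun i j => ?_)
    · rw [QuadraticMap.comp_apply, Matrix.mulVecLin_apply, hsingle, minusQ_coe]
      rcases j with (j | j) | j
      · simp [col, Qe, Cfsg.quadFormMinus, Pi.single_apply]
      · simp [col, Qf, Cfsg.quadFormMinus, Pi.single_apply]
      · fin_cases j <;> simp [col, hQx, Cfsg.quadFormMinus, Pi.single_apply]
    · have hpol : polar (R.comp A.mulVecLin) (Pi.single i 1) (Pi.single j 1) =
          QuadraticMap.polarBilin R (col i) (col j) := by
        rw [← hsingle i, ← hsingle j]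
        simp [QuadraticMap.polar, Matrix.mulVec_add]
      rw [hpol, polar_minusQ]
      have heu : ∀ i (l : Fin 2), QuadraticMap.polarBilin R (e i) (![x, y] l) = 0 := fun i l =>
        eU i _ (by fin_cases l <;> simp [hx, hy])
      have hfu : ∀ i (l : Fin 2), QuadraticMap.polarBilin R (f i) (![x, y] l) = 0 := fun i l =>
        fU i _ (by fin_cases l <;> simp [hx, hy])
      have hxx : QuadraticMap.polarBilin R x x = 2 := by
        rw [Cfsg.Agent.WittBasis57.polarBilin_self, hQx, mul_one]
      have hyy : QuadraticMap.polarBilin R y y = 2 * R y := Cfsg.Agent.WittBasis57.polarBilin_self R y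
      have hyx : QuadraticMap.polarBilin R y x = 1 := by
        rw [Cfsg.Agent.WittBasis57.polarBilin_comm]; exact hxy
      have hc := Cfsg.Agent.WittBasis57.polarBilin_comm R
      rcases i with (i | i) | i <;> rcases j with (j | j) | j <;> simp only [col, Sum.elim_inl, Sum.elim_inr]
      · simp [ee]
      · simp [ef, Pi.single_apply, eq_comm]
      · rw [heu]; simp [Pi.single_apply]
      · rw [hc, ef]; simp [Pi.single_apply, eq_comm]
      · simp [ff]
      · rw [hfu]; simp [Pi.single_apply]
      · rw [hc, heu]; simp [Pi.single_apply]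
      · rw [hc, hfu]; simp [Pi.single_apply]
      · fin_cases i <;> fin_cases j <;> simp [hxx, hyy, hyx, hxy, Pi.single_apply]
  refine ⟨hA.unit * T₁, fun w => ?_⟩
  rw [Units.val_mul, ← mulVec_mulVec, ← hT₁, ← key]
  rfl

end CfsgLib.FieldPOmega
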