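import Cfsg.Agent.Lib.AutPOmega.MinusPlane
import Cfsg.Agent.Lib.OrthOmega.Classes
import Cfsg.Agent.Lib.UnitaryEmbed.Realify
import Cfsg.Agent.Lib.Forms.Witt

/-!
The proper similarities of a minus-type form, and `Inndiag(PΩ⁻)`.
-/

set_option autoImplicit false
set_option linter.unusedSectionVars false

namespace CfsgLib.FieldPOmega

open Matrix QuadraticMap CfsgLib.Orth Cfsg.Agent.GammaO57

theorem minusQ_extends {F F₀ : Type*} [Field F] [Field F₀] (e : F₀ →+* F) (k : ℕ) (a b : F₀) :
    Extends e (minusQ k F₀ a b) (minusQ k F (e a) (e b)) := fun w => by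
  simp [minusQ_coe, Cfsg.quadFormMinus, map_sum]

/-- Non-degeneracy passes up to extensions. -/
theorem Extends.nondeg_up {F F₀ : Type*} [Field F] [Field F₀] {ι : Type} [Fintype ι] [DecidableEq ι]
    {e : F₀ →+* F} {Q₀ : QuadraticForm F₀ (ι → F₀)} {Q : QuadraticForm F (ι → F)}
    (h : Extends e Q₀ Q) (h0 : Q₀.polarBilin.Nondegenerate) : Q.polarBilin.Nondegenerate := by
  have hM : LinearMap.toMatrix₂' F Q.polarBilin = (LinearMap.toMatrix₂' F₀ Q₀.polarBilin).map e := by
    ext i j
    rw [Matrix.map_apply, LinearMap.toMatrix₂'_apply, LinearMap.toMatrix₂'_apply]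
    show polar Q (Pi.single i 1) (Pi.single j 1) = e (polar Q₀ _ _)
    rw [← comp_single (e := e), ← comp_single (e := e) j, h.polar_comp]
  rw [← LinearMap.nondegenerate_toMatrix₂'_iff, hM, Matrix.nondegenerate_iff_det_ne_zero,
    ← RingHom.mapMatrix_apply, ← RingHom.map_det, map_ne_zero]
  exact Matrix.nondegenerate_iff_det_ne_zero.1 (LinearMap.nondegenerate_toMatrix₂'_iff.2 h0)

section Scalar

variable {F : Type*} [Field F] {ι : Type} [Fintype ι] [DecidableEq ι] {Q : QuadraticForm F (ι → F)}

/-- A scalar as a semisimilarity. -/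
def scIn (Q : QuadraticForm F (ι → F)) (c : Fˣ) : ↥(semiGroup Q) :=
  ⟨SemidirectProduct.inl (GeneralLinearGroup.scalar ι c), ⟨c * c, fun v => by
    show Q ((GeneralLinearGroup.scalar ι c : Matrix ι ι F) *ᵥ v) = _
    rw [scalar_mulVec, QuadraticMap.map_smul, smul_eq_mul, Units.val_mul]; rfl⟩⟩

theorem gAut_scIn [Fintype F] (c : Fˣ) : gAut Q (scIn Q c) = 1 := gAut_scalar (c := c) rfl rfl

theorem eq_scIn_mul [Fintype F] {x : ↥(semiGroup Q)} (h1 : x.1.right = 1) {c : Fˣ} {g : O Q}
    (h : x.1.left = GeneralLinearGroup.scalar ι c * (g : GL ι F)) : x = scIn Q c * oIn Q g := by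
  apply Subtype.ext
  ext1
  · rw [Subgroup.coe_mul, SemidirectProduct.mul_left]
    show x.1.left = GeneralLinearGroup.scalar ι c * glAut ι F 1 (g : GL ι F)
    rw [map_one]; exact h
  · rw [Subgroup.coe_mul, SemidirectProduct.mul_right, h1]
    exact (mul_one _).symm

theorem inner_mem_iff [Fintype F] (hQ : Q.polarBilin.Nondegenerate) (hn : 5 ≤ Fintype.card ι) (d : HypData Q)
    (x : ↥(semiGroup Q)) : gAut Q x ∈ Cfsg.Inn (Cfsg.POmega F ⇑Q) ↔ x.1.right = 1 ∧
      ∃ (c : Fˣ) (s : ↥(Cfsg.Omega F ⇑Q)), x.1.left = GeneralLinearGroup.scalar ι c * ((s : O Q) : GL ι F) := by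
  rw [← outMap_eq_one_iff hQ hn d]
  exact (QuotientGroup.eq_one_iff _).symm

end Scalar

section Proper

variable {F : Type*} [Field F] [Fintype F]

/-- The proper similarities. -/
noncomputable def properSub (k : ℕ) (a b : F) : Subgroup ↥(semiGroup (minusQ k F a b)) :=
  (wInv (k := k) (a := a) (b := b)).ker ⊓
    ⨅ _ : (2 : F) = 0, (Cfsg.Inn (Cfsg.POmega F ⇑(minusQ k F a b))).comap (gAut (minusQ k F a b))

variable {k : ℕ} {a b : F}

theorem mem_properSub {x : ↥(semiGroup (minusQ k F a b))} :
    x ∈ properSub k a b ↔ wInv x = 1 ∧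
      ((2 : F) = 0 → gAut (minusQ k F a b) x ∈ Cfsg.Inn (Cfsg.POmega F ⇑(minusQ k F a b))) := by
  simp [properSub, Subgroup.mem_inf, MonoidHom.mem_ker, Subgroup.mem_iInf]

theorem properSub_normal : (properSub k a b).Normal := by
  refine ⟨fun x hx y => ?_⟩
  rw [mem_properSub] at hx ⊢
  refine ⟨by rw [map_mul, map_mul, hx.1, mul_one, map_inv, mul_inv_cancel], fun h2 => ?_⟩
  obtain ⟨z, hz⟩ := hx.2 h2
  rw [map_mul, map_mul, map_inv, ← hz]
  refine ⟨gAut (minusQ k F a b) y z, MulEquiv.ext fun w => ?_⟩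
  simp [map_mul]

theorem wInv_eq_one_iff (x : ↥(semiGroup (minusQ k F a b))) :
    wInv x = 1 ↔ x.1.right = 1 ∧ (x.1.left : Matrix (MI k) (MI k) F).det = mu x ^ (k + 1) := by
  constructor
  · intro h
    refine ⟨congrArg SemidirectProduct.right h, ?_⟩
    have h1 : GeneralLinearGroup.det x.1.left * ((Units.mk0 (mu x) (mu_ne x)) ^ (k + 1))⁻¹ = 1 :=
      congrArg SemidirectProduct.left h
    exact congrArg Units.val (mul_inv_eq_one.1 h1)
  · rintro ⟨h1, h2⟩
    ext1
    · show GeneralLinearGroup.det x.1.left * ((Units.mk0 (mu x) (mu_ne x)) ^ (k + 1))⁻¹ = 1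
      rw [mul_inv_eq_one]
      exact Units.ext h2
    · exact h1

theorem right_eq_one {x : ↥(semiGroup (minusQ k F a b))} (hx : x ∈ properSub k a b) : x.1.right = 1 :=
  ((wInv_eq_one_iff x).1 (mem_properSub.1 hx).1).1

theorem mu_eq_of_spec {x : ↥(semiGroup (minusQ k F a b))} {c : F}
    (h : ∀ v, minusQ k F a b (semi x.1 v) = c * x.1.right (minusQ k F a b v)) : mu x = c := by
  rw [mu, h, minusQ_eM, map_one, mul_one]

theorem mu_scIn (c : Fˣ) : mu (scIn (minusQ k F a b) c) = c * c := by
  refine mu_eq_of_spec fun v => ?_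
  show minusQ k F a b ((GeneralLinearGroup.scalar (MI k) c : Matrix (MI k) (MI k) F) *ᵥ v) = _
  rw [scalar_mulVec, QuadraticMap.map_smul, smul_eq_mul]
  rfl

theorem scIn_mem (c : Fˣ) : scIn (minusQ k F a b) c ∈ properSub k a b := by
  rw [mem_properSub, wInv_eq_one_iff]
  refine ⟨⟨rfl, ?_⟩, fun _ => by rw [gAut_scIn]; exact one_mem _⟩
  rw [mu_scIn]
  show (Matrix.scalar (MI k) (c : F)).det = _
  rw [Matrix.scalar_apply, det_diagonal, Finset.prod_const, Finset.card_univ,
    show Fintype.card (MI k) = 2 * (k + 1) by simp; ring, pow_mul, pow_two]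

variable (hk : 2 ≤ k) (hab : Aniso a b)

include hk in
theorem card_MI : 5 ≤ Fintype.card (MI k) := by simp; omega

include hk hab in
theorem minus_gen_top : reflClosure (minusQ k F a b) = ⊤ :=
  reflClosure_eq_top (CfsgLib.POmega.minusQ_nondegenerate_any hab) (Or.inr (by simp; omega))

include hk hab in
theorem oIn_mem_iff (g : O (minusQ k F a b)) :
    oIn (minusQ k F a b) g ∈ properSub k a b ↔
      dicksonHom (CfsgLib.POmega.minusQ_nondegenerate_any hab) (minus_gen_top hk hab) g = 1 := by
  set hQ := CfsgLib.POmega.minusQ_nondegenerate_any (m := k) hab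
  have hw : wInv (oIn (minusQ k F a b) g) = 1 ↔
      ((g : GL (MI k) F) : Matrix (MI k) (MI k) F).det = 1 := by
    rw [wInv_eq_one_iff, mu_oIn, one_pow]
    exact ⟨fun h => h.2, fun h => ⟨rfl, h⟩⟩
  rw [mem_properSub, hw]
  by_cases h2 : (2 : F) = 0
  · have : CharP F 2 := CharTwo.of_one_ne_zero_of_two_eq_zero one_ne_zero h2
    have hdet : ((g : GL (MI k) F) : Matrix (MI k) (MI k) F).det = 1 := by
      rcases det_eq_one_or hQ g with h | h
      · exact congrArg Units.val h
      · have h3 : ((g : GL (MI k) F) : Matrix (MI k) (MI k) F).det = -1 := congrArg Units.val h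
        rw [h3]; linear_combination -h2
    rw [← CfsgLib.OrthOmega.mem_omega_two hQ (minus_gen_top hk hab)]
    constructor
    · rintro ⟨-, h⟩
      obtain ⟨-, c, s, hc⟩ := (inner_mem_iff hQ (card_MI hk) (minusData hk a b) _).1 (h h2)
      have hc' : (g : GL (MI k) F) = GeneralLinearGroup.scalar (MI k) c *
          ((s : O (minusQ k F a b)) : GL (MI k) F) := hc
      have hv : ∀ v, app g v = (c : F) • app (s : O (minusQ k F a b)) v := fun v => by
        rw [app_apply, app_apply, hc', Units.val_mul, ← mulVec_mulVec, scalar_mulVec]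
      have hc1 : (c : F) * c = 1 := by
        have e := congrArg (minusQ k F a b) (hv (eM k F))
        rw [Q_app, QuadraticMap.map_smul, Q_app, minusQ_eM, smul_eq_mul, mul_one] at e
        exact e.symm
      have hc2 : (c : F) = 1 := by
        rcases mul_self_eq_one_iff.1 hc1 with h | h
        · exact h
        · rw [h]; linear_combination -h2
      have hgs : g = (s : O (minusQ k F a b)) := ext_app fun v => by rw [hv, hc2, one_smul]
      rw [hgs]
      exact s.2
    · intro hg
      refine ⟨hdet, fun _ => (inner_mem_iff hQ (card_MI hk) (minusData hk a b) _).2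
        ⟨rfl, 1, ⟨g, hg⟩, ?_⟩⟩
      rw [map_one, one_mul]
      rfl
  · have hcast := CfsgLib.OrthOmega.detHom_eq_cast hQ (minus_gen_top hk hab) g
    have hcast' : ((g : GL (MI k) F) : Matrix (MI k) (MI k) F).det =
        ((dicksonHom hQ (minus_gen_top hk hab) g : ℤ) : F) := congrArg Units.val hcast
    rw [hcast']
    rcases Int.units_eq_one_or (dicksonHom hQ (minus_gen_top hk hab) g) with h | h <;> rw [h]
    · simp [h2]
    · simp only [Units.val_neg, Units.val_one, Int.cast_neg, Int.cast_one, h2, IsEmpty.forall_iff,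
        and_true]
      exact iff_of_false (fun e => h2 (by linear_combination -e)) (by decide)

include hk hab in
theorem omegaIn_mem (s : ↥(Cfsg.Omega F ⇑(minusQ k F a b))) :
    omegaIn (minusQ k F a b) s ∈ properSub k a b := by
  rw [mem_properSub]
  refine ⟨?_, fun _ => ⟨_, (gAut_omegaIn s).symm⟩⟩
  rw [wInv_eq_one_iff]
  refine ⟨rfl, ?_⟩
  rw [show mu (omegaIn (minusQ k F a b) s) = mu (oIn _ (s : O (minusQ k F a b))) from rfl, mu_oIn, one_pow]
  exact CfsgLib.POmega.det_omega (s : O (minusQ k F a b)) s.2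

end Proper

section Classes

universe u

variable {F : Type u} [Field F] [Fintype F] {k : ℕ} {a b : F}

theorem card_extension (K : Type u) [Field K] [Algebra F K] [Fintype K] (h : Module.finrank F K = 2) :
    Fintype.card K = Fintype.card F ^ 2 := by
  rw [Module.card_eq_pow_finrank (K := F) (V := K), h]

theorem isSquare_algebraMap (K : Type u) [Field K] [Algebra F K] [Fintype K]
    (h : Module.finrank F K = 2) (c : F) : IsSquare (algebraMap F K c) := by
  rcases eq_or_ne c 0 with rfl | hc
  · rw [map_zero]; exact IsSquare.zero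
  by_cases hchar : ringChar K = 2
  · exact FiniteField.isSquare_of_char_two hchar _
  rw [FiniteField.isSquare_iff hchar (by simpa using hc)]
  have hodd : Odd (Fintype.card K) := Nat.odd_iff.2 (FiniteField.odd_card_of_char_ne_two hchar)
  rw [card_extension K h] at hodd ⊢
  obtain ⟨j, hj⟩ := (Nat.odd_pow_iff two_ne_zero).1 hodd
  have e1 : Fintype.card F ^ 2 / 2 = (Fintype.card F - 1) * (j + 1) := by
    rw [hj, show (2 * j + 1) ^ 2 = 2 * ((2 * j + 1 - 1) * (j + 1)) + 1 by
      rw [Nat.add_sub_cancel]; ring]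
    omega
  rw [e1, pow_mul, ← map_pow, FiniteField.pow_card_sub_one_eq_one c hc, map_one, one_pow]

theorem exists_extension (hab : Aniso a b) :
    ∃ (K : Type u) (_ : Field K) (_ : Algebra F K), Module.finrank F K = 2 := by
  let g : Polynomial F := Polynomial.X ^ 2 + Polynomial.C a * Polynomial.X + Polynomial.C b
  have hg2 : g.natDegree = 2 := by simp only [g]; compute_degree!
  have hirr : Irreducible g := by
    refine (Polynomial.irreducible_iff_roots_eq_zero_of_degree_le_three (by omega) (by omega)).2 ?_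
    refine Multiset.eq_zero_of_forall_notMem fun z hz => ?_
    have h := (Polynomial.mem_roots (Polynomial.ne_zero_of_natDegree_gt (n := 1) (by omega))).1 hz
    have h' : z ^ 2 + a * z + b = 0 := by simpa [g] using h
    exact one_ne_zero (hab z 1 (by linear_combination h')).2
  have : Fact (Irreducible g) := ⟨hirr⟩
  exact ⟨AdjoinRoot g, inferInstance, inferInstance, by
    rw [(AdjoinRoot.powerBasis hirr.ne_zero).finrank, AdjoinRoot.powerBasis_dim, hg2]⟩

theorem singularClasses_iff (hk : 2 ≤ k) (hab : Aniso a b) (K : Type u) [Field K] [Algebra F K]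
    (h : Module.finrank F K = 2) (x : ↥(semiGroup (minusQ k F a b))) (h1 : x.1.right = 1) :
    Cfsg.PreservesSingularClasses (Cfsg.quadFormMinus k K (algebraMap F K a) (algebraMap F K b))
        ((x.1.left : Matrix (MI k) (MI k) F).map (algebraMap F K)) ↔ x ∈ properSub k a b := by
  classical
  have : Module.Finite F K := Module.finite_of_finrank_eq_succ h
  have : Finite K := Module.finite_of_finite F
  have := Fintype.ofFinite K
  set e := algebraMap F K
  set QK := minusQ k K (e a) (e b) with hQKdef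
  have hext : Extends e (minusQ k F a b) QK := minusQ_extends e k a b
  have hQ := CfsgLib.POmega.minusQ_nondegenerate_any (m := k) hab
  have hQK : QK.polarBilin.Nondegenerate := hext.nondeg_up hQ
  have hgen : reflClosure QK = ⊤ := reflClosure_eq_top hQK (Or.inr (by simp; omega))
  obtain ⟨t, ht⟩ := isSquare_algebraMap K h (mu x)
  have ht0 : t ≠ 0 := fun h0 => mu_ne x ((map_eq_zero e).1 (by rw [ht, h0, mul_zero]))
  set T := Units.mk0 t ht0
  set G := GeneralLinearGroup.map e x.1.left
  have hsim : ∀ v, QK ((G : Matrix (MI k) (MI k) K) *ᵥ v) = e (mu x) * QK v := by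
    have heq : QK.comp (Matrix.mulVecLin (G : Matrix (MI k) (MI k) K)) = e (mu x) • QK := by
      refine Extends.eq_comp (e := e) (Q₀ := mu x • minusQ k F a b) ?_ ?_
      · intro w
        show QK ((x.1.left : Matrix (MI k) (MI k) F).map e *ᵥ (e ∘ w)) = _
        rw [map_mulVec_comp, hext]
        congr 1
        have hs := mu_spec x w
        rw [semi, h1] at hs
        exact hs
      · intro w
        show e (mu x) * QK (e ∘ w) = _
        rw [hext, ← map_mul]
        rfl
    exact fun v => congrArg (fun P : QuadraticForm K (MI k → K) => P v) heq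
  have hgK : GeneralLinearGroup.scalar (MI k) T⁻¹ * G ∈ O QK := by
    rw [mem_O_iff]
    intro v
    rw [Units.val_mul, ← mulVec_mulVec, scalar_mulVec, QuadraticMap.map_smul, hsim, ht, smul_eq_mul,
      Units.val_inv_eq_inv_val, Units.val_mk0]
    field_simp
  set gK : O QK := ⟨_, hgK⟩
  have himg : ∀ U : Submodule K (MI k → K),
      Cfsg.imageSubmodule (G : Matrix (MI k) (MI k) K) U = U.map (app gK) := by
    intro U
    have : app gK = ((T⁻¹ : Kˣ) : K) • Matrix.toLin' (G : Matrix (MI k) (MI k) K) :=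
      LinearMap.ext fun v => by
        rw [app_apply, LinearMap.smul_apply, Matrix.toLin'_apply]
        show (GeneralLinearGroup.scalar (MI k) T⁻¹ * G : GL (MI k) K).val *ᵥ v = _
        rw [Units.val_mul, ← mulVec_mulVec, scalar_mulVec]
    rw [this, Submodule.map_smul _ _ _ (Units.ne_zero _)]
    rfl
  have hcard : Fintype.card (MI k) = 2 * (k + 1) := by simp; ring
  have hKF : Fintype.card K = Fintype.card F ^ 2 := card_extension K h
  obtain ⟨θ, -, hsum, hprod⟩ := CfsgLib.UnitaryEmbed.exists_quadratic_root hKF rfl e a b hab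
  let w : Fin (k + 1) → MI k → K := Fin.snoc (fun i => Pi.single (Sum.inl (Sum.inl i)) 1)
    (Sum.elim 0 ![-θ, 1])
  have hU0 : ∀ u ∈ Submodule.span K (Set.range w), QK u = 0 := by
    intro u hu
    rw [Submodule.mem_span_range_iff_exists_fun] at hu
    obtain ⟨c, rfl⟩ := hu
    have hu : (∑ i, c i • w i) = Sum.elim (Sum.elim (fun i => c i.castSucc) 0)
        ![c (Fin.last k) * -θ, c (Fin.last k)] := by
      funext j
      rw [Fin.sum_univ_castSucc]
      rcases j with (j | j) | j
      · simp [w, Pi.single_apply]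
      · simp [w, Pi.single_apply]
      · fin_cases j <;> simp [w, Pi.single_apply]
    rw [hu, hQKdef, minusQ_coe]
    simp [Cfsg.quadFormMinus]
    linear_combination (c (Fin.last k)) ^ 2 * (θ * hsum - hprod)
  have hwli : LinearIndependent K w := by
    rw [Fintype.linearIndependent_iff]
    intro c hc
    have hl : c (Fin.last k) = 0 := by
      have := congrFun hc (Sum.inr 1)
      simpa [w, Fin.sum_univ_castSucc, Pi.single_apply] using this
    intro i
    refine Fin.lastCases hl (fun i => ?_) i
    have := congrFun hc (Sum.inl (Sum.inl i))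
    simpa [w, Fin.sum_univ_castSucc, Pi.single_apply] using this
  set U₀ := Submodule.span K (Set.range w)
  have hU0d : Module.finrank K U₀ = k + 1 := by
    rw [finrank_span_eq_card hwli, Fintype.card_fin]
  have hmaxdim : ∀ U, Cfsg.IsMaxTotallySingular (⇑QK) U → Module.finrank K U = k + 1 := by
    intro U hU
    have h3 : 2 * Module.finrank K U ≤ 2 * (k + 1) := (two_finrank_le hQK (W := U) hU.1).trans hcard.le
    have h4 : k + 1 ≤ Module.finrank K U := hU0d.symm.le.trans
      (CfsgLib.Forms.quad_witt_index QK hQK U U₀ hU.1 hU0 fun W hW hW0 => hU.2 W hW0 hW)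
    omega
  have hmax0 : Cfsg.IsMaxTotallySingular (⇑QK) U₀ :=
    ⟨hU0, fun W hW hle => (Submodule.eq_of_le_of_finrank_le hle (by
      have h3 : 2 * Module.finrank K W ≤ 2 * (k + 1) := (two_finrank_le hQK (W := W) hW).trans hcard.le
      exact (show Module.finrank K W ≤ k + 1 by omega).trans hU0d.symm.le)).symm⟩
  have hclass : ∀ U, Cfsg.IsMaxTotallySingular (⇑QK) U →
      (Cfsg.SameParityClass U (Cfsg.imageSubmodule (G : Matrix (MI k) (MI k) K) U) ↔
        dicksonHom hQK hgen gK = 1) := by
    intro U hU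
    rw [himg, ← CfsgLib.OrthOmega.classSign_app hQK hgen hcard (hmaxdim U hU) hU.1 gK,
      CfsgLib.OrthOmega.classSign_eq_one_iff, Cfsg.SameParityClass, hmaxdim U hU]
  have hpsc : Cfsg.PreservesSingularClasses (⇑QK) (G : Matrix (MI k) (MI k) K) ↔
      dicksonHom hQK hgen gK = 1 :=
    ⟨fun hp => (hclass U₀ hmax0).1 (hp U₀ hmax0), fun hd U hU => (hclass U hU).2 hd⟩
  have hco : ⇑QK = Cfsg.quadFormMinus k K (e a) (e b) := minusQ_coe k (e a) (e b)
  rw [hco] at hpsc
  refine hpsc.trans ?_
  by_cases h2 : (2 : F) = 0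
  · have : CharP F 2 := CharTwo.of_one_ne_zero_of_two_eq_zero one_ne_zero h2
    obtain ⟨s, g₀, hg₀⟩ := exists_scalar_isometry h1
    have hmus : mu x = (s : F) * s := mu_eq_of_spec fun v => by
      rw [semi, h1, hg₀, Units.val_mul, ← mulVec_mulVec, scalar_mulVec, QuadraticMap.map_smul, smul_eq_mul]
      show (s : F) * s * minusQ k F a b (app g₀ v) = _
      rw [Q_app]
      rfl
    have h2K : (2 : K) = 0 := by rw [← map_ofNat e, h2, map_zero]
    have hts : t = e (s : F) := by
      have h0 : (t - e (s : F)) * (t - e (s : F)) = 0 := by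
        have e1 : t * t = e (s : F) * e (s : F) := by rw [← map_mul, ← hmus, ht]
        linear_combination e1 + (e (s : F) * e (s : F) - t * e (s : F)) * h2K
      exact sub_eq_zero.1 (mul_self_eq_zero.1 h0)
    have hgK' : gK = hext.mapO g₀ := by
      apply Subtype.ext
      show GeneralLinearGroup.scalar (MI k) T⁻¹ * GeneralLinearGroup.map e x.1.left =
        GeneralLinearGroup.map e (g₀ : GL (MI k) F)
      rw [hg₀, map_mul, ← mul_assoc]
      have : GeneralLinearGroup.map e (GeneralLinearGroup.scalar (MI k) s) =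
          GeneralLinearGroup.scalar (MI k) T := by
        rw [show T = Units.map e.toMonoidHom s from Units.ext hts]
        exact GeneralLinearGroup.map_scalar _ _
      rw [this, ← map_mul, inv_mul_cancel, map_one, one_mul]
    have hd : (dicksonHom hQK hgen).comp hext.mapO = dicksonHom hQ (minus_gen_top hk hab) := by
      refine CfsgLib.OrthOmega.hom_ext_refl (minus_gen_top hk hab) fun v hv => ?_
      rw [MonoidHom.comp_apply, hext.mapO_refl, dicksonHom_refl hQK hgen (by
        rw [hext]; exact (map_ne_zero e).2 hv), dicksonHom_refl hQ (minus_gen_top hk hab) hv]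
    rw [hgK', ← MonoidHom.comp_apply, hd, ← oIn_mem_iff hk hab g₀, eq_scIn_mul h1 hg₀]
    exact ((properSub k a b).mul_mem_cancel_left (scIn_mem s)).symm
  · have h2K : (2 : K) ≠ 0 := fun h0 => h2 ((map_eq_zero e).1 (by rw [map_ofNat, h0]))
    have hcast : ((gK : GL (MI k) K) : Matrix (MI k) (MI k) K).det =
        ((dicksonHom hQK hgen gK : ℤ) : K) :=
      congrArg Units.val (CfsgLib.OrthOmega.detHom_eq_cast hQK hgen gK)
    have hdet : ((gK : GL (MI k) K) : Matrix (MI k) (MI k) K).det =
        e ((x.1.left : Matrix (MI k) (MI k) F).det) / e (mu x) ^ (k + 1) := by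
      show ((GeneralLinearGroup.scalar (MI k) T⁻¹ * G : GL (MI k) K).val).det = _
      rw [Units.val_mul, det_mul]
      show (Matrix.scalar (MI k) ((T⁻¹ : Kˣ) : K)).det * ((x.1.left : Matrix (MI k) (MI k) F).map e).det = _
      rw [Matrix.scalar_apply, det_diagonal, Finset.prod_const, Finset.card_univ, hcard,
        ← RingHom.mapMatrix_apply, ← RingHom.map_det, ht, Units.val_inv_eq_inv_val, Units.val_mk0,
        inv_pow, ← pow_two, ← pow_mul, inv_mul_eq_div]
    rw [mem_properSub, wInv_eq_one_iff]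
    constructor
    · intro hd
      refine ⟨⟨h1, e.injective ?_⟩, fun h0 => absurd h0 h2⟩
      rw [hd, hdet, Units.val_one, Int.cast_one, div_eq_iff (pow_ne_zero _ ((map_ne_zero e).2 (mu_ne x))),
        one_mul] at hcast
      rw [map_pow]
      exact hcast
    · rintro ⟨⟨-, hd⟩, -⟩
      rw [hdet, hd, map_pow, div_self (pow_ne_zero _ ((map_ne_zero e).2 (mu_ne x)))] at hcast
      rcases Int.units_eq_one_or (dicksonHom hQK hgen gK) with h3 | h3
      · exact h3
      · rw [h3] at hcast
        exfalso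
        apply h2K
        push_cast at hcast
        linear_combination hcast

theorem singularClassesMinus_iff (hk : 2 ≤ k) (hab : Aniso a b) (x : ↥(semiGroup (minusQ k F a b)))
    (h1 : x.1.right = 1) :
    Cfsg.PreservesSingularClassesMinus k a b (x.1.left : Matrix (MI k) (MI k) F) ↔ x ∈ properSub k a b := by
  constructor
  · rintro ⟨K, hK, hA, h, hp⟩
    exact (singularClasses_iff hk hab K h x h1).1 hp
  · intro hx
    obtain ⟨K, hK, hA, h⟩ := exists_extension hab
    exact ⟨K, hK, hA, h, (singularClasses_iff hk hab K h x h1).2 hx⟩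

theorem inndiag_minus_eq (hk : 2 ≤ k) (hab : Aniso a b) :
    Cfsg.autSubgroupOf (fun β => ∃ g : GL (MI k) F,
      g ∈ Cfsg.Geo.quadSimilarityGroup (F := F) ⇑(minusQ k F a b) ∧
      Cfsg.PreservesSingularClassesMinus k a b (g : Matrix (MI k) (MI k) F) ∧
      Cfsg.IsInducedBySemilinearPOmega (⇑(minusQ k F a b)) g (RingEquiv.refl F) β) =
    (properSub k a b).map (gAut (minusQ k F a b)) := by
  refine le_antisymm ((Subgroup.closure_le _).2 ?_) ?_
  · rintro β ⟨g, ⟨c, hc⟩, hp, hβ⟩
    let x : ↥(semiGroup (minusQ k F a b)) := ⟨SemidirectProduct.inl g, ⟨c, fun v => hc v⟩⟩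
    rw [eq_gAut_of_induced x hβ]
    exact Subgroup.mem_map_of_mem _ ((singularClassesMinus_iff hk hab x rfl).1 hp)
  · rintro _ ⟨x, hx, rfl⟩
    have h1 := right_eq_one hx
    have hg : x.1.left ∈ Cfsg.Geo.quadSimilarityGroup (F := F) ⇑(minusQ k F a b) :=
      ⟨Units.mk0 (mu x) (mu_ne x), fun v => by
        have hs := mu_spec x v
        rw [semi, h1] at hs
        exact hs⟩
    have hi := gAut_induced x
    rw [h1] at hi
    exact Subgroup.subset_closure ⟨_, hg, (singularClassesMinus_iff hk hab x h1).2 hx, hi⟩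

end Classes

end CfsgLib.FieldPOmega
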