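import Cfsg.Agent.Lib.AutPOmega.Induced
import Cfsg.Agent.Lib.AutPOmega.Std
import Cfsg.Agent.Lib.Orth.OddInvolutions
import Cfsg.Agent.Lib.Maximal99.OrthUnipotent
import Cfsg.Agent.Lib.AutPSL.BalanceCore
import Cfsg.Agent.Lib.POmega.Forms

/-!
Field automorphisms of prime order of `Ω_{2m+1}(q)`: normal form, Lang's theorem, fixed points.
-/

set_option autoImplicit false
set_option linter.unusedSectionVars false

namespace CfsgLib.AutPOmega.Odd

open Matrix QuadraticMap CfsgLib.Orth CfsgLib.FieldGalois CfsgLib.AutBalance CfsgLib.AutPOmega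
open Cfsg.Agent.Spinor57 (qOdd qOdd_coe polar_qOdd qOdd_nondegenerate)

variable {F : Type*} [Field F] {m : ℕ}

abbrev Ix (m : ℕ) := Unit ⊕ (Fin m ⊕ Fin m)

theorem card_ix : Fintype.card (Ix m) = 2 * m + 1 := by simp; omega

theorem qOdd_map {E : Type*} [Field E] (f : E →+* F) (v : Ix m → E) :
    qOdd m F (fun i => f (v i)) = f (qOdd m E v) := by
  simp [qOdd, map_sum]

theorem qOdd_field (σ : F ≃+* F) (v : Ix m → F) : qOdd m F (⇑σ ∘ v) = σ (qOdd m F v) :=
  qOdd_map σ.toRingHom v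

/-- Two quadratic forms with the same Gram matrix agree. -/
theorem ext_of_gram {ι : Type*} [Fintype ι] [DecidableEq ι] (h2 : (2 : F) ≠ 0)
    (Q₁ Q₂ : QuadraticForm F (ι → F)) (h : CfsgLib.QuadFin.gram ⇑Q₁ = CfsgLib.QuadFin.gram ⇑Q₂) (v : ι → F) :
    Q₁ v = Q₂ v := by
  rw [CfsgLib.QuadFin.gram_eq_toMatrix, CfsgLib.QuadFin.gram_eq_toMatrix] at h
  have h' : Q₁.polarBilin = Q₂.polarBilin := (LinearMap.BilinForm.toMatrix (Pi.basisFun F ι)).injective h
  have e := LinearMap.congr_fun (LinearMap.congr_fun h' v) v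
  simp only [QuadraticMap.polarBilin_apply_apply, QuadraticMap.polar_self, nsmul_eq_mul] at e
  exact mul_left_cancel₀ (by exact_mod_cast h2) e

/-- Two forms agreeing on the vectors over a subfield agree. -/
theorem ext_of_base {ι : Type*} [Fintype ι] [DecidableEq ι] (h2 : (2 : F) ≠ 0) (K : Subfield F)
    (Q₁ Q₂ : QuadraticForm F (ι → F))
    (h : ∀ v : ι → K, Q₁ (fun i => (v i : F)) = Q₂ (fun i => (v i : F))) (v : ι → F) : Q₁ v = Q₂ v := by
  refine ext_of_gram h2 Q₁ Q₂ (Matrix.ext fun i j => ?_) v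
  have hs : ∀ a, (Pi.single a 1 : ι → F) = fun b => (((Pi.single a 1 : ι → K) b : K) : F) := fun a => by
    funext b; by_cases hb : b = a <;> simp [Pi.single_apply, hb]
  have hadd : ∀ x y : ι → K, ((fun b => ((x b : K) : F)) + fun b => ((y b : K) : F) : ι → F) =
      fun b => (((x + y) b : K) : F) := fun x y => by funext b; simp
  simp only [CfsgLib.QuadFin.gram, Matrix.of_apply, QuadraticMap.polar, hs, hadd, h]

/-- The standard field automorphism as a semisimilarity. -/
noncomputable def fieldSemi (m : ℕ) (σ : F ≃+* F) : Semi (qOdd m F) where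
  g := 1
  σ := σ
  c := 1
  spec v := by
    rw [Units.val_one, Matrix.one_mulVec, Units.val_one, one_mul]
    exact qOdd_field σ v

theorem aut_congr_val {p p' : Semi (qOdd m F)} (hg : p.g = p'.g) (hσ : p.σ = p'.σ) : p.aut = p'.aut :=
  Semi.aut_congr fun s => Units.ext (by rw [Semi.glAut_coe, Semi.glAut_coe, hg, hσ])

theorem aut_congr_smul {p p' : Semi (qOdd m F)} {e : F} (he : e ≠ 0)
    (hg : (p'.g : Matrix (Ix m) (Ix m) F) = e • (p.g : Matrix (Ix m) (Ix m) F)) (hσ : p.σ = p'.σ) :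
    p.aut = p'.aut := by
  refine Semi.aut_congr fun s => Units.ext ?_
  rw [Semi.glAut_coe, Semi.glAut_coe]
  have hinv : ((p'.g⁻¹ : GL (Ix m) F) : Matrix (Ix m) (Ix m) F) =
      e⁻¹ • ((p.g⁻¹ : GL (Ix m) F) : Matrix (Ix m) (Ix m) F) := by
    refine Units.inv_eq_of_mul_eq_one_right ?_
    rw [hg, Matrix.smul_mul, Matrix.mul_smul, smul_smul, mul_inv_cancel₀ he, one_smul, ← Units.val_mul,
      mul_inv_cancel, Units.val_one]
  rw [hg, hinv, hσ, Matrix.smul_mul, Matrix.smul_mul, Matrix.mul_smul, smul_smul, mul_inv_cancel₀ he,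
    one_smul]

/-- The standard field automorphisms. -/
noncomputable def fld (m : ℕ) : (F ≃+* F) →* MulAut (PG (qOdd m F)) where
  toFun σ := (fieldSemi m σ).aut
  map_one' := (aut_congr_val rfl rfl).trans (Semi.aut_one (Q := qOdd m F))
  map_mul' σ τ := by
    rw [← Semi.aut_mul]
    refine aut_congr_val ?_ rfl
    show (1 : GL (Ix m) F) = 1 * Matrix.GeneralLinearGroup.map σ.toRingHom 1
    rw [map_one, one_mul]

theorem isFieldAutOf_fld (σ : F ≃+* F) : Cfsg.IsFieldAutPOmegaOf ⇑(qOdd m F) σ (fld m σ) := fun s s' h => by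
  refine Eq.trans ((fieldSemi m σ).aut_mk s) ?_
  refine congrArg _ (Subtype.ext (Subtype.ext (Units.ext ?_)))
  show ((fieldSemi m σ).glAut _ : Matrix (Ix m) (Ix m) F) = _
  rw [Semi.glAut_coe, h]
  show (1 : Matrix (Ix m) (Ix m) F) * _ * ((1⁻¹ : GL (Ix m) F) : Matrix (Ix m) (Ix m) F) = _
  rw [inv_one, Units.val_one, one_mul, mul_one]
  rfl

theorem Q_mulVec {p : Semi (qOdd m F)} (v : Ix m → F) :
    qOdd m F ((p.g : Matrix (Ix m) (Ix m) F) *ᵥ v) = (p.c : F) * qOdd m F v := by
  have h := p.spec (⇑p.σ.symm ∘ v)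
  have e : (fun i => p.σ ((⇑p.σ.symm ∘ v) i)) = v := funext fun i => p.σ.apply_symm_apply _
  rw [e, qOdd_field, p.σ.apply_symm_apply] at h
  exact h

variable [Fintype F] (h2 : (2 : F) ≠ 0)
include h2

theorem multiplier_square (p : Semi (qOdd m F)) : ∃ e : F, e ≠ 0 ∧ (p.c : F) = e * e := by
  let g : (Ix m → F) ≃ₗ[F] (Ix m → F) := Matrix.GeneralLinearGroup.toLin p.g |>.toLinearEquiv
  have hg : ∀ v, g v = (p.g : Matrix (Ix m) (Ix m) F) *ᵥ v := fun v => rfl
  have h := CfsgLib.QuadFin.gram_det_comp (qOdd m F) g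
  rw [show (fun v => qOdd m F (g v)) = fun v => (p.c : F) * qOdd m F v from funext fun v => by
    rw [hg, Q_mulVec], CfsgLib.QuadFin.gram_det_smul, card_ix] at h
  have h' := mul_right_cancel₀ (CfsgLib.QuadFin.gram_det_ne_zero _ (qOdd_nondegenerate h2)) h
  have hc := Units.ne_zero p.c
  refine ⟨LinearMap.det g.toLinearMap / (p.c : F) ^ m,
    div_ne_zero g.isUnit_det'.ne_zero (pow_ne_zero _ hc), ?_⟩
  rw [div_mul_div_comm, eq_div_iff (mul_ne_zero (pow_ne_zero _ hc) (pow_ne_zero _ hc)), ← sq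
    (LinearMap.det g.toLinearMap), ← h', pow_succ, two_mul, pow_add]
  ring

variable (hm : 3 ≤ m)
include hm

theorem exists_norm (β : MulAut (PG (qOdd m F))) : ∃ p : Semi (qOdd m F), p.c = 1 ∧ β = p.aut := by
  obtain ⟨p, rfl⟩ := (oddFrame F h2 m hm).exists_semi_aut (oddFrame_roomy F h2 m hm) β
  obtain ⟨e, he, hc⟩ := multiplier_square h2 p
  let g' : GL (Ix m) F := Matrix.GeneralLinearGroup.scalar (Ix m) (Units.mk0 e he)⁻¹ * p.g
  have hg' : (g' : Matrix (Ix m) (Ix m) F) = e⁻¹ • (p.g : Matrix (Ix m) (Ix m) F) := by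
    show (Matrix.GeneralLinearGroup.scalar (Ix m) (Units.mk0 e he)⁻¹ : Matrix (Ix m) (Ix m) F) * _ = _
    rw [Matrix.GeneralLinearGroup.coe_scalar]
    ext i j; simp [Matrix.scalar_apply, Matrix.diagonal_mul, -map_inv]
  let p' : Semi (qOdd m F) := ⟨g', p.σ, 1, fun v => by
    rw [hg', Matrix.smul_mulVec, QuadraticMap.map_smul, p.spec v, hc, Units.val_one, smul_eq_mul]
    field_simp⟩
  exact ⟨p', rfl, aut_congr_smul (inv_ne_zero he) hg' rfl⟩

theorem isInnerDiagonal_of_σ {p : Semi (qOdd m F)} (hσ : p.σ = 1) :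
    Cfsg.IsSimilarityInducedAutPOmega ⇑(qOdd m F) p.aut := by
  refine ⟨p.g, ⟨p.c, fun v => Q_mulVec v⟩, ?_⟩
  have h := p.aut_induced
  rw [hσ] at h
  exact h

omit hm in
theorem det_sq {p : Semi (qOdd m F)} (hc : p.c = 1) : (p.g : Matrix (Ix m) (Ix m) F).det *
    (p.g : Matrix (Ix m) (Ix m) F).det = 1 := by
  have hmem : p.g ∈ O (qOdd m F) := fun u _ => by
    show qOdd m F ((p.g : Matrix (Ix m) (Ix m) F) *ᵥ u) = qOdd m F u
    rw [Q_mulVec, hc, Units.val_one, one_mul]
  rcases det_eq_one_or (qOdd_nondegenerate h2) (⟨p.g, hmem⟩ : O (qOdd m F)) with h | h <;>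
    (have h' := congrArg Units.val h
     change (p.g : Matrix (Ix m) (Ix m) F).det = _ at h'
     rw [h']; simp)

omit h2 hm in
theorem cocy_smul {σ : F ≃+* F} {e : Fˣ} (he : σ (e : F) = e) (g : GL (Ix m) F) (k : ℕ) :
    (cocy σ (Matrix.GeneralLinearGroup.scalar (Ix m) e * g) k : Matrix (Ix m) (Ix m) F) =
      (e : F) ^ k • (cocy σ g k : Matrix (Ix m) (Ix m) F) := by
  induction k with
  | zero => simp [cocy]
  | succ k ih =>
    show ((Matrix.GeneralLinearGroup.scalar (Ix m) e * g : GL (Ix m) F) : Matrix (Ix m) (Ix m) F) *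
      ((cocy σ (Matrix.GeneralLinearGroup.scalar (Ix m) e * g) k : GL (Ix m) F) : Matrix (Ix m) (Ix m) F).map σ =
        _ • ((g : Matrix (Ix m) (Ix m) F) * (cocy σ g k : Matrix (Ix m) (Ix m) F).map σ)
    rw [ih, Matrix.map_smul' _ _ _ (map_mul σ), map_pow, he, Units.val_mul,
      show ((Matrix.GeneralLinearGroup.scalar (Ix m) e : GL (Ix m) F) : Matrix (Ix m) (Ix m) F) =
        (e : F) • (1 : Matrix (Ix m) (Ix m) F) by
        rw [Matrix.GeneralLinearGroup.coe_scalar]; ext i j; simp [Matrix.scalar_apply, Matrix.one_apply, Matrix.diagonal_apply],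
      Matrix.smul_mul, one_mul, Matrix.mul_smul, Matrix.smul_mul, smul_smul, pow_succ]

/-- An automorphism of prime order `r` outside the inner-diagonal group is conjugate to a standard
field automorphism of order `r`. -/
theorem exists_conj_field {r : ℕ} (hr : r.Prime) {x : MulAut (PG (qOdd m F))} (hx : x ^ r = 1)
    (hnot : ¬ Cfsg.IsSimilarityInducedAutPOmega ⇑(qOdd m F) x) :
    ∃ (σ : F ≃+* F) (a : MulAut (PG (qOdd m F))), orderOf σ = r ∧ x = a * fld m σ * a⁻¹ := by
  classical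
  obtain ⟨p, hc, rfl⟩ := exists_norm h2 hm x
  have hσ1 : p.σ ≠ 1 := fun h => hnot (isInnerDiagonal_of_σ h2 hm h)
  have hnc : ∀ k, (p.npow k).c = 1 := fun k => by
    induction k with
    | zero => rfl
    | succ k ih => show p.c * Units.map _ (p.npow k).c = 1; rw [ih, map_one, mul_one, hc]
  obtain ⟨hσr, e, he0, hee, hge⟩ := (oddFrame F h2 m hm).scalar_of_aut_eq_one (p.npow r)
    (by rw [Semi.aut_npow]; exact hx)
  rw [Semi.npow_σ] at hσr
  rw [hnc, Units.val_one] at hee
  rw [Semi.npow_g] at hge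
  have hσ : orderOf p.σ = r := by
    have : Fact r.Prime := ⟨hr⟩
    exact orderOf_eq_prime hσr hσ1
  -- a multiple with trivial cocycle
  obtain ⟨p', hc', hσ', haut, hcoc⟩ : ∃ p' : Semi (qOdd m F), p'.c = 1 ∧ p'.σ = p.σ ∧ p'.aut = p.aut ∧
      cocy p.σ p'.g r = 1 := by
    rcases hr.eq_two_or_odd' with rfl | hodd
    · refine ⟨p, hc, rfl, rfl, Units.ext ?_⟩
      have hd := congrArg Matrix.det hge
      rw [Matrix.det_smul, Matrix.det_one, mul_one, card_ix, pow_succ, pow_mul, pow_two, ← hee, one_pow,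
        one_mul] at hd
      have hd' : (p.g : Matrix (Ix m) (Ix m) F).det * p.σ (p.g : Matrix (Ix m) (Ix m) F).det = e := by
        rw [← hd, cocy, cocy, cocy, map_one, mul_one, Units.val_mul, Matrix.det_mul]
        congr 1
        exact RingHom.map_det p.σ.toRingHom _
      rcases mul_self_eq_one_iff.mp (det_sq h2 hc) with h | h <;> rw [h] at hd' <;>
        simp at hd' <;> rw [hge, ← hd', one_smul] <;> rfl
    · let eu : Fˣ := Units.mk0 e he0
      have hg' : ((Matrix.GeneralLinearGroup.scalar (Ix m) eu * p.g : GL (Ix m) F) : Matrix (Ix m) (Ix m) F) =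
          e • (p.g : Matrix (Ix m) (Ix m) F) := by
        rw [Units.val_mul, Matrix.GeneralLinearGroup.coe_scalar]
        ext i j; simp [Matrix.scalar_apply, Matrix.diagonal_mul, eu]
      let p' : Semi (qOdd m F) := ⟨Matrix.GeneralLinearGroup.scalar (Ix m) eu * p.g, p.σ, 1, fun v => by
        rw [hg', Matrix.smul_mulVec, QuadraticMap.map_smul, p.spec v, hc, Units.val_one, smul_eq_mul, ← hee]; simp⟩
      refine ⟨p', rfl, rfl, (aut_congr_smul (p := p) (p' := p') he0 hg' rfl).symm, Units.ext ?_⟩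
      have heσ : p.σ (eu : F) = eu := by
        rcases mul_self_eq_one_iff.mp hee.symm with h | h <;> simp [eu, h]
      rw [cocy_smul heσ, hge, smul_smul, show ((eu : F)) = e from rfl, ← pow_succ]
      obtain ⟨j, rfl⟩ := hodd
      rw [show 2 * j + 1 + 1 = 2 * (j + 1) by ring, pow_mul, pow_two, ← hee, one_pow, one_smul]
      rfl
  obtain ⟨k, hk⟩ := exists_of_cocy_eq_one p.σ p'.g (by rw [hσ]; exact hcoc)
  set σ := p.σ with hσdef
  set K := fixedSub σ with hK
  have : Fintype K := Fintype.ofFinite _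
  have h2K : (2 : K) ≠ 0 := fun h => h2 (by
    have := congrArg K.subtype h; rwa [map_ofNat, map_zero] at this)
  let P : (Ix m → F) →ₗ[F] (Ix m → F) := Matrix.mulVecLin (k : Matrix (Ix m) (Ix m) F)
  have hreal : ∀ v : Ix m → K, qOdd m F (P fun i => (v i : F)) ∈ K := fun v => by
    refine mem_fixedSub.mpr ?_
    rw [← qOdd_field]
    have e1 : ⇑σ ∘ (P fun i => (v i : F)) =
        (k : Matrix (Ix m) (Ix m) F).map σ *ᵥ fun i => (v i : F) := by
      funext i
      simp only [P, Matrix.mulVecLin_apply, Function.comp_apply]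
      refine Eq.trans (RingHom.map_mulVec σ.toRingHom _ _ i) ?_
      exact congrFun (congrArg _ (funext fun j => (v j).2)) i
    rw [e1]
    conv_rhs => rw [show P (fun i => (v i : F)) = (p'.g : Matrix (Ix m) (Ix m) F) *ᵥ
      ((k : Matrix (Ix m) (Ix m) F).map σ *ᵥ fun i => (v i : F)) by
        simp only [P, Matrix.mulVecLin_apply]
        conv_lhs => rw [← hk]
        rw [Units.val_mul, ← Matrix.mulVec_mulVec]
        rfl]
    rw [Q_mulVec, hc', Units.val_one, one_mul]
  have up_add : ∀ v w : Ix m → K, (fun i => (((v + w) i : K) : F)) =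
      (fun i => (v i : F)) + fun i => (w i : F) := fun v w => by funext i; simp
  have up_smul : ∀ (a : K) (v : Ix m → K), (fun i => (((a • v) i : K) : F)) = (a : F) • fun i => (v i : F) :=
    fun a v => by funext i; simp
  let Q0 : QuadraticForm K (Ix m → K) := QuadraticMap.ofPolar
    (fun v => ⟨qOdd m F (P fun i => (v i : F)), hreal v⟩)
    (fun a v => Subtype.ext (by
      show qOdd m F (P _) = ((a * a : K) : F) * qOdd m F (P _)
      rw [up_smul, map_smul, QuadraticMap.map_smul, smul_eq_mul, MulMemClass.coe_mul]))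
    (fun x x' y => Subtype.ext (by
      simp only [QuadraticMap.polar, up_add, map_add, AddMemClass.coe_add, AddSubgroupClass.coe_sub]
      exact QuadraticMap.polar_add_left (qOdd m F) _ _ _))
    (fun a x y => Subtype.ext (by
      simp only [QuadraticMap.polar, up_add, up_smul, map_add, map_smul, smul_eq_mul, MulMemClass.coe_mul,
        AddSubgroupClass.coe_sub]
      exact QuadraticMap.polar_smul_left (qOdd m F) _ _ _))
  have hQ0 : ∀ v, ((Q0 v : K) : F) = qOdd m F (P fun i => (v i : F)) := fun v => rfl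
  have hgram : (CfsgLib.QuadFin.gram ⇑Q0).map K.subtype =
      CfsgLib.QuadFin.gram fun v => qOdd m F (P v) := by
    ext i j
    have hs : ∀ a : Ix m, (fun b => (((Pi.single a 1 : Ix m → K) b : K) : F)) = Pi.single a 1 := fun a => by
      funext b; by_cases hb : b = a <;> simp [Pi.single_apply, hb]
    simp only [CfsgLib.QuadFin.gram, Matrix.map_apply, Matrix.of_apply, QuadraticMap.polar, Subfield.coe_subtype,
      AddSubgroupClass.coe_sub, hQ0, up_add, hs]
  have hd0 : (CfsgLib.QuadFin.gram ⇑Q0).det ≠ 0 := fun h0 => by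
    have h := RingHom.map_det K.subtype (CfsgLib.QuadFin.gram ⇑Q0)
    rw [h0, map_zero, RingHom.mapMatrix_apply, hgram] at h
    have e := CfsgLib.QuadFin.gram_det_comp (qOdd m F) (Matrix.GeneralLinearGroup.toLin k).toLinearEquiv
    exact mul_ne_zero (pow_ne_zero 2 (LinearEquiv.isUnit_det' _).ne_zero)
      (CfsgLib.QuadFin.gram_det_ne_zero _ (qOdd_nondegenerate h2)) (e.symm.trans h.symm)
  have hndK := qOdd_nondegenerate (F := K) (m := m) h2K
  set dK := (CfsgLib.QuadFin.gram ⇑(qOdd m K)).det with hdK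
  have hdK0 : dK ≠ 0 := CfsgLib.QuadFin.gram_det_ne_zero _ hndK
  set lam : K := (CfsgLib.QuadFin.gram ⇑Q0).det * dK with hlam
  have hlam0 : lam ≠ 0 := mul_ne_zero hd0 hdK0
  have hdl : (CfsgLib.QuadFin.gram ⇑(lam • Q0)).det =
      lam ^ (2 * m + 1) * (CfsgLib.QuadFin.gram ⇑Q0).det := by
    rw [← card_ix (m := m), ← CfsgLib.QuadFin.gram_det_smul]; rfl
  obtain ⟨a, ha⟩ := CfsgLib.OrthUnipotent.exists_isometry h2K (lam • Q0) (qOdd m K)
    (by
      show LinearMap.BilinForm.Nondegenerate _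
      rw [← LinearMap.BilinForm.nondegenerate_toMatrix_iff (Pi.basisFun K (Ix m)),
        ← CfsgLib.QuadFin.gram_eq_toMatrix, Matrix.nondegenerate_iff_det_ne_zero, hdl]
      exact mul_ne_zero (pow_ne_zero _ hlam0) hd0)
    hndK
    ⟨lam ^ (m + 1), by rw [hdl, ← hdK, mul_assoc, ← hlam]; ring⟩
  let ai : GL (Ix m) K := Matrix.GeneralLinearGroup.toLin.symm
    (LinearMap.GeneralLinearGroup.ofLinearEquiv a.symm)
  have hai : ∀ v, (ai : Matrix (Ix m) (Ix m) K) *ᵥ v = a.symm v := fun v => LinearMap.toMatrix'_mulVec _ v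
  set k' : GL (Ix m) F := k * Matrix.GeneralLinearGroup.map K.subtype ai with hk'
  have hlamF : (lam : F) ≠ 0 := fun h => hlam0 (Subtype.ext h)
  have hsim : ∀ v, qOdd m F ((k' : Matrix (Ix m) (Ix m) F) *ᵥ v) = (lam : F)⁻¹ * qOdd m F v := by
    refine fun v => ext_of_base h2 K ((qOdd m F).comp (Matrix.mulVecLin (k' : Matrix (Ix m) (Ix m) F)))
      ((lam : F)⁻¹ • qOdd m F) (fun w => ?_) v
    simp only [QuadraticMap.comp_apply, Matrix.mulVecLin_apply, QuadraticMap.smul_apply, smul_eq_mul]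
    have e1 : ((Matrix.GeneralLinearGroup.map K.subtype ai : GL (Ix m) F) : Matrix (Ix m) (Ix m) F) *ᵥ
        (fun i => (w i : F)) = fun i => ((a.symm w i : K) : F) := by
      funext i
      rw [← hai]
      exact (RingHom.map_mulVec K.subtype _ w i).symm
    rw [hk', Units.val_mul, ← Matrix.mulVec_mulVec, e1]
    have e2 := congrArg Subtype.val (ha (a.symm w))
    rw [LinearEquiv.apply_symm_apply] at e2
    change ((qOdd m K w : K) : F) = (lam : F) * qOdd m F (P _) at e2
    rw [show qOdd m F (fun i => (w i : F)) = ((qOdd m K w : K) : F) from qOdd_map K.subtype w, e2,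
      ← mul_assoc, inv_mul_cancel₀ hlamF, one_mul]
    rfl
  let pk : Semi (qOdd m F) := ⟨k', 1, (Units.mk0 (lam : F) hlamF)⁻¹, fun v => by
    rw [Units.val_inv_eq_inv_val]; exact hsim v⟩
  refine ⟨σ, pk.aut, hσ, ?_⟩
  rw [eq_mul_inv_iff_mul_eq, ← haut, ← Semi.aut_mul]
  show _ = pk.aut * (fieldSemi m σ).aut
  rw [← Semi.aut_mul]
  refine aut_congr_val ?_ (by show p'.σ * 1 = 1 * σ; rw [hσ', mul_one, one_mul])
  show p'.g * Matrix.GeneralLinearGroup.map p'.σ.toRingHom k' =
    k' * Matrix.GeneralLinearGroup.map (1 : F ≃+* F).toRingHom 1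
  rw [map_one, mul_one, hσ', hk', map_mul, ← mul_assoc, hk]
  congr 1
  exact Units.ext (Matrix.ext fun i j => (((ai : Matrix (Ix m) (Ix m) K) i j)).2)

/-! ### Fixed points -/

omit hm in
theorem center_bot (hm : 3 ≤ m) : Subgroup.center (Cfsg.Omega F ⇑(qOdd m F)) = ⊥ :=
  CfsgLib.OrthOddInv.center_omega_eq_bot h2 hm

omit h2 hm in
/-- The isometries over the fixed field. -/
noncomputable def inclO (h2 : (2 : F) ≠ 0) (K : Subfield F) : O (qOdd m K) →* O (qOdd m F) :=
  ((Matrix.GeneralLinearGroup.map K.subtype).comp (O (qOdd m K)).subtype).codRestrict _ fun s u _ => by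
    show qOdd m F (((s.1 : Matrix (Ix m) (Ix m) K).map K.subtype) *ᵥ u) = qOdd m F u
    refine ext_of_base h2 K ((qOdd m F).comp (Matrix.mulVecLin ((s.1 : Matrix (Ix m) (Ix m) K).map K.subtype)))
      (qOdd m F) (fun w => ?_) u
    simp only [QuadraticMap.comp_apply, Matrix.mulVecLin_apply]
    have e1 : ((s.1 : Matrix (Ix m) (Ix m) K).map K.subtype) *ᵥ (fun i => (w i : F)) =
        fun i => ((((s.1 : Matrix (Ix m) (Ix m) K) *ᵥ w) i : K) : F) :=
      funext fun i => (RingHom.map_mulVec K.subtype _ w i).symm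
    rw [e1, show qOdd m F (fun i => ((((s.1 : Matrix (Ix m) (Ix m) K) *ᵥ w) i : K) : F)) = _ from
      qOdd_map K.subtype ((s.1 : Matrix (Ix m) (Ix m) K) *ᵥ w), show qOdd m F (fun i => (w i : F)) = _ from qOdd_map K.subtype w]
    exact congrArg K.subtype (s.2 w w)

theorem fld_fix_iff (σ : F ≃+* F) (s : Om (qOdd m F)) :
    fld m σ (QuotientGroup.mk s) = QuotientGroup.mk s ↔
      ∀ i j, σ ((s.1.1 : Matrix (Ix m) (Ix m) F) i j) = (s.1.1 : Matrix (Ix m) (Ix m) F) i j := by
  have e : ((((fieldSemi m σ).omAut s).1).1 : Matrix (Ix m) (Ix m) F) = (s.1.1 : Matrix (Ix m) (Ix m) F).map σ := by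
    rw [Semi.omAut_coe, Semi.oAut_coe, Semi.glAut_coe]
    show (1 : Matrix (Ix m) (Ix m) F) * _ * ((1⁻¹ : GL (Ix m) F) : Matrix (Ix m) (Ix m) F) = _
    rw [inv_one, Units.val_one, one_mul, mul_one]
    rfl
  show (fieldSemi m σ).aut (QuotientGroup.mk s) = _ ↔ _
  rw [Semi.aut_mk]
  refine ⟨fun h => ?_, fun h => congrArg _ (Subtype.ext (Subtype.ext (Units.ext (e.trans (Matrix.ext h)))))⟩
  have h' := QuotientGroup.eq.1 h
  rw [center_bot h2 hm, Subgroup.mem_bot, inv_mul_eq_one] at h'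
  rw [h'] at e
  exact fun i j => (congrFun (congrFun e i) j).symm

theorem core_fixedPts {p : ℕ} [hp : Fact p.Prime] (σ : F ≃+* F)
    (hdvd : p ∣ Nat.card (fixedPts (fld (F := F) m σ))) :
    Cfsg.pPrimeCore p (fixedPts (fld (F := F) m σ)) = ⊥ := by
  classical
  set K := fixedSub σ with hK
  have : Fintype K := Fintype.ofFinite _
  have h2K : (2 : K) ≠ 0 := fun h => h2 (by
    have := congrArg K.subtype h; rwa [map_ofNat, map_zero] at this)
  let H : Subgroup (O (qOdd m K)) := (Cfsg.Omega F ⇑(qOdd m F)).comap (inclO h2 K)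
  have hmap : ∀ h : H, fld m σ (QuotientGroup.mk (⟨inclO h2 K h.1, h.2⟩ : Om (qOdd m F))) =
      QuotientGroup.mk (⟨inclO h2 K h.1, h.2⟩ : Om (qOdd m F)) := fun h =>
    (fld_fix_iff h2 hm σ _).2 fun i j => ((h.1.1 : Matrix (Ix m) (Ix m) K) i j).2
  let f : H →* fixedPts (fld (F := F) m σ) :=
    { toFun := fun h => ⟨QuotientGroup.mk (⟨inclO h2 K h.1, h.2⟩ : Om (qOdd m F)), hmap h⟩
      map_one' := Subtype.ext (congrArg QuotientGroup.mk (Subtype.ext (map_one _)))
      map_mul' := fun a b => Subtype.ext (congrArg QuotientGroup.mk (Subtype.ext (map_mul _ _ _))) }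
  have hf : Function.Bijective f := by
    constructor
    · intro a b h
      have h' := QuotientGroup.eq.1 (congrArg Subtype.val h)
      rw [center_bot h2 hm, Subgroup.mem_bot, inv_mul_eq_one] at h'
      refine Subtype.ext (Subtype.ext (Units.ext (Matrix.map_injective K.subtype.injective ?_)))
      exact congrArg (fun s : Om (qOdd m F) => (s.1.1 : Matrix (Ix m) (Ix m) F)) h'
    · rintro ⟨x, hx⟩
      obtain ⟨s, rfl⟩ := QuotientGroup.mk_surjective x
      have hs := (fld_fix_iff h2 hm σ s).1 hx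
      let M : Matrix (Ix m) (Ix m) K := fun i j => ⟨(s.1.1 : Matrix (Ix m) (Ix m) F) i j, hs i j⟩
      have hM : M.map K.subtype = (s.1.1 : Matrix (Ix m) (Ix m) F) := rfl
      have hdet : M.det ≠ 0 := fun h0 => by
        have h := RingHom.map_det K.subtype M
        rw [h0, map_zero, RingHom.mapMatrix_apply, hM] at h
        exact ((Matrix.isUnit_iff_isUnit_det _).mp s.1.1.isUnit).ne_zero h.symm
      have hmem : Matrix.GeneralLinearGroup.mkOfDetNeZero M hdet ∈ O (qOdd m K) := fun u _ => by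
        apply K.subtype.injective
        show ((qOdd m K (M *ᵥ u) : K) : F) = ((qOdd m K u : K) : F)
        rw [← show qOdd m F (fun i => ((M *ᵥ u) i : F)) = ((qOdd m K (M *ᵥ u) : K) : F) from qOdd_map K.subtype (M *ᵥ u),
          ← show qOdd m F (fun i => (u i : F)) = ((qOdd m K u : K) : F) from qOdd_map K.subtype u,
          show (fun i => ((M *ᵥ u) i : F)) = (s.1.1 : Matrix (Ix m) (Ix m) F) *ᵥ fun i => (u i : F) from
            funext fun i => RingHom.map_mulVec K.subtype M u i]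
        exact Q_app s.1 (fun i => ((u i : K) : F))
      have e : inclO h2 K ⟨_, hmem⟩ = s.1 := Subtype.ext (Units.ext hM)
      exact ⟨⟨⟨_, hmem⟩, show inclO h2 K _ ∈ _ by rw [e]; exact s.2⟩,
        Subtype.ext (congrArg QuotientGroup.mk (Subtype.ext e))⟩
  let e := MulEquiv.ofBijective f hf
  refine CfsgLib.PCore.pPrimeCore_eq_bot_of_equiv e ?_
  rw [← Nat.card_congr e.toEquiv] at hdvd
  set N := Cfsg.pPrimeCore p H
  have hN : N.Normal := Cfsg.pPrimeCore_normal p H
  have hcop : Nat.Coprime p (Nat.card N) := by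
    have := CfsgLib.PCore.pPrimeCore_coprime (p := p) (G := H)
    first | exact this | exact this.symm
  set W := Cfsg.Omega K ⇑(qOdd m K) with hW
  have hle : W ≤ H := by
    rw [← Subgroup.map_le_iff_le_comap, hW]
    show (commutator (O (qOdd m K))).map _ ≤ commutator (O (qOdd m F))
    rw [_root_.commutator_def, Subgroup.map_commutator]
    exact Subgroup.commutator_mono le_top le_top
  have hndK := qOdd_nondegenerate (F := K) (m := m) h2K
  have hcardW : p ∣ Nat.card W := by
    by_cases hp2 : p = 2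
    · subst hp2
      obtain ⟨y, hy, -⟩ := CfsgLib.OrthOddInv.exists_involutions h2K (m := m) hm
      obtain ⟨hy1, hyy⟩ := hy ⟨0, by omega⟩
      have ho : orderOf (y ⟨0, by omega⟩) = 2 := orderOf_eq_prime (by rw [pow_two]; exact hyy) hy1
      have h1 : 2 ∣ Nat.card (Cfsg.POmega K (Cfsg.quadFormOdd m K)) := ho ▸ orderOf_dvd_natCard _
      rw [← qOdd_coe] at h1
      exact h1.trans (Subgroup.card_quotient_dvd_card _)
    · obtain ⟨d, hd⟩ := FiniteField.exists_nonsquare (F := K) (fun h => h2K (by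
        have := ringChar.eq_iff.mp h
        exact CharTwo.two_eq_zero))
      have hi := CfsgLib.Orth.index_commutator hndK h2K hd (by rw [card_ix]; omega)
      have h4 : p ∣ 4 * Nat.card W := by
        refine (hdvd.trans (Subgroup.card_subgroup_dvd_card H)).trans ?_
        rw [← (commutator (O (qOdd m K))).card_mul_index, hi, mul_comm]
      refine (Nat.Coprime.dvd_of_dvd_mul_left ?_ h4)
      exact ((Nat.coprime_primes hp.out Nat.prime_two).mpr hp2).pow_right 2
  have hint : ∀ s : W, (⟨s.1, hle s.2⟩ : H) ∈ N → s = 1 := by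
    let N' : Subgroup W := N.comap (Subgroup.inclusion hle)
    have hN' : N'.Normal := hN.comap _
    rcases CfsgLib.POmega.normal_le_center_or_top hndK (by rw [card_ix]; omega) N' with h | h
    · intro s hs
      have h' := h (show s ∈ N' from hs)
      rwa [CfsgLib.OrthOddInv.center_omega_eq_bot h2K hm, Subgroup.mem_bot] at h'
    · exfalso
      have h1 : Nat.card N' ∣ Nat.card N :=
        Subgroup.card_comap_dvd_of_injective N _ (Subgroup.inclusion_injective hle)
      rw [h, Subgroup.card_top] at h1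
      exact hp.out.coprime_iff_not_dvd.mp hcop (hcardW.trans h1)
  rw [eq_bot_iff]
  intro n hn
  have hWn : W.Normal := inferInstance
  obtain ⟨c, hc⟩ := CfsgLib.OrthOddInv.central_eq_smul h2K (z := n.1) (fun g hg => by
    let s : W := ⟨n.1 * g * n.1⁻¹ * g⁻¹, W.mul_mem (hWn.conj_mem g hg n.1) (W.inv_mem hg)⟩
    have hs : (⟨s.1, hle s.2⟩ : H) ∈ N := by
      have h1 := hN.conj_mem n⁻¹ (N.inv_mem hn) ⟨g, hle hg⟩
      have h2' := N.mul_mem hn h1
      convert h2' using 1
      exact Subtype.ext (by simp [s, mul_assoc])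
    have h' : n.1 * g * n.1⁻¹ * g⁻¹ = 1 := congrArg Subtype.val (hint s hs)
    rw [mul_inv_eq_one, mul_inv_eq_iff_eq_mul] at h'
    exact h'.symm) hm
  have hmat : (n.1.1 : Matrix (Ix m) (Ix m) K) = c • 1 := by
    refine Matrix.toLin'.injective (LinearMap.ext fun y => ?_)
    simpa [app_apply] using hc y
  have hc2 : c * c = 1 := by
    have h := Q_app n.1 (CfsgLib.OrthOddInv.vec K m (.inl 0))
    rw [hc, QuadraticMap.map_smul, CfsgLib.OrthOddInv.Q_vec] at h
    simpa [CfsgLib.OrthOddInv.val] using h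
  have hd : (n.1.1 : Matrix (Ix m) (Ix m) K).det = 1 := by
    apply K.subtype.injective
    rw [RingHom.map_det, map_one]
    exact _root_.CfsgLib.POmega.det_omega _ n.2
  rw [hmat, Matrix.det_smul, Matrix.det_one, mul_one, card_ix, pow_succ, pow_mul, pow_two, hc2, one_pow,
    one_mul] at hd
  rw [Subgroup.mem_bot]
  exact Subtype.ext (Subtype.ext (Units.ext (by rw [hmat, hd, one_smul]; rfl)))

omit hm in
theorem rt_fixed (hm : 3 ≤ m) (σ : F ≃+* F) {u a : Ix m → F} (hu : qOdd m F u = 0)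
    (ha : polar (qOdd m F) u a = 0) (h1 : ⇑σ ∘ u = u) (h2' : ⇑σ ∘ a = a) :
    fld m σ ((oddFrame F h2 m hm).rt u a) = (oddFrame F h2 m hm).rt u a := by
  show (fieldSemi m σ).aut _ = _
  rw [Semi.aut_rt _ _ hu ha]
  have e : ∀ v, (fieldSemi m σ).ap v = ⇑σ ∘ v := fun v => Matrix.one_mulVec _
  rw [e, e, h1, h2', show (fieldSemi m σ).c = 1 from rfl, inv_one, one_smul]

/-- An automorphism fixing the fixed points of a field automorphism is a power of it. -/
theorem eq_field_of_fix (σ : F ≃+* F) (u : MulAut (PG (qOdd m F)))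
    (h : ∀ k ∈ fixedPts (fld (F := F) m σ), u k = k) : ∃ τ ∈ Subgroup.zpowers σ, u = fld m τ := by
  classical
  obtain ⟨q, hc, rfl⟩ := exists_norm h2 hm u
  set S := oddFrame F h2 m hm
  let z : Ix m → F := Pi.single (Sum.inl ()) 1
  have hsing : ∀ i : Ix m, ⇑σ ∘ (Pi.single i 1 : Ix m → F) = Pi.single i 1 := fun i => by
    funext j; simp [Pi.single_apply, apply_ite σ]
  have hzp : S.Perp z := fun k => by
    obtain ⟨j, b⟩ := k
    show polar (qOdd m F) z (Pi.single (Sum.inr (hypIdx (j, b))) 1) = 0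
    rw [polar_qOdd]
    cases b <;> simp [hypIdx, z, Pi.single_apply]
  obtain ⟨e, he0, hee, hT, hx, hz⟩ := S.scalar_of_fix_frame q {t | σ t = t} (map_one σ) {z}
    (fun a ha => by rw [Set.mem_singleton_iff.1 ha]; exact hzp)
    (fun k l hkl t ht => h _ (rt_fixed h2 hm σ (S.sing k)
      (by rw [polar_smul_right, S.pair_fst hkl, smul_zero]) (hsing _) (by
        funext j
        show σ ((t • S.x l) j) = (t • S.x l) j
        rw [Pi.smul_apply, smul_eq_mul, map_mul, show σ t = t from ht]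
        exact congrArg _ (congrFun (hsing _) j))))
    (fun k a ha => h _ (rt_fixed h2 hm σ (S.sing k)
      (by rw [polar_comm, Set.mem_singleton_iff.1 ha]; exact hzp k) (hsing _)
      (by rw [Set.mem_singleton_iff.1 ha]; exact hsing _)))
  refine ⟨q.σ, mem_zpowers_of_fixed hT, ?_⟩
  have hg : (q.g : Matrix (Ix m) (Ix m) F) = e • (1 : Matrix (Ix m) (Ix m) F) := by
    refine Matrix.ext_of_mulVec_single fun i => ?_
    have hap : q.ap (Pi.single i 1) = (q.g : Matrix (Ix m) (Ix m) F) *ᵥ Pi.single i 1 := by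
      rw [Semi.ap]; congr 1; funext j; simp [Pi.single_apply, apply_ite q.σ]
    rw [← hap, Matrix.smul_mulVec, Matrix.one_mulVec]
    rcases i with u | i | i
    · exact hz z rfl
    · exact hx (i, true)
    · exact hx (i, false)
  exact (aut_congr_smul (p := fieldSemi m q.σ) (p' := q) he0 hg rfl).symm

theorem exists_fixed_ne_one (σ : F ≃+* F) : ∃ k : PG (qOdd m F), k ≠ 1 ∧ fld m σ k = k := by
  set S := oddFrame F h2 m hm
  have h01 : ((⟨0, by omega⟩ : Fin m), true).1 ≠ ((⟨1, by omega⟩ : Fin m), true).1 := by simp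
  have hp := S.pair_fst h01
  have hsing : ∀ i : Ix m, ⇑σ ∘ (Pi.single i 1 : Ix m → F) = Pi.single i 1 := fun i => by
    funext j; simp [Pi.single_apply, apply_ite σ]
  refine ⟨_, S.rt_ne_one (S.sing _) hp ?_, rt_fixed h2 hm σ (S.sing _) hp (hsing _) (hsing _)⟩
  have := S.linearIndependent.comp ![((⟨0, by omega⟩ : Fin m), true), ((⟨1, by omega⟩ : Fin m), true)] (by
    intro i j h; fin_cases i <;> fin_cases j <;> simp_all)
  convert this using 1
  funext i; fin_cases i <;> rfl

end CfsgLib.AutPOmega.Odd
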